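import Cfsg.Agent.Lib.RootSub.Setup

/-!
# The setup for groups of rank one: involutions and the structure equation
-/

set_option autoImplicit false
set_option linter.style.haveILetI false
set_option linter.unusedSectionVars false

namespace CfsgLib.RootSub.Setup

open MulAction

variable {G Ω : Type*} [Group G] [Finite G] [MulAction G Ω] {a : Ω} {t : G} {Q : Subgroup G}
variable (hS : Cfsg.IsRankOneSetup G Ω a t Q)
include hS

local notation "D" => (stabilizer G a ⊓ stabilizer G (t • a))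
local notation "I" => Cfsg.involutionsIn (stabilizer G a : Set G)
local notation "J" => Cfsg.invertedBy (stabilizer G a ⊓ stabilizer G (t • a)) t

theorem involution_mem_Q {s : G} (hs : s ∈ I) : s ∈ Q := mem_Q_of_sq hS hs.1 hs.2.2

theorem involution_fix {s : G} (hs : s ∈ I) {c : Ω} (h : s • c = c) : c = a :=
  eq_a_of_fix hS (involution_mem_Q hS hs) hs.2.1 h

theorem odd_mul {s u : G} (hs : s ∈ I) (hu : u ∉ stabilizer G a) (hu2 : u * u = 1) :
    Odd (orderOf (s * u)) := by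
  rw [← Nat.not_even_iff_odd]
  rintro ⟨m, hm⟩
  have hm0 : 0 < m := by have := orderOf_pos (s * u); omega
  set z := (s * u) ^ m with hz
  have hzz : z⁻¹ = z := inv_eq_of_mul_eq_one_right (by rw [hz, ← pow_add, ← hm, pow_orderOf_eq_one])
  have hz1 : z ≠ 1 := pow_ne_one_of_lt_orderOf hm0.ne' (by omega)
  have hsi : s⁻¹ = s := inv_eq_of_mul_eq_one_right hs.2.2
  have hui : u⁻¹ = u := inv_eq_of_mul_eq_one_right hu2
  have hinv : ∀ w : G, w * (s * u) * w⁻¹ = (s * u)⁻¹ → w * z = z * w := by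
    intro w h
    have h1 : w * z * w⁻¹ = z := by rw [hz, ← conj_pow, h, inv_pow, ← hz, hzz]
    exact mul_inv_eq_iff_eq_mul.1 h1
  have hcs : s * z = z * s := hinv s (by rw [mul_inv_rev, hsi, hui, ← mul_assoc, hs.2.2, one_mul])
  have hcu : u * z = z * u := hinv u (by rw [mul_inv_rev, hsi, hui, mul_assoc, mul_assoc, hu2, mul_one])
  have hza : z • a = a := by
    refine involution_fix hS hs ?_
    rw [← mul_smul, hcs, mul_smul, mem_stabilizer_iff.1 hs.1]
  refine hu (mem_stabilizer_iff.2 (involution_fix hS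
    (s := z) ⟨mem_stabilizer_iff.2 hza, hz1, by nth_rewrite 1 [← hzz]; exact inv_mul_cancel z⟩ ?_))
  rw [← mul_smul, ← hcu, mul_smul, hza]

theorem exists_conj {s u : G} (hs : s ∈ I) (hu : u ∉ stabilizer G a) (hu2 : u * u = 1) :
    ∃ g : G, g * u * g⁻¹ = s := by
  obtain ⟨k, hk⟩ := odd_mul hS hs hu hu2
  set r := s * u with hr
  have hui : u⁻¹ = u := inv_eq_of_mul_eq_one_right hu2
  have hinv : u * r * u⁻¹ = r⁻¹ := by
    rw [hr, mul_inv_rev, inv_eq_of_mul_eq_one_right hs.2.2, hui, mul_assoc, mul_assoc, hu2, mul_one]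
  refine ⟨r ^ (k + 1), ?_⟩
  have h1 : u * (r ^ (k + 1))⁻¹ = r ^ (k + 1) * u := by
    rw [← inv_pow, ← hinv, conj_pow, ← mul_assoc, ← mul_assoc, hu2, one_mul, hui]
  rw [mul_assoc, h1, ← mul_assoc, ← pow_add, show k + 1 + (k + 1) = orderOf r + 1 by omega, pow_succ,
    pow_orderOf_eq_one, one_mul, hr, mul_assoc, hu2, mul_one]

theorem exists_involution : ∃ s, s ∈ I := by
  haveI : Fact (Nat.Prime 2) := ⟨Nat.prime_two⟩
  obtain ⟨s, hs⟩ := exists_prime_orderOf_dvd_card' 2 (even_iff_two_dvd.1 hS.even_card)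
  refine ⟨s, hS.le s.2, fun e => ?_, ?_⟩
  · rw [show s = 1 from Subtype.ext e, orderOf_one] at hs
    omega
  · rw [← pow_two, ← hs, ← Subgroup.orderOf_coe, pow_orderOf_eq_one]

theorem exists_fixed {u : G} (hu1 : u ≠ 1) (hu2 : u * u = 1) :
    ∃ p : Ω, u • p = p ∧ ∀ c : Ω, u • c = c → c = p := by
  obtain ⟨s0, hs0⟩ := exists_involution hS
  by_cases hu : u ∈ stabilizer G a
  · exact ⟨a, mem_stabilizer_iff.1 hu, fun c hc => involution_fix hS ⟨hu, hu1, hu2⟩ hc⟩
  obtain ⟨g, hg⟩ := exists_conj hS hs0 hu hu2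
  refine ⟨g⁻¹ • a, ?_, fun c hc => ?_⟩
  · rw [show u = g⁻¹ * s0 * g by rw [← hg]; group, mul_smul, mul_smul, smul_inv_smul,
      mem_stabilizer_iff.1 hs0.1]
  · have h1 : g • c = a := involution_fix hS hs0 (by
      rw [← hg, mul_smul, mul_smul, inv_smul_smul, hc])
    rw [← h1, inv_smul_smul]

theorem finite_points : Finite Ω := Nat.finite_of_card_ne_zero (by rw [card_points hS]; omega)

/-- Every outside element has a form `f⁻¹ h t f` when it is an involution. -/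
theorem involution_form {u : G} (hu : u ∉ stabilizer G a) (hu2 : u * u = 1) :
    ∃ h ∈ J, ∃ f ∈ Q, u = f⁻¹ * h * t * f := by
  obtain ⟨p, hp, f, hf, he⟩ := decomp hS hu
  have hsup : p ∈ Q ⊔ D := by rw [hS.sup_eq]; exact hp
  have hle : D ≤ Subgroup.normalizer (Q : Set G) := fun d hd =>
    Subgroup.mem_normalizer_iff.2 fun x => ⟨hS.conj_mem d hd.1 x, fun hx => by
      simpa [mul_assoc] using hS.conj_mem d⁻¹ (inv_mem hd.1) _ hx⟩
  rw [← SetLike.mem_coe, Subgroup.coe_mul_of_right_le_normalizer_left _ _ hle] at hsup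
  obtain ⟨g, hg, h, hh, rfl⟩ := Set.mem_mul.1 hsup
  have ht := t_inv hS
  have e : f⁻¹ * (t * h⁻¹ * t) * t * g⁻¹ = g * h * t * f := by
    rw [← he]
    calc f⁻¹ * (t * h⁻¹ * t) * t * g⁻¹ = f⁻¹ * t * h⁻¹ * (t * t) * g⁻¹ := by group
      _ = f⁻¹ * t⁻¹ * h⁻¹ * g⁻¹ := by rw [hS.mul_self, ht, mul_one]
      _ = (g * h * t * f)⁻¹ := by group
      _ = u⁻¹ := by rw [← he]
      _ = u := inv_eq_of_mul_eq_one_right hu2
  obtain ⟨-, e2, e3⟩ := ghtf_unique hS (inv_mem hf) hg (conj_t_mem_D hS (inv_mem hh)) hh (inv_mem hg) hf e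
  refine ⟨h, ⟨hh, ?_⟩, f, hf, ?_⟩
  · calc t * h * t⁻¹ = (t⁻¹⁻¹ * h⁻¹ * t⁻¹)⁻¹ := by group
      _ = (t * h⁻¹ * t)⁻¹ := by rw [inv_inv, ht]
      _ = h⁻¹ := by rw [e2]
  · rw [he, show f⁻¹ = g by rw [← e3, inv_inv]]

theorem card_outside :
    Nat.card {u : G // u ∉ stabilizer G a ∧ u * u = 1} = Nat.card Q * Nat.card J := by
  have ht := t_inv hS
  have hmem : ∀ (f : Q) (h : J), (f : G)⁻¹ * h * t * f ∉ stabilizer G a ∧
      (f : G)⁻¹ * h * t * f * ((f : G)⁻¹ * h * t * f) = 1 := by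
    intro f h
    refine ⟨fun hm => hS.not_mem ?_, ?_⟩
    · have h1 := mul_mem (mul_mem ((stabilizer G a).inv_mem h.2.1.1) (mul_mem (mul_mem (hS.le f.2) hm) ((stabilizer G a).inv_mem (hS.le f.2))))
        (one_mem (stabilizer G a))
      rwa [show (h : G)⁻¹ * (f * ((f : G)⁻¹ * h * t * f) * (f : G)⁻¹) * 1 = t by group] at h1
    · calc (f : G)⁻¹ * h * t * f * ((f : G)⁻¹ * h * t * f) = (f : G)⁻¹ * h * (t * h * t⁻¹) * (t * t) * f := by group
        _ = 1 := by rw [h.2.2, hS.mul_self, mul_one, mul_inv_cancel_right, inv_mul_cancel]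
  let φ : Q × J → {u : G // u ∉ stabilizer G a ∧ u * u = 1} := fun p => ⟨_, hmem p.1 p.2⟩
  have hφ : Function.Bijective φ := by
    refine ⟨fun p q h => ?_, fun u => ?_⟩
    · obtain ⟨-, e2, e3⟩ := ghtf_unique hS (inv_mem p.1.2) (inv_mem q.1.2) p.2.2.1 q.2.2.1 p.1.2 q.1.2
        (congrArg Subtype.val h)
      exact Prod.ext (Subtype.ext e3) (Subtype.ext e2)
    · obtain ⟨h, hh, f, hf, e⟩ := involution_form hS u.2.1 u.2.2
      exact ⟨(⟨f, hf⟩, ⟨h, hh⟩), Subtype.ext e.symm⟩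
  rw [← Nat.card_eq_of_bijective φ hφ, Nat.card_prod]

theorem card_involutions : Nat.card I = Nat.card J := by
  classical
  haveI := finite_points hS
  haveI := hS.two_transitive
  haveI : IsPretransitive G Ω := isPretransitive_of_is_two_pretransitive
  choose g hg using fun c : Ω => exists_smul_eq G a c
  let T := {u : G // u ≠ 1 ∧ u * u = 1}
  let ψ : Ω × I → T := fun p => ⟨g p.1 * p.2 * (g p.1)⁻¹, fun e => p.2.2.2.1 (conj_eq_one_iff.1 e), by
    rw [show g p.1 * (p.2 : G) * (g p.1)⁻¹ * (g p.1 * p.2 * (g p.1)⁻¹) = g p.1 * ((p.2 : G) * p.2) * (g p.1)⁻¹ by group,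
      p.2.2.2.2, mul_one, mul_inv_cancel]⟩
  have hψfix : ∀ p, (ψ p).1 • p.1 = p.1 := fun p => by
    show (g p.1 * (p.2 : G) * (g p.1)⁻¹) • p.1 = p.1
    rw [mul_smul, mul_smul, inv_smul_eq_iff.2 (hg p.1).symm, mem_stabilizer_iff.1 p.2.2.1, hg]
  have hψ : Function.Bijective ψ := by
    refine ⟨fun p q h => ?_, fun u => ?_⟩
    · obtain ⟨c, -, hc⟩ := exists_fixed hS (ψ p).2.1 (ψ p).2.2
      have hpc : p.1 = q.1 := (hc p.1 (hψfix p)).trans (hc q.1 (h ▸ hψfix q)).symm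
      obtain ⟨pc, ps⟩ := p
      obtain ⟨qc, qs⟩ := q
      simp only at hpc
      subst hpc
      have h1 : g pc * (ps : G) * (g pc)⁻¹ = g pc * qs * (g pc)⁻¹ := congrArg Subtype.val h
      exact Prod.ext rfl (Subtype.ext (mul_left_cancel (mul_right_cancel h1)))
    · obtain ⟨c, hc, -⟩ := exists_fixed hS u.2.1 u.2.2
      refine ⟨(c, ⟨(g c)⁻¹ * u * g c, mem_stabilizer_iff.2 ?_, fun e => u.2.1 ?_, ?_⟩), Subtype.ext ?_⟩
      · rw [mul_smul, mul_smul, hg, hc]
        exact inv_smul_eq_iff.2 (hg c).symm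
      · have h1 := congrArg (fun w => g c * w * (g c)⁻¹) e
        simpa [mul_assoc] using h1
      · rw [show (g c)⁻¹ * u.1 * g c * ((g c)⁻¹ * u * g c) = (g c)⁻¹ * (u.1 * u) * g c by group, u.2.2,
          mul_one, inv_mul_cancel]
      · show g c * ((g c)⁻¹ * u.1 * g c) * (g c)⁻¹ = u.1
        group
  have h1 : Nat.card T = (Nat.card Q + 1) * Nat.card I := by
    rw [← Nat.card_eq_of_bijective ψ hψ, Nat.card_prod, card_points hS]
  let e : T ≃ I ⊕ {u : G // u ∉ stabilizer G a ∧ u * u = 1} :=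
    { toFun := fun u => if hu : u.1 ∈ stabilizer G a then Sum.inl ⟨u.1, hu, u.2⟩ else Sum.inr ⟨u.1, hu, u.2.2⟩
      invFun := fun u => u.elim (fun s => ⟨s.1, s.2.2⟩) (fun w => ⟨w.1, fun e => w.2.1 (by rw [e]; exact one_mem _), w.2.2⟩)
      left_inv := fun u => by
        by_cases hu : u.1 ∈ stabilizer G a <;> simp [hu]
      right_inv := fun u => by
        rcases u with s | w
        · simp only [Sum.elim_inl]
          exact dif_pos s.2.1
        · simp only [Sum.elim_inr]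
          exact dif_neg w.2.1 }
  have h2 : Nat.card T = Nat.card I + Nat.card Q * Nat.card J := by
    rw [Nat.card_congr e, Nat.card_sum, card_outside hS]
  have h3 : Nat.card Q * Nat.card I = Nat.card Q * Nat.card J := by
    rw [h1, add_mul, one_mul] at h2
    omega
  exact Nat.eq_of_mul_eq_mul_left Nat.card_pos h3

theorem exists_rel {s : G} (hs : s ∈ I) : ∃ h ∈ J, ∃ f ∈ Q, t * s * t = f⁻¹ * h * t * f := by
  refine involution_form hS (fun h => ta_ne hS ?_) ?_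
  · have h1 := mem_stabilizer_iff.1 h
    rw [mul_smul, mul_smul] at h1
    have h2 := congrArg (fun c => t • c) h1
    simp only [t_t hS] at h2
    exact involution_fix hS hs h2
  · calc t * s * t * (t * s * t) = t * s * (t * t) * s * t := by group
      _ = t * (s * s) * t := by rw [hS.mul_self]; group
      _ = 1 := by rw [hs.2.2, mul_one, hS.mul_self]

theorem rel_unique {s h h' f f' : G} (hh : h ∈ D) (hh' : h' ∈ D) (hf : f ∈ Q) (hf' : f' ∈ Q)
    (e : t * s * t = f⁻¹ * h * t * f) (e' : t * s * t = f'⁻¹ * h' * t * f') : h = h' ∧ f = f' := by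
  obtain ⟨-, h2, h3⟩ := ghtf_unique hS (inv_mem hf) (inv_mem hf') hh hh' hf hf' (e.symm.trans e')
  exact ⟨h2, h3⟩

theorem rel_conj {s h f c : G} (hc : c ∈ D) (hf : f ∈ Q) (e : t * s * t = f⁻¹ * h * t * f) :
    ∃ f' ∈ Q, t * (c⁻¹ * s * c) * t = f'⁻¹ * ((t * c * t)⁻¹ * h * c) * t * f' := by
  have hd := conj_t_mem_D hS hc
  set d := t * c * t with hd'
  refine ⟨d⁻¹ * f * d, (Q_normalized hS hd hf).2, ?_⟩
  have h3 : t * d = c * t := by
    rw [hd', show t * (t * c * t) = (t * t) * (c * t) by group, hS.mul_self, one_mul]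
  have h2 : t * c⁻¹ * t = d⁻¹ := by
    rw [hd', mul_inv_rev, mul_inv_rev, t_inv hS, mul_assoc]
  calc t * (c⁻¹ * s * c) * t = t * c⁻¹ * (t * t) * s * (t * t) * c * t := by rw [hS.mul_self]; group
    _ = (t * c⁻¹ * t) * (t * s * t) * (t * c * t) := by group
    _ = d⁻¹ * (f⁻¹ * h * t * f) * d := by rw [h2, e]
    _ = d⁻¹ * f⁻¹ * d * d⁻¹ * h * (t * d) * (d⁻¹ * f * d) := by group
    _ = d⁻¹ * f⁻¹ * d * d⁻¹ * h * (c * t) * (d⁻¹ * f * d) := by rw [h3]
    _ = (d⁻¹ * f * d)⁻¹ * (d⁻¹ * h * c) * t * (d⁻¹ * f * d) := by group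

theorem conj_involution {s c : G} (hs : s ∈ I) (hc : c ∈ stabilizer G a) : c⁻¹ * s * c ∈ I := by
  refine ⟨mul_mem (mul_mem (inv_mem hc) hs.1) hc, fun e => hs.2.1 ?_, ?_⟩
  · have h1 := congrArg (fun w => c * w * c⁻¹) e
    simpa [mul_assoc] using h1
  · rw [show c⁻¹ * s * c * (c⁻¹ * s * c) = c⁻¹ * (s * s) * c by group, hs.2.2, mul_one, inv_mul_cancel]

theorem inverted_conj {k : G} (hk : k ∈ J) : t * k * t = k⁻¹ := by
  have h := hk.2
  rwa [t_inv hS] at h

theorem exists_sqrt {x : G} (hx : x ∈ J) : ∃ k ∈ J, k * k = x := by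
  obtain ⟨m, hm⟩ := hS.odd_card
  refine ⟨x ^ (m + 1), ⟨pow_mem hx.1 _, ?_⟩, ?_⟩
  · rw [← conj_pow, hx.2, inv_pow]
  · rw [← pow_add, show m + 1 + (m + 1) = Nat.card ↥D + 1 by omega, pow_succ,
      orderOf_dvd_iff_pow_eq_one.1 (Subgroup.orderOf_dvd_natCard _ hx.1), one_mul]

theorem sq_injective {x y : G} (hx : x ∈ D) (hy : y ∈ D) (h : x * x = y * y) : x = y := by
  obtain ⟨m, hm⟩ := hS.odd_card
  have key : ∀ z ∈ D, (z * z) ^ (m + 1) = z := fun z hz => by
    rw [← pow_two, ← pow_mul, show 2 * (m + 1) = Nat.card ↥D + 1 by omega, pow_succ,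
      orderOf_dvd_iff_pow_eq_one.1 (Subgroup.orderOf_dvd_natCard _ hz), one_mul]
  rw [← key x hx, h, key y hy]

/-- Conjugation by inverted elements of `D` is a bijection onto the involutions of `G_a`. -/
theorem conj_bijective {s : G} (hs : s ∈ I) :
    Function.Bijective (fun k : J => (⟨(k : G)⁻¹ * s * k, conj_involution hS hs k.2.1.1⟩ : I)) := by
  refine (Nat.bijective_iff_injective_and_card _).2 ⟨fun k k' e => ?_, (card_involutions hS).symm⟩
  obtain ⟨h, hh, f, hf, he⟩ := exists_rel hS hs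
  obtain ⟨l, hl, rfl⟩ := exists_sqrt hS hh
  obtain ⟨f1, hf1, e1⟩ := rel_conj hS k.2.1 hf he
  obtain ⟨f2, hf2, e2⟩ := rel_conj hS k'.2.1 hf he
  have e' : (k : G)⁻¹ * s * k = (k' : G)⁻¹ * s * k' := congrArg Subtype.val e
  rw [inverted_conj hS k.2, inv_inv] at e1
  rw [inverted_conj hS k'.2, inv_inv, ← e'] at e2
  obtain ⟨h1, -⟩ := rel_unique hS (mul_mem (mul_mem k.2.1 hh.1) k.2.1) (mul_mem (mul_mem k'.2.1 hh.1) k'.2.1)
    hf1 hf2 e1 e2
  have h2 : l * (k : G) * l = l * (k' : G) * l := by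
    refine sq_injective hS (mul_mem (mul_mem hl.1 k.2.1) hl.1) (mul_mem (mul_mem hl.1 k'.2.1) hl.1) ?_
    calc l * (k : G) * l * (l * k * l) = l * ((k : G) * (l * l) * k) * l := by group
      _ = l * ((k' : G) * (l * l) * k') * l := by rw [h1]
      _ = l * (k' : G) * l * (l * k' * l) := by group
  exact Subtype.ext (mul_left_cancel (mul_right_cancel h2))

/-- The structure equation. -/
theorem exists_structure : ∃ s ∈ I, ∃ r ∈ Q, t * s * t = r⁻¹ * t * r := by
  obtain ⟨s, hs⟩ := exists_involution hS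
  obtain ⟨h, hh, f, hf, he⟩ := exists_rel hS hs
  obtain ⟨l, hl, rfl⟩ := exists_sqrt hS hh
  obtain ⟨f', hf', e'⟩ := rel_conj hS (inv_mem hl.1) hf he
  refine ⟨_, conj_involution hS hs (inv_mem hl.1.1), f', hf', ?_⟩
  rw [e']
  have h1 : t * l⁻¹ * t = l := by
    have h2 := inverted_conj hS hl
    calc t * l⁻¹ * t = (t⁻¹ * l * t⁻¹)⁻¹ := by group
      _ = (t * l * t)⁻¹ := by rw [t_inv hS]
      _ = l := by rw [h2, inv_inv]
  rw [h1]
  group

theorem structure_unique {s s' r r' : G} (hs : s ∈ I) (hs' : s' ∈ I) (hr : r ∈ Q) (hr' : r' ∈ Q)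
    (e : t * s * t = r⁻¹ * t * r) (e' : t * s' * t = r'⁻¹ * t * r') : s = s' ∧ r = r' := by
  obtain ⟨k, hk⟩ := (conj_bijective hS hs).2 ⟨s', hs'⟩
  have hk' : (k : G)⁻¹ * s * k = s' := congrArg Subtype.val hk
  obtain ⟨f1, hf1, e1⟩ := rel_conj hS (s := s) k.2.1 hr (h := 1) (by rw [mul_one]; exact e)
  rw [inverted_conj hS k.2, inv_inv, hk', mul_one] at e1
  obtain ⟨h1, -⟩ := rel_unique hS (mul_mem k.2.1 k.2.1) (one_mem D) hf1 hr' e1 (by rw [mul_one]; exact e')
  have h2 : (k : G) = 1 := sq_injective hS k.2.1 (one_mem D) (by rw [h1, mul_one])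
  have h3 : s = s' := by rw [← hk', h2, inv_one, one_mul, mul_one]
  subst h3
  exact ⟨rfl, (rel_unique hS (s := s) (one_mem D) (one_mem D) hr hr' (by rw [mul_one]; exact e) (by rw [mul_one]; exact e')).2⟩

theorem commute_t_iff {s r : G} (hs : s ∈ I) (hr : r ∈ Q) (e : t * s * t = r⁻¹ * t * r) {c : G}
    (hc : c ∈ D) : c * t = t * c ↔ c * s = s * c := by
  obtain ⟨f, hf, e1⟩ := rel_conj hS (s := s) hc hr (h := 1) (by rw [mul_one]; exact e)
  rw [mul_one] at e1
  constructor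
  · intro h
    have h1 : t * c * t = c := by rw [← h, mul_assoc, hS.mul_self, mul_one]
    rw [h1, inv_mul_cancel, mul_one] at e1
    have h2 := (structure_unique hS hs (conj_involution hS hs hc.1) hr hf e e1).1
    calc c * s = c * (c⁻¹ * s * c) := by rw [← h2]
      _ = s * c := by group
  · intro h
    have h1 : c⁻¹ * s * c = s := by rw [mul_assoc, ← h, inv_mul_cancel_left]
    rw [h1] at e1
    have h2 := (rel_unique hS (one_mem D) (mul_mem (inv_mem (conj_t_mem_D hS hc)) hc) hr hf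
      (by rw [mul_one]; exact e) e1).1
    have h3 : t * c * t = c := inv_mul_eq_one.1 h2.symm
    calc c * t = t * c * t * t := by rw [h3]
      _ = t * c := by rw [mul_assoc (t * c), hS.mul_self, mul_one]

/-- Elements of `C(X)` in a conjugate of `Q` move fixed points of `X` to each other. -/
theorem centralizer_transitive {X : Set G} {b c d : Ω} (hb : ∀ x ∈ X, x • b = b)
    (hc : ∀ x ∈ X, x • c = c) (hd : ∀ x ∈ X, x • d = d) (hcb : c ≠ b) (hdb : d ≠ b) :
    ∃ g : G, g ∈ Subgroup.centralizer X ∧ g • b = b ∧ g • c = d ∧ (b = a → g ∈ Q) := by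
  classical
  haveI := hS.two_transitive
  haveI : IsPretransitive G Ω := isPretransitive_of_is_two_pretransitive
  obtain ⟨g0, hg0⟩ : ∃ g0 : G, g0 • a = b ∧ (b = a → g0 = 1) := by
    by_cases h : b = a
    · exact ⟨1, by rw [one_smul, h], fun _ => rfl⟩
    · obtain ⟨g0, hg⟩ := exists_smul_eq G a b
      exact ⟨g0, hg, fun e => absurd e h⟩
  have hne : ∀ {w : Ω}, w ≠ b → g0⁻¹ • w ≠ a := fun hw e => hw (by rw [← hg0.1, ← e, smul_inv_smul])
  obtain ⟨⟨q, hq⟩, hqc, huniq⟩ := regular hS (hne hcb) (hne hdb)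
  simp only at hqc
  refine ⟨g0 * q * g0⁻¹, Subgroup.mem_centralizer_iff.2 fun x hx => ?_, ?_, ?_, fun e => ?_⟩
  · have hy : g0⁻¹ * x * g0 ∈ stabilizer G a := mem_stabilizer_iff.2 (by
      rw [mul_smul, mul_smul, hg0.1, hb x hx, ← hg0.1, inv_smul_smul])
    set y := g0⁻¹ * x * g0 with hy'
    have hfix : ∀ {w : Ω}, x • w = w → y⁻¹ • (g0⁻¹ • w) = g0⁻¹ • w ∧ y • (g0⁻¹ • w) = g0⁻¹ • w := by
      intro w hw
      have h1 : y • (g0⁻¹ • w) = g0⁻¹ • w := by rw [hy', mul_smul, mul_smul, smul_inv_smul, hw]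
      refine ⟨?_, h1⟩
      conv_lhs => rw [← h1]
      rw [inv_smul_smul]
    have h1 := huniq ⟨y * q * y⁻¹, hS.conj_mem y hy q hq⟩ (by
      show (y * q * y⁻¹) • (g0⁻¹ • c) = g0⁻¹ • d
      rw [mul_smul, mul_smul, (hfix (hc x hx)).1, hqc, (hfix (hd x hx)).2])
    have h2 : y * q * y⁻¹ = q := congrArg Subtype.val h1
    calc x * (g0 * q * g0⁻¹) = g0 * (y * q * y⁻¹) * (y * g0⁻¹) := by rw [hy']; group
      _ = g0 * q * (y * g0⁻¹) := by rw [h2]
      _ = g0 * q * g0⁻¹ * x := by rw [hy']; group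
  · rw [mul_smul, mul_smul, ← hg0.1, inv_smul_smul, fix_a hS hq]
  · rw [mul_smul, mul_smul, hqc, smul_inv_smul]
  · rw [hg0.2 e, one_mul, inv_one, mul_one]
    exact hq

/-- With a third fixed point, `C(X)` contains an involution exchanging `a` and `t • a`. -/
theorem exists_swap {X : Set G} (hX : X ⊆ (D : Set G))
    (h3 : ∃ b c d : Ω, b ≠ c ∧ b ≠ d ∧ c ≠ d ∧ ∀ x ∈ X, x • b = b ∧ x • c = c ∧ x • d = d) :
    ∃ u : G, u ∈ Subgroup.centralizer X ∧ u * u = 1 ∧ u • a = t • a ∧ u • (t • a) = a := by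
  classical
  have hXa : ∀ x ∈ X, x • a = a := fun x hx => mem_stabilizer_iff.1 (hX hx).1
  have hXb : ∀ x ∈ X, x • (t • a) = t • a := fun x hx => mem_stabilizer_iff.1 (hX hx).2
  obtain ⟨p, hp, hpa, hpb⟩ : ∃ p : Ω, (∀ x ∈ X, x • p = p) ∧ p ≠ a ∧ p ≠ t • a := by
    obtain ⟨b, c, d, hbc, hbd, hcd, h⟩ := h3
    by_contra hh
    push Not at hh
    have hb := hh b (fun x hx => (h x hx).1)
    have hc := hh c (fun x hx => (h x hx).2.1)
    have hd := hh d (fun x hx => (h x hx).2.2)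
    by_cases q1 : b = a
    · by_cases q2 : c = a
      · exact hbc (q1.trans q2.symm)
      · by_cases q3 : d = a
        · exact hbd (q1.trans q3.symm)
        · exact hcd ((hc q2).trans (hd q3).symm)
    · by_cases q2 : c = a
      · by_cases q3 : d = a
        · exact hcd (q2.trans q3.symm)
        · exact hbd ((hb q1).trans (hd q3).symm)
      · exact hbc ((hb q1).trans (hc q2).symm)
  -- move `a` to `t • a`, then fix that point and correct the other one
  obtain ⟨g1, hg1, -, hg1a, -⟩ := centralizer_transitive hS (b := p) hp hXa hXb hpa.symm hpb.symm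
  have hne : g1 • (t • a) ≠ t • a := fun e => ta_ne hS (by
    conv_rhs at e => rw [← hg1a]
    exact smul_left_cancel g1 e)
  have hfx : ∀ x ∈ X, x • (g1 • (t • a)) = g1 • (t • a) := fun x hx => by
    rw [← mul_smul, Subgroup.mem_centralizer_iff.1 hg1 x hx, mul_smul, hXb x hx]
  obtain ⟨g2, hg2, hg2b, hg2c, -⟩ := centralizer_transitive hS (b := t • a) hXb hfx hXa hne (ta_ne hS).symm
  set g := g2 * g1 with hg
  have hga : g • a = t • a := by rw [hg, mul_smul, hg1a, hg2b]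
  have hgb : g • (t • a) = a := by rw [hg, mul_smul, hg2c]
  obtain ⟨m, hm⟩ := hS.odd_card
  have hgg : g * g ∈ D := Subgroup.mem_inf.2 ⟨mem_stabilizer_iff.2 (by rw [mul_smul, hga, hgb]),
    mem_stabilizer_iff.2 (by rw [mul_smul, hgb, hga])⟩
  have hgp : (g * g) ^ Nat.card ↥D = 1 :=
    orderOf_dvd_iff_pow_eq_one.1 (Subgroup.orderOf_dvd_natCard _ hgg)
  have hev : ∀ k : ℕ, (g * g) ^ k • a = a ∧ (g * g) ^ k • (t • a) = t • a := fun k =>
    ⟨mem_stabilizer_iff.1 (pow_mem hgg k).1, mem_stabilizer_iff.1 (pow_mem hgg k).2⟩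
  refine ⟨(g * g) ^ m * g, mul_mem (pow_mem (mul_mem (mul_mem hg2 hg1) (mul_mem hg2 hg1)) m) (mul_mem hg2 hg1),
    ?_, ?_, ?_⟩
  · have hcg : Commute ((g * g) ^ m) g := ((Commute.refl g).mul_left (Commute.refl g)).pow_left m
    calc (g * g) ^ m * g * ((g * g) ^ m * g) = (g * g) ^ m * (g * (g * g) ^ m) * g := by group
      _ = (g * g) ^ m * ((g * g) ^ m * g) * g := by rw [hcg.eq]
      _ = (g * g) ^ (m + m + 1) := by rw [pow_succ, pow_add]; group
      _ = 1 := by rw [show m + m + 1 = Nat.card ↥D by omega, hgp]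
  · rw [mul_smul, hga, (hev m).2]
  · rw [mul_smul, hgb, (hev m).1]

end CfsgLib.RootSub.Setup
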