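import Cfsg.Prelude.Def_LieRecognition

/-!
# The setup for groups of rank one: first properties
-/

set_option autoImplicit false
set_option linter.style.haveILetI false
set_option linter.unusedSectionVars false

namespace CfsgLib.RootSub.Setup

open MulAction

variable {G Ω : Type*} [Group G] [Finite G] [MulAction G Ω] {a : Ω} {t : G} {Q : Subgroup G}
variable (hS : Cfsg.IsRankOneSetup G Ω a t Q)
include hS

theorem ta_ne : t • a ≠ a := fun e => hS.not_mem (mem_stabilizer_iff.2 e)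

theorem t_inv : t⁻¹ = t := inv_eq_of_mul_eq_one_right hS.mul_self

theorem t_t (c : Ω) : t • t • c = c := by rw [← mul_smul, hS.mul_self, one_smul]

theorem fix_a {x : G} (hx : x ∈ Q) : x • a = a := mem_stabilizer_iff.1 (hS.le hx)

/-- The action of `Q` on the other points is transitive. -/
theorem exists_Q {c : Ω} (hc : c ≠ a) : ∃ x ∈ Q, x • (t • a) = c := by
  obtain ⟨g, hg1, hg2⟩ := is_two_pretransitive_iff.1 hS.two_transitive (ta_ne hS).symm hc.symm
  have hg : g ∈ Q ⊔ (stabilizer G a ⊓ stabilizer G (t • a)) := by rw [hS.sup_eq]; exact hg1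
  haveI := (Subgroup.normal_subgroupOf_iff_le_normalizer hS.le).2 (fun h hh =>
    Subgroup.mem_normalizer_iff.2 fun x => ⟨hS.conj_mem h hh x, fun hx => by
      simpa [mul_assoc] using hS.conj_mem h⁻¹ (inv_mem hh) _ hx⟩)
  obtain ⟨x, hx, d, hd, rfl⟩ : ∃ x ∈ Q, ∃ d ∈ stabilizer G a ⊓ stabilizer G (t • a), x * d = g := by
    have hle : stabilizer G a ⊓ stabilizer G (t • a) ≤ Subgroup.normalizer (Q : Set G) := fun h hh =>
      Subgroup.mem_normalizer_iff.2 fun x => ⟨hS.conj_mem h hh.1 x, fun hx => by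
        simpa [mul_assoc] using hS.conj_mem h⁻¹ (inv_mem hh.1) _ hx⟩
    rw [← SetLike.mem_coe, Subgroup.coe_mul_of_right_le_normalizer_left _ _ hle] at hg
    obtain ⟨x, hx, d, hd, e⟩ := Set.mem_mul.1 hg
    exact ⟨x, hx, d, hd, e⟩
  exact ⟨x, hx, by rw [← hg2, mul_smul, mem_stabilizer_iff.1 (Subgroup.mem_inf.1 hd).2]⟩

theorem eq_one_of_fix {x : G} (hx : x ∈ Q) {c : Ω} (hc : c ≠ a) (hfix : x • c = c) : x = 1 := by
  obtain ⟨y, hy, rfl⟩ := exists_Q hS hc
  have h : y⁻¹ * x * y ∈ Q ⊓ stabilizer G (t • a) := Subgroup.mem_inf.2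
    ⟨mul_mem (mul_mem (inv_mem hy) hx) hy,
      mem_stabilizer_iff.2 (by rw [mul_smul, mul_smul, hfix, inv_smul_smul])⟩
  rw [hS.inf_eq_bot, Subgroup.mem_bot] at h
  have := congrArg (fun u => y * u * y⁻¹) h
  simpa [mul_assoc] using this

theorem regular {b c : Ω} (hb : b ≠ a) (hc : c ≠ a) : ∃! x : Q, (x : G) • b = c := by
  obtain ⟨y, hy, rfl⟩ := exists_Q hS hb
  obtain ⟨z, hz, rfl⟩ := exists_Q hS hc
  refine ⟨⟨z * y⁻¹, mul_mem hz (inv_mem hy)⟩, ?_, fun x hx => Subtype.ext ?_⟩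
  · show (z * y⁻¹) • y • (t • a) = z • (t • a)
    rw [mul_smul, inv_smul_smul]
  · have h1 : (y⁻¹ * ((z * y⁻¹)⁻¹ * x) * y) • (t • a) = t • a := by
      rw [mul_smul, mul_smul, mul_smul, hx, mul_inv_rev, inv_inv, mul_smul, inv_smul_smul, inv_smul_smul]
    have h2 := eq_one_of_fix hS (mul_mem (mul_mem (inv_mem hy)
      (mul_mem (inv_mem (mul_mem hz (inv_mem hy))) x.2)) hy) (ta_ne hS) h1
    have h3 := congrArg (fun u => y * u * y⁻¹) h2
    simp only [mul_one, mul_inv_cancel] at h3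
    rw [show y * (y⁻¹ * ((z * y⁻¹)⁻¹ * x) * y) * y⁻¹ = (z * y⁻¹)⁻¹ * x by group] at h3
    exact (inv_mul_eq_one.1 h3).symm

theorem card_points : Nat.card Ω = Nat.card Q + 1 := by
  classical
  let e : Option Q → Ω := fun o => o.elim a fun x => (x : G) • (t • a)
  have hne : ∀ x : Q, (x : G) • (t • a) ≠ a := fun x h => ta_ne hS (by
    have := congrArg (fun u => (x : G)⁻¹ • u) h
    simp only [inv_smul_smul] at this
    rw [this, fix_a hS (inv_mem x.2)])
  have hbij : Function.Bijective e := by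
    refine ⟨?_, fun c => ?_⟩
    · rintro (_ | x) (_ | y) h
      · rfl
      · exact absurd h.symm (hne y)
      · exact absurd h (hne x)
      · obtain ⟨_, -, hu⟩ := regular hS (ta_ne hS) (hne y)
        exact congrArg some ((hu x h).trans (hu y rfl).symm)
    · by_cases hc : c = a
      · exact ⟨none, hc.symm⟩
      · obtain ⟨x, hx, hxc⟩ := exists_Q hS hc
        exact ⟨some ⟨x, hx⟩, hxc⟩
  rw [← Nat.card_congr (Equiv.ofBijective e hbij), Finite.card_option]

theorem card_stabilizer :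
    Nat.card (stabilizer G a) = Nat.card Q * Nat.card ↥(stabilizer G a ⊓ stabilizer G (t • a)) := by
  have hbot : ∀ x ∈ Q, x ∈ stabilizer G a ⊓ stabilizer G (t • a) → x = 1 := fun x hx hd =>
    eq_one_of_fix hS hx (ta_ne hS) (mem_stabilizer_iff.1 (Subgroup.mem_inf.1 hd).2)
  have hinj : Function.Bijective (fun p : Q × ↥(stabilizer G a ⊓ stabilizer G (t • a)) =>
      (⟨p.1 * p.2, mul_mem (hS.le p.1.2) p.2.2.1⟩ : stabilizer G a)) := by
    constructor
    · rintro ⟨x, d⟩ ⟨x', d'⟩ h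
      have h' : (x : G) * d = x' * d' := congrArg Subtype.val h
      have h1 : (x' : G)⁻¹ * x = 1 := by
        refine hbot _ (mul_mem (inv_mem x'.2) x.2) ?_
        rw [show (x' : G)⁻¹ * x = d' * (d : G)⁻¹ by
          rw [eq_mul_inv_iff_mul_eq, mul_assoc, h', inv_mul_cancel_left]]
        exact mul_mem d'.2 (inv_mem d.2)
      have hx : x = x' := Subtype.ext (inv_mul_eq_one.1 h1).symm
      subst hx
      exact Prod.ext rfl (Subtype.ext (mul_left_cancel h'))
    · intro g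
      have hc : (g : G) • (t • a) ≠ a := fun e => ta_ne hS (by
        have := congrArg (fun u => (g : G)⁻¹ • u) e
        simp only [inv_smul_smul] at this
        rw [this]
        exact mem_stabilizer_iff.1 (inv_mem g.2))
      obtain ⟨x, hx, hxc⟩ := exists_Q hS hc
      refine ⟨(⟨x, hx⟩, ⟨x⁻¹ * g, Subgroup.mem_inf.2 ⟨mul_mem (inv_mem (hS.le hx)) g.2,
        mem_stabilizer_iff.2 (by rw [mul_smul, ← hxc, inv_smul_smul])⟩⟩), Subtype.ext ?_⟩
      exact mul_inv_cancel_left _ _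
  rw [← Nat.card_prod]
  exact (Nat.card_congr (Equiv.ofBijective _ hinj)).symm

theorem card_group : Nat.card G =
    Nat.card Q * Nat.card ↥(stabilizer G a ⊓ stabilizer G (t • a)) * (Nat.card Q + 1) := by
  haveI := hS.two_transitive
  haveI : IsPretransitive G Ω := isPretransitive_of_is_two_pretransitive
  rw [← (stabilizer G a).card_mul_index, index_stabilizer_of_transitive, card_stabilizer hS, card_points hS]

/-- Elements of `G_a` whose order is a power of `2` lie in `Q`. -/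
theorem mem_Q_of_sq {x : G} (hx : x ∈ stabilizer G a) (h2 : x * x = 1) : x ∈ Q := by
  haveI := (Subgroup.normal_subgroupOf_iff_le_normalizer hS.le).2 (fun h hh =>
    Subgroup.mem_normalizer_iff.2 fun y => ⟨hS.conj_mem h hh y, fun hy => by
      simpa [mul_assoc] using hS.conj_mem h⁻¹ (inv_mem hh) _ hy⟩)
  have hidx : (Q.subgroupOf (stabilizer G a)).index = Nat.card ↥(stabilizer G a ⊓ stabilizer G (t • a)) := by
    have h1 := (Q.subgroupOf (stabilizer G a)).card_mul_index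
    rw [Nat.card_congr (Subgroup.subgroupOfEquivOfLe hS.le).toEquiv, card_stabilizer hS] at h1
    exact Nat.eq_of_mul_eq_mul_left Nat.card_pos h1
  have h := Subgroup.pow_index_mem (Q.subgroupOf (stabilizer G a)) ⟨x, hx⟩
  rw [hidx, Subgroup.mem_subgroupOf] at h
  obtain ⟨k, hk⟩ := hS.odd_card
  rw [SubmonoidClass.coe_pow, hk, pow_succ, pow_mul, pow_two, h2, one_pow, one_mul] at h
  exact h

theorem eq_a_of_fix {x : G} (hx : x ∈ Q) (hx1 : x ≠ 1) {c : Ω} (h : x • c = c) : c = a :=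
  by_contra fun hc => hx1 (eq_one_of_fix hS hx hc h)

/-- The factorisation of elements outside the point stabilizer is unique. -/
theorem decomp_unique {p p' q q' : G} (hp : p ∈ stabilizer G a) (hp' : p' ∈ stabilizer G a)
    (hq : q ∈ Q) (hq' : q' ∈ Q) (h : p * t * q = p' * t * q') : p = p' ∧ q = q' := by
  have h1 : (q' * q⁻¹) • (t • a) = t • a := by
    have e : q' * q⁻¹ = t⁻¹ * (p'⁻¹ * p) * t := by
      rw [eq_comm, ← eq_mul_inv_iff_mul_eq] at h
      calc q' * q⁻¹ = (p' * t)⁻¹ * (p' * t * q') * q⁻¹ := by group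
        _ = (p' * t)⁻¹ * (p * t * q) * q⁻¹ := by rw [eq_mul_inv_iff_mul_eq.1 h]
        _ = t⁻¹ * (p'⁻¹ * p) * t := by group
    rw [e, t_inv hS, mul_smul, mul_smul, t_t hS]
    rw [mem_stabilizer_iff.1 (mul_mem (inv_mem hp') hp)]
  have h2 : q' * q⁻¹ = 1 := eq_one_of_fix hS (mul_mem hq' (inv_mem hq)) (ta_ne hS) h1
  have h3 : q = q' := (mul_inv_eq_one.1 h2).symm
  subst h3
  exact ⟨mul_right_cancel (mul_right_cancel h), rfl⟩

theorem decomp {g : G} (hg : g ∉ stabilizer G a) :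
    ∃ p ∈ stabilizer G a, ∃ q ∈ Q, g = p * t * q := by
  have hc : g⁻¹ • a ≠ a := fun e => hg (mem_stabilizer_iff.2 (by
    conv_lhs => rw [← e]
    rw [smul_inv_smul]))
  obtain ⟨x, hx, hxc⟩ := exists_Q hS hc
  refine ⟨g * x * t, mem_stabilizer_iff.2 ?_, x⁻¹, inv_mem hx, ?_⟩
  · rw [mul_smul, mul_smul, hxc, smul_inv_smul]
  · rw [mul_assoc (g * x) t t, hS.mul_self, mul_one, mul_inv_cancel_right]

theorem conj_t_mem_D {d : G} (hd : d ∈ stabilizer G a ⊓ stabilizer G (t • a)) :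
    t * d * t ∈ stabilizer G a ⊓ stabilizer G (t • a) := by
  obtain ⟨h1, h2⟩ := Subgroup.mem_inf.1 hd
  refine Subgroup.mem_inf.2 ⟨mem_stabilizer_iff.2 ?_, mem_stabilizer_iff.2 ?_⟩
  · rw [mul_smul, mul_smul, mem_stabilizer_iff.1 h2, t_t hS]
  · rw [mul_smul, mul_smul, t_t hS, mem_stabilizer_iff.1 h1]

/-- Uniqueness of the form `g h t f`. -/
theorem ghtf_unique {g g' h h' f f' : G} (hg : g ∈ Q) (hg' : g' ∈ Q)
    (hh : h ∈ stabilizer G a ⊓ stabilizer G (t • a)) (hh' : h' ∈ stabilizer G a ⊓ stabilizer G (t • a))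
    (hf : f ∈ Q) (hf' : f' ∈ Q) (e : g * h * t * f = g' * h' * t * f') : g = g' ∧ h = h' ∧ f = f' := by
  obtain ⟨e1, e2⟩ := decomp_unique hS (mul_mem (hS.le hg) (Subgroup.mem_inf.1 hh).1)
    (mul_mem (hS.le hg') (Subgroup.mem_inf.1 hh').1) hf hf' e
  have hgg : g'⁻¹ * g = 1 := by
    refine eq_one_of_fix hS (mul_mem (inv_mem hg') hg) (ta_ne hS) ?_
    rw [show g'⁻¹ * g = h' * h⁻¹ by rw [eq_mul_inv_iff_mul_eq, mul_assoc, e1, inv_mul_cancel_left]]
    exact mem_stabilizer_iff.1 (Subgroup.mem_inf.1 (mul_mem hh' (inv_mem hh))).2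
  have hgg' : g = g' := (inv_mul_eq_one.1 hgg).symm
  subst hgg'
  exact ⟨rfl, mul_left_cancel e1, e2⟩

theorem Q_normalized {d x : G} (hd : d ∈ stabilizer G a ⊓ stabilizer G (t • a)) (hx : x ∈ Q) :
    d * x * d⁻¹ ∈ Q ∧ d⁻¹ * x * d ∈ Q :=
  ⟨hS.conj_mem d (Subgroup.mem_inf.1 hd).1 x hx,
    by simpa using hS.conj_mem d⁻¹ (inv_mem (Subgroup.mem_inf.1 hd).1) x hx⟩

end CfsgLib.RootSub.Setup
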