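import Cfsg.Agent.Lib.RootSub.Commutator

/-!
# Sets of abstract root subgroups: non-partners on a line and opposite members
-/

set_option autoImplicit false
set_option linter.style.haveILetI false

namespace CfsgLib.RootSub

open Subgroup
open scoped commutatorElement

variable {G : Type*} [Group G] {S : Set (Subgroup G)} (hS : Cfsg.IsRootSubgroupSet S)

theorem mem_centralizingMembers {A E : Subgroup G} :
    E ∈ Cfsg.centralizingMembers S A ↔ E ∈ S ∧ ⁅E, A⁆ = ⊥ :=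
  and_congr_right fun _ => commutator_eq_bot_iff_le_centralizer.symm

theorem commutator_conjBy_bot {A B : Subgroup G} (h : ⁅A, B⁆ = ⊥) (g : G) :
    ⁅Cfsg.conjBy A g, Cfsg.conjBy B g⁆ = ⊥ := by
  rw [← case_conjBy, h]
  exact Subgroup.map_bot _

theorem case_symm_eq {A B : Subgroup G} : ⁅B, A⁆ = ⁅A, B⁆ := commutator_comm B A

include hS

/-- With `A` and `P` a rank one pair and `E` commuting with `A`, the commutator of `P` and `E` does not
commute with `A`. -/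
theorem not_commute_step {A P E : Subgroup G} (hA : A ∈ S) (hP : P ∈ S) (hE : E ∈ S)
    (hAP : Cfsg.IsRankOnePair A P) (hAE : ⁅A, E⁆ = ⊥) (hPE : Cfsg.RootCommutatorCase S P E) :
    ⁅A, ⁅P, E⁆⁆ ≠ ⊥ := by
  intro h
  obtain ⟨a, ha, ha1⟩ := (exists_ne_one hAP).1
  obtain ⟨p, hp, hp1, hconj⟩ := hAP.cond_left a ha ha1
  obtain ⟨e, he, he1⟩ := (Subgroup.bot_or_exists_ne_one _).resolve_left (hS.ne_bot E hE)
  set f := ⁅p⁻¹, e⁆ with hfdef
  have hf : f ∈ ⁅P, E⁆ := commutator_mem_commutator (inv_mem hp) he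
  have hfe : p⁻¹ * e * p = f * e := by rw [hfdef, commutatorElement_def]; group
  have hme : a * (f * e) * a⁻¹ = f * e := by
    rw [← mul_assoc a f e, commute_of_commutator_eq_bot h ha hf, mul_assoc f a e,
      commute_of_commutator_eq_bot hAE ha he]
    group
  have hcom : ∀ q ∈ P, q * (f * e) = f * e * q := by
    intro q hq
    obtain ⟨a', ha', hq'⟩ : a⁻¹ * q * a ∈ Cfsg.conjBy A p⁻¹ := by
      rw [hconj, mem_conjBy]
      simpa [mul_assoc] using hq
    have hq'' : a⁻¹ * q * a = p⁻¹ * a' * p := by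
      rw [← hq']
      show p⁻¹ * a' * (p⁻¹)⁻¹ = _
      rw [inv_inv]
    have h1 : (a⁻¹ * q * a) * (f * e) = (f * e) * (a⁻¹ * q * a) := by
      rw [hq'', ← hfe]
      calc p⁻¹ * a' * p * (p⁻¹ * e * p) = p⁻¹ * (a' * e) * p := by group
        _ = p⁻¹ * (e * a') * p := by rw [commute_of_commutator_eq_bot hAE ha' he]
        _ = _ := by group
    calc q * (f * e) = a * ((a⁻¹ * q * a) * (f * e)) * a⁻¹ * (a * (f * e)⁻¹ * a⁻¹) * (f * e) := by group
      _ = a * ((f * e) * (a⁻¹ * q * a)) * a⁻¹ * (a * (f * e)⁻¹ * a⁻¹) * (f * e) := by rw [h1]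
      _ = (a * (f * e) * a⁻¹) * q * (a * (f * e) * a⁻¹)⁻¹ * (f * e) := by group
      _ = f * e * q := by rw [hme, inv_mul_cancel_right]
  refine he1 (case_inj hS hPE hP ⟨A, hA, Cfsg.RankOnePair_symm hAP⟩ hp hp1 he ?_)
  have h2 := hcom p hp
  rw [← mul_assoc, ← case_central hPE hf (mem_sup_left hp), mul_assoc, mul_assoc] at h2
  exact commutatorElement_eq_one_iff_commute.2 (mul_left_cancel h2)

/-- On a line through `A`, a partner of `A` has a non-partner, and it generates the line with `A`. -/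
theorem nonpartner_exists (hnon : ∀ X ∈ S, NonIso S X) {A C Q : Subgroup G} (hA : A ∈ S)
    (hC : C ∈ Cfsg.linePartners S A) (hQ : Q ∈ S) (hAQ : Cfsg.IsRankOnePair A Q) :
    ∃ E ∈ Cfsg.linePartners S A, Cfsg.RootCommutatorCase S Q E ∧ A ⊔ E = A ⊔ C ∧
      Cfsg.RootCommutatorCase S A ⁅Q, E⁆ ∧ ⁅A, ⁅Q, E⁆⁆ = E := by
  obtain ⟨⟨hCS, hCA, hAC⟩, hpart⟩ := hC
  have hNab : ∀ x ∈ A ⊔ C, ∀ y ∈ A ⊔ C, x * y = y * x := by
    intro x hx y hy
    have h0 : A ⊔ C ≤ centralizer ((A : Set G) ∪ (C : Set G)) := sup_le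
      (fun a ha => mem_centralizer_iff.2 (by
        rintro z (hz | hz)
        · exact comm_of_mem hS hA hz ha
        · exact (commute_of_commutator_eq_bot hAC ha hz).symm))
      (fun c hc => mem_centralizer_iff.2 (by
        rintro z (hz | hz)
        · exact commute_of_commutator_eq_bot hAC hz hc
        · exact comm_of_mem hS hCS hz hc))
    have h1 : A ⊔ C ≤ centralizer ({x} : Set G) := sup_le
      (fun a ha => mem_centralizer_singleton_iff.2 (mem_centralizer_iff.1 (h0 hx) a (Or.inl ha)))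
      (fun c hc => mem_centralizer_singleton_iff.2 (mem_centralizer_iff.1 (h0 hx) c (Or.inr hc)))
    exact (mem_centralizer_singleton_iff.1 (h1 hy)).symm
  have hnc : ∀ E ∈ Cfsg.membersIn S (A ⊔ C), E ≠ A → ¬ Cfsg.IsRankOnePair Q E →
      Cfsg.RootCommutatorCase S Q E := by
    intro E hE hEA hnot
    rcases hS.pair Q hQ E hE.1 with h | h | h
    · exfalso
      obtain ⟨a, ha, ha1⟩ := (exists_ne_one hAQ).1
      obtain ⟨e, he, he1⟩ := (Subgroup.bot_or_exists_ne_one _).resolve_left (hS.ne_bot E hE.1)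
      have hz : e ∈ centralizer ((A ⊔ Q : Subgroup G) : Set G) := by
        have : A ⊔ Q ≤ centralizer ({e} : Set G) := sup_le
          (fun x hx => mem_centralizer_singleton_iff.2 (hNab x (mem_sup_left hx) e (hE.2 he)))
          (fun x hx => mem_centralizer_singleton_iff.2 (commute_of_commutator_eq_bot h hx he))
        exact mem_centralizer_iff.2 fun x hx => mem_centralizer_singleton_iff.1 (this hx)
      have hea : e * a ≠ 1 := by
        intro e0
        refine hEA (eq_of_mem_both hS hA hQ hAQ hE.1 ha ?_ ha1).symm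
        rw [eq_inv_of_mul_eq_one_right e0]
        exact inv_mem he
      obtain ⟨E', hE', hmem⟩ := hpart.2.1 _ (mul_mem (hE.2 he) (mem_sup_left ha)) hea
      exact not_rootElement hS hA ⟨hQ, hAQ⟩ hz he1 a ha ha1 ⟨hea, E', hE'.1, hmem⟩
    · exact absurd h hnot
    · exact h
  have hstep : ∀ E ∈ Cfsg.membersIn S (A ⊔ C), Cfsg.RootCommutatorCase S Q E →
      Cfsg.RootCommutatorCase S A ⁅Q, E⁆ ∧ ⁅A, ⁅Q, E⁆⁆ = E := fun E hE hc =>
    line_step hS hA hQ hE.1 hAQ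
      (commutator_eq_bot_of_commute fun x hx y hy => hNab x (mem_sup_left hx) y (hE.2 hy)) (hnon E hE.1) hc
      fun x hx hx1 => by
        obtain ⟨E', hE', hxE'⟩ := hpart.2.1 x (sup_le le_sup_left hE.2 hx) hx1
        exact ⟨E', hE'.1, hxE'⟩
  suffices h : ∃ E ∈ Cfsg.membersIn S (A ⊔ C), E ≠ A ∧ Cfsg.RootCommutatorCase S Q E ∧ A ⊔ E = A ⊔ C by
    obtain ⟨E, hE, hEA, hQE, hsup⟩ := h
    obtain ⟨h1, h2⟩ := hstep E hE hQE
    exact ⟨E, ⟨⟨hE.1, hEA, commutator_eq_bot_of_commute fun x hx y hy => hNab x (mem_sup_left hx) y (hE.2 hy)⟩,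
      by rw [hsup]; exact hpart⟩, hQE, hsup, h1, h2⟩
  by_cases hQC : Cfsg.IsRankOnePair Q C
  swap
  · exact ⟨C, ⟨hCS, le_sup_right⟩, hCA, hnc C ⟨hCS, le_sup_right⟩ hCA hQC, rfl⟩
  obtain ⟨q, hq, hq1⟩ := (exists_ne_one hAQ).2
  obtain ⟨a, ha, ha1, hea⟩ := hAQ.cond_right q hq hq1
  obtain ⟨c, hc, hc1, hec⟩ := (Cfsg.RankOnePair_symm hQC).cond_right q hq hq1
  have hx1 : c⁻¹ * a ≠ 1 := by
    intro e
    exact hCA (eq_of_mem_both hS hA hQ hAQ hCS ha (inv_mul_eq_one.1 e ▸ hc) ha1).symm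
  obtain ⟨E, hE, hxE⟩ := hpart.2.1 _ (mul_mem (inv_mem (mem_sup_right hc)) (mem_sup_left ha)) hx1
  have hEA : E ≠ A := by
    intro e
    refine hCA (eq_of_mem_both hS hA hQ hAQ hCS ?_ hc hc1).symm
    have := mul_mem ha (inv_mem (e ▸ hxE))
    rwa [show a * (c⁻¹ * a)⁻¹ = c by group] at this
  have hnot : ¬ Cfsg.IsRankOnePair Q E := by
    intro hQE
    have hne : Q ≠ Cfsg.conjBy Q (c⁻¹ * a) := fun e => hx1
      (eq_one_of_mem_normalizer hQE hxE (conjBy_eq_self_iff.1 e.symm))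
    refine not_commutator_bot (pair_of_unipotent hQE (left_mem hQE) ⟨_, mem_sup_right hxE, rfl⟩ hne) ?_
    have h1 : ⁅Cfsg.conjBy Q a⁻¹, Cfsg.conjBy Q c⁻¹⁆ = ⊥ := by
      rw [hea, hec]
      exact commutator_conjBy_bot hAC _
    have h2 := commutator_conjBy_bot h1 a
    rwa [conjBy_conjBy, conjBy_conjBy, mul_inv_cancel, conjBy_one,
      hNab a (mem_sup_left ha) c⁻¹ (inv_mem (mem_sup_right hc))] at h2
  have hc' := hnc E hE hEA hnot
  refine ⟨E, hE, hEA, hc', le_antisymm (sup_le le_sup_left hE.2) (sup_le le_sup_left ?_)⟩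
  obtain ⟨hcase, hK⟩ := hstep E hE hc'
  have hcm : c ∈ A ⊔ ⁅A, ⁅Q, E⁆⁆ := by
    rw [hK, show c = a * (c⁻¹ * a)⁻¹ by group]
    exact mul_mem (mem_sup_left ha) (inv_mem (mem_sup_right hxE))
  rcases case_cover hcase hcm with h | ⟨f, hf, h⟩
  · rw [hK] at h
    rw [nonIso_eq hS hCS (hnon C hCS) hE.1 hc h hc1]
    exact le_sup_right
  · rw [nonIso_eq hS hCS (hnon C hCS) (hS.conj_mem A hA f) hc h hc1]
    rintro _ ⟨x, hx, rfl⟩
    have := conj_mem_sup_commutator hx hf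
    rwa [hK] at this

/-- Some member moves `⁅A, B⁆` back to `A`. -/
theorem opposite (hnon : ∀ X ∈ S, NonIso S X) {A B : Subgroup G} (hA : A ∈ S) (hB : B ∈ S)
    (h : Cfsg.RootCommutatorCase S A B) : ∃ D ∈ S, ⁅D, ⁅A, B⁆⁆ = A := by
  have hAC : A ∈ Cfsg.linePartners S ⁅A, B⁆ :=
    ⟨⟨hA, case_ne h hS, commutator_eq_bot_of_commute fun c hc x hx => case_central h hc (mem_sup_left hx)⟩,
      by rw [sup_comm]; exact case_partition hS h hA (hnon A hA) hB⟩
  obtain ⟨Q, hQ, hCQ⟩ := hnon _ h.1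
  obtain ⟨E, ⟨⟨hE, hEC, -⟩, -⟩, hQE, hsup, -, hK⟩ := nonpartner_exists hS hnon h.1 hAC hQ hCQ
  have hmem : E ∈ Cfsg.membersIn S (A ⊔ ⁅A, B⁆) := ⟨hE, by rw [sup_comm, ← hsup]; exact le_sup_right⟩
  rw [case_membersIn hS h hA (hnon A hA) hB] at hmem
  obtain ⟨b, hb, hEb⟩ := hmem.resolve_right hEC
  refine ⟨Cfsg.conjBy ⁅Q, E⁆ b⁻¹, hS.conj_mem _ hQE.1 _, ?_⟩
  have hfix : Cfsg.conjBy ⁅A, B⁆ b⁻¹ = ⁅A, B⁆ :=
    conjBy_eq_self_iff.2 (sup_le_normalizer_commutator A B (mem_sup_right (inv_mem hb)))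
  have h1 : Cfsg.conjBy ⁅⁅A, B⁆, ⁅Q, E⁆⁆ b⁻¹ = Cfsg.conjBy E b⁻¹ := by rw [hK]
  rw [case_conjBy, hfix] at h1
  rw [commutator_comm, h1, show E = Cfsg.conjBy A b from hEb.symm, conjBy_conjBy, inv_mul_cancel, conjBy_one]

end CfsgLib.RootSub
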