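import Cfsg.Agent.Lib.RootSub.RankOne

/-!
# Sets of abstract root subgroups: the commutator case and the graph of rank one pairs
-/

set_option autoImplicit false
set_option linter.style.haveILetI false

namespace CfsgLib.RootSub

open Subgroup
open scoped commutatorElement

variable {G : Type*} [Group G]

theorem le_normalizer_of_conj_mem {H K : Subgroup G} (h : ∀ x ∈ H, ∀ y ∈ K, x * y * x⁻¹ ∈ K) :
    H ≤ normalizer (K : Set G) := by
  intro x hx
  refine Subgroup.mem_normalizer_iff.2 fun y => ⟨h x hx y, fun hy => ?_⟩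
  simpa [mul_assoc] using h x⁻¹ (inv_mem hx) _ hy

theorem mem_sup_of_commute {H K : Subgroup G} (hc : ∀ a ∈ H, ∀ b ∈ K, a * b = b * a) {x : G}
    (hx : x ∈ H ⊔ K) : ∃ a ∈ H, ∃ b ∈ K, a * b = x := by
  let M : Subgroup G :=
    { carrier := {x | ∃ a ∈ H, ∃ b ∈ K, a * b = x}
      one_mem' := ⟨1, one_mem _, 1, one_mem _, one_mul 1⟩
      mul_mem' := by
        rintro _ _ ⟨a, ha, b, hb, rfl⟩ ⟨a', ha', b', hb', rfl⟩
        refine ⟨a * a', mul_mem ha ha', b * b', mul_mem hb hb', ?_⟩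
        calc a * a' * (b * b') = a * (a' * b) * b' := by group
          _ = a * (b * a') * b' := by rw [hc a' ha' b hb]
          _ = a * b * (a' * b') := by group
      inv_mem' := by
        rintro _ ⟨a, ha, b, hb, rfl⟩
        exact ⟨a⁻¹, inv_mem ha, b⁻¹, inv_mem hb,
          by rw [hc _ (inv_mem ha) _ (inv_mem hb), mul_inv_rev]⟩ }
  exact (sup_le (fun a ha => ⟨a, ha, 1, one_mem _, mul_one a⟩)
    (fun b hb => ⟨1, one_mem _, b, hb, one_mul b⟩) : H ⊔ K ≤ M) hx

theorem commutator_eq_bot_of_commute {H K : Subgroup G} (h : ∀ a ∈ H, ∀ b ∈ K, a * b = b * a) :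
    ⁅H, K⁆ = ⊥ := by
  rw [eq_bot_iff, commutator_le]
  intro a ha b hb
  rw [mem_bot, commutatorElement_eq_one_iff_commute]
  exact h a ha b hb

theorem sup_le_normalizer_commutator (A B : Subgroup G) :
    A ⊔ B ≤ normalizer ((⁅A, B⁆ : Subgroup G) : Set G) := by
  have key : ∀ H K : Subgroup G, H ≤ normalizer ((⁅H, K⁆ : Subgroup G) : Set G) := by
    intro H K
    refine le_normalizer_of_conj_mem fun x hx y hy => ?_
    have hle : ⁅H, K⁆ ≤ (⁅H, K⁆).comap (MulAut.conj x).toMonoidHom := commutator_le.2 fun a ha b hb => by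
      show x * ⁅a, b⁆ * x⁻¹ ∈ ⁅H, K⁆
      rw [show x * ⁅a, b⁆ * x⁻¹ = ⁅x * a, b⁆ * ⁅x, b⁆⁻¹ by simp only [commutatorElement_def]; group]
      exact mul_mem (commutator_mem_commutator (mul_mem hx ha) hb)
        (inv_mem (commutator_mem_commutator hx hb))
    exact hle hy
  refine sup_le (key A B) ?_
  rw [commutator_comm]
  exact key B A

theorem conj_mem_sup_commutator {A B : Subgroup G} {a b : G} (ha : a ∈ A) (hb : b ∈ B) :
    b * a * b⁻¹ ∈ A ⊔ ⁅A, B⁆ := by
  rw [show b * a * b⁻¹ = ⁅a, b⁆⁻¹ * a by rw [commutatorElement_def]; group]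
  exact mul_mem (inv_mem (mem_sup_right (commutator_mem_commutator ha hb))) (mem_sup_left ha)

variable {S : Set (Subgroup G)}

/-- A member with a rank one partner. -/
def NonIso (S : Set (Subgroup G)) (A : Subgroup G) : Prop := ∃ P ∈ S, Cfsg.IsRankOnePair A P

theorem nonIso_of_not_isolated {A : Subgroup G} (hA : A ∈ S)
    (h : ¬ Cfsg.IsIsolatedIn (Cfsg.FAdj S) S A) : NonIso S A := by
  by_contra hh
  exact h ⟨hA, fun P => ⟨fun hP => hh ⟨P, hP.2.1, hP.2.2⟩,
    fun hP => hh ⟨P, hP.1, Cfsg.RankOnePair_symm hP.2.2⟩⟩⟩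

theorem not_isolated_of_nonIso {A : Subgroup G} (hA : A ∈ S) (h : NonIso S A) :
    ¬ Cfsg.IsIsolatedIn (Cfsg.FAdj S) S A := by
  obtain ⟨P, hP, hAP⟩ := h
  exact fun hi => (hi.2 P).1 ⟨hA, hP, hAP⟩

theorem case_conjBy {A B : Subgroup G} (g : G) :
    Cfsg.conjBy ⁅A, B⁆ g = ⁅Cfsg.conjBy A g, Cfsg.conjBy B g⁆ :=
  map_commutator A B (MulAut.conj g).toMonoidHom

theorem case_symm {A B : Subgroup G} (h : Cfsg.RootCommutatorCase S A B) :
    Cfsg.RootCommutatorCase S B A := by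
  obtain ⟨h1, h2, h3, h4⟩ := h
  have key : ∀ (U V : Subgroup G) (u : G),
      Subgroup.closure ((fun v : G => u * v * u⁻¹ * v⁻¹) '' (V : Set G)) =
        Subgroup.closure ((fun v : G => v * u * v⁻¹ * u⁻¹) '' (V : Set G)) := by
    intro _ V u
    refine le_antisymm ((closure_le _).2 ?_) ((closure_le _).2 ?_) <;>
    · rintro _ ⟨v, hv, rfl⟩
      rw [SetLike.mem_coe, ← inv_mem_iff]
      exact subset_closure ⟨v, hv, by group⟩
  refine ⟨by rw [commutator_comm]; exact h1, by rw [commutator_comm, sup_comm]; exact h2,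
    fun b hb hb1 => ?_, fun a ha ha1 => ?_⟩
  · rw [key B A b, h4 b hb hb1, commutator_comm]
  · rw [← key A B a, h3 a ha ha1, commutator_comm]

section case

variable {A B : Subgroup G} (h : Cfsg.RootCommutatorCase S A B)
include h

theorem case_central {c x : G} (hc : c ∈ ⁅A, B⁆) (hx : x ∈ A ⊔ B) : c * x = x * c := h.2.1 c hc x hx

theorem case_mul_right {a b b' : G} (ha : a ∈ A) (hb : b ∈ B) (hb' : b' ∈ B) :
    ⁅a, b * b'⁆ = ⁅a, b⁆ * ⁅a, b'⁆ := by
  have hc := case_central h (commutator_mem_commutator ha hb') (mem_sup_right hb)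
  calc ⁅a, b * b'⁆ = ⁅a, b⁆ * (b * ⁅a, b'⁆) * b⁻¹ := by simp only [commutatorElement_def]; group
    _ = ⁅a, b⁆ * ⁅a, b'⁆ := by rw [← hc]; group

theorem case_mul_left {a a' b : G} (ha : a ∈ A) (ha' : a' ∈ A) (hb : b ∈ B) :
    ⁅a * a', b⁆ = ⁅a, b⁆ * ⁅a', b⁆ := by
  have hc := case_central h (commutator_mem_commutator ha' hb) (mem_sup_left ha)
  have hd := case_central h (commutator_mem_commutator ha hb)
    (commutator_le_sup A B (commutator_mem_commutator ha' hb))
  calc ⁅a * a', b⁆ = a * ⁅a', b⁆ * a⁻¹ * ⁅a, b⁆ := by simp only [commutatorElement_def]; group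
    _ = ⁅a', b⁆ * ⁅a, b⁆ := by rw [← hc, mul_inv_cancel_right]
    _ = ⁅a, b⁆ * ⁅a', b⁆ := hd.symm

/-- The map `b ↦ [a, b]` on `B`. -/
noncomputable def commMap {a : G} (ha : a ∈ A) : B →* G :=
  MonoidHom.mk' (fun b => ⁅a, (b : G)⁆) fun b b' => case_mul_right h ha b.2 b'.2

theorem case_surj {a c : G} (ha : a ∈ A) (ha1 : a ≠ 1) (hc : c ∈ ⁅A, B⁆) : ∃ b ∈ B, ⁅a, b⁆ = c := by
  rw [← h.2.2.1 a ha ha1] at hc
  have hle : Subgroup.closure ((fun b : G => a * b * a⁻¹ * b⁻¹) '' (B : Set G)) ≤ (commMap h ha).range := by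
    rw [closure_le]
    rintro _ ⟨b, hb, rfl⟩
    exact ⟨⟨b, hb⟩, commutatorElement_def a b⟩
  obtain ⟨b, hb⟩ := hle hc
  exact ⟨b, b.2, hb⟩

theorem case_ne (hS : Cfsg.IsRootSubgroupSet S) : A ≠ ⁅A, B⁆ := by
  intro e
  refine hS.ne_bot _ h.1 (commutator_eq_bot_of_commute fun a ha b hb => ?_)
  exact case_central h (e ▸ ha) (mem_sup_right hb)

end case

section rootSet

variable (hS : Cfsg.IsRootSubgroupSet S)
include hS

theorem nonIso_eq {A B : Subgroup G} (hA : A ∈ S) (hn : NonIso S A) (hB : B ∈ S) {a : G} (haA : a ∈ A)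
    (haB : a ∈ B) (ha1 : a ≠ 1) : A = B := by
  obtain ⟨P, hP, hAP⟩ := hn
  exact eq_of_mem_both hS hA hP hAP hB haA haB ha1

theorem nonIso_conjBy {A : Subgroup G} (hn : NonIso S A) (g : G) : NonIso S (Cfsg.conjBy A g) := by
  obtain ⟨P, hP, hAP⟩ := hn
  exact ⟨_, hS.conj_mem P hP g, pair_conjBy hAP g⟩

theorem not_pair_of_commutator_mem {A B : Subgroup G} (hA : A ∈ S) (hC : ⁅A, B⁆ ∈ S) :
    ¬ Cfsg.IsRankOnePair A B := by
  intro hAB
  set C := ⁅A, B⁆ with hCdef
  have hN : A ⊔ B ≤ normalizer (C : Set G) := sup_le_normalizer_commutator A B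
  rcases hS.pair A hA C hC with h | h | h
  · have hgen : A ⊔ B ≤ normalizer ((A ⊔ C : Subgroup G) : Set G) := by
      refine sup_le (le_sup_left.trans le_normalizer) (le_normalizer_of_conj_mem fun x hx y hy => ?_)
      obtain ⟨a, ha, c, hc, rfl⟩ := mem_sup_of_commute (fun a ha c hc => commute_of_commutator_eq_bot h ha hc) hy
      rw [show x * (a * c) * x⁻¹ = x * a * x⁻¹ * (x * c * x⁻¹) by group]
      exact mul_mem (conj_mem_sup_commutator ha hx)
        (mem_sup_right ((Subgroup.mem_normalizer_iff.1 (hN (mem_sup_right hx)) c).1 hc))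
    obtain ⟨x, hx, hBx⟩ := right_mem hAB
    have hBle : B ≤ A ⊔ C := by
      rw [hBx]
      rintro _ ⟨a, ha, rfl⟩
      exact (Subgroup.mem_normalizer_iff.1 (hgen hx) a).1 (mem_sup_left ha)
    refine hS.ne_bot _ hC (commutator_eq_bot_of_commute fun a ha b hb => ?_)
    obtain ⟨a', ha', c, hc, rfl⟩ := mem_sup_of_commute (fun a ha c hc => commute_of_commutator_eq_bot h ha hc) (hBle hb)
    rw [← mul_assoc, comm_of_mem hS hA ha ha', mul_assoc, commute_of_commutator_eq_bot h ha hc, ← mul_assoc]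
  · obtain ⟨a, ha, ha1⟩ := (exists_ne_one h).1
    exact ha1 (eq_one_of_mem_normalizer (Cfsg.RankOnePair_symm h) ha (hN (mem_sup_left ha)))
  · have hE : ⁅A, C⁆ ≤ C := commutator_le.2 fun a ha c hc => by
      rw [commutatorElement_def]
      exact mul_mem ((Subgroup.mem_normalizer_iff.1 (hN (mem_sup_left ha)) c).1 hc) (inv_mem hc)
    have hgen : B ≤ A ⊔ C := by
      have : A ⊔ B ≤ normalizer ((A ⊔ C : Subgroup G) : Set G) := by
        refine sup_le (le_sup_left.trans le_normalizer) (le_normalizer_of_conj_mem fun x hx y hy => ?_)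
        have hle : A ⊔ C ≤ (A ⊔ C).comap (MulAut.conj x).toMonoidHom :=
          sup_le (fun a ha => conj_mem_sup_commutator ha hx)
            (fun c hc => mem_sup_right ((Subgroup.mem_normalizer_iff.1 (hN (mem_sup_right hx)) c).1 hc))
        exact hle hy
      obtain ⟨x, hx, hBx⟩ := right_mem hAB
      rw [hBx]
      rintro _ ⟨a, ha, rfl⟩
      exact (Subgroup.mem_normalizer_iff.1 (this hx) a).1 (mem_sup_left ha)
    -- every commutator of `A` with `A ⊔ C` lies in `⁅A, C⁆`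
    have hall : ∀ y ∈ A ⊔ C, ∀ a ∈ A, ⁅a, y⁆ ∈ ⁅A, C⁆ := by
      intro y hy
      rw [Subgroup.sup_eq_closure] at hy
      induction hy using Subgroup.closure_induction with
      | mem y hy =>
        intro a ha
        rcases hy with hy | hy
        · rw [commutatorElement_eq_one_iff_commute.2 (comm_of_mem hS hA ha hy)]
          exact one_mem _
        · exact commutator_mem_commutator ha hy
      | one => intro a _; simp
      | mul y z hy hz iy iz =>
        intro a ha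
        rw [← Subgroup.sup_eq_closure] at hy hz
        have hc := case_central h (iz a ha) hy
        rw [show ⁅a, y * z⁆ = ⁅a, y⁆ * (y * ⁅a, z⁆) * y⁻¹ by simp only [commutatorElement_def]; group,
          ← hc, ← mul_assoc, mul_inv_cancel_right]
        exact mul_mem (iy a ha) (iz a ha)
      | inv y hy iy =>
        intro a ha
        rw [← Subgroup.sup_eq_closure] at hy
        have hc := case_central h (inv_mem (iy a ha)) (inv_mem hy)
        rw [show ⁅a, y⁻¹⁆ = y⁻¹ * ⁅a, y⁆⁻¹ * y by simp only [commutatorElement_def]; group,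
          ← hc, inv_mul_cancel_right]
        exact inv_mem (iy a ha)
    have hCE : C ≤ ⁅A, C⁆ := commutator_le.2 fun a ha b hb => hall b (hgen hb) a ha
    refine hS.ne_bot _ h.1 (commutator_eq_bot_of_commute fun a ha c hc => ?_)
    exact (case_central h (hCE hc) (mem_sup_left ha)).symm

theorem comm_case {A B : Subgroup G} (hA : A ∈ S) (hB : B ∈ S) (hC : ⁅A, B⁆ ∈ S) :
    Cfsg.RootCommutatorCase S A B := by
  rcases hS.pair A hA B hB with h | h | h
  · exact absurd h (hS.ne_bot _ hC)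
  · exact absurd h (not_pair_of_commutator_mem hS hA hC)
  · exact h

theorem case_inj {A B : Subgroup G} (h : Cfsg.RootCommutatorCase S A B) (hA : A ∈ S) (hn : NonIso S A)
    {a b : G} (ha : a ∈ A) (ha1 : a ≠ 1) (hb : b ∈ B) (he : ⁅a, b⁆ = 1) : b = 1 := by
  by_contra hb1
  have hcom : a * b = b * a := commutatorElement_eq_one_iff_commute.1 he
  have hAb : A = Cfsg.conjBy A b := nonIso_eq hS hA hn (hS.conj_mem A hA b) ha
    (mem_conjBy.2 (by rwa [mul_assoc, hcom, inv_mul_cancel_left])) ha1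
  have hbN : b ∈ normalizer (A : Set G) := conjBy_eq_self_iff.1 hAb.symm
  have hcen : ∀ x ∈ A, ⁅x, b⁆ = 1 := fun x hx => by
    by_contra hne
    have hxA : ⁅x, b⁆ ∈ A := by
      rw [show ⁅x, b⁆ = x * (b * x⁻¹ * b⁻¹) by rw [commutatorElement_def]; group]
      exact mul_mem hx ((Subgroup.mem_normalizer_iff.1 hbN x⁻¹).1 (inv_mem hx))
    exact case_ne h hS (nonIso_eq hS hA hn h.1 hxA (commutator_mem_commutator hx hb) hne)
  refine hS.ne_bot _ h.1 ((h.2.2.2 b hb hb1).symm.trans ?_)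
  rw [closure_eq_bot_iff]
  rintro _ ⟨x, hx, rfl⟩
  exact (commutatorElement_def x b).symm.trans (hcen x hx)

theorem case_inj_left {A B : Subgroup G} (h : Cfsg.RootCommutatorCase S A B) (hA : A ∈ S) (hn : NonIso S A)
    {a b : G} (ha : a ∈ A) (hb : b ∈ B) (hb1 : b ≠ 1) (he : ⁅a, b⁆ = 1) : a = 1 :=
  by_contra fun ha1 => hb1 (case_inj hS h hA hn ha ha1 hb he)

theorem not_pair_of_case {A B : Subgroup G} (hA : A ∈ S) (h : Cfsg.RootCommutatorCase S A B) :
    ¬ Cfsg.IsRankOnePair A B := not_pair_of_commutator_mem hS hA h.1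

omit hS in
theorem case_cover {A B : Subgroup G} (h : Cfsg.RootCommutatorCase S A B) {x : G}
    (hx : x ∈ A ⊔ ⁅A, B⁆) : x ∈ ⁅A, B⁆ ∨ ∃ b ∈ B, x ∈ Cfsg.conjBy A b := by
  obtain ⟨a, ha, c, hc, rfl⟩ :=
    mem_sup_of_commute (fun a ha c hc => (case_central h hc (mem_sup_left ha)).symm) hx
  rcases eq_or_ne a 1 with rfl | ha1
  · exact Or.inl (by rwa [one_mul])
  obtain ⟨b, hb, he⟩ := case_surj h ha ha1 (inv_mem hc)
  refine Or.inr ⟨b, hb, ?_⟩
  have : a * c = b * a * b⁻¹ := by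
    rw [(case_central h hc (mem_sup_left ha)).symm, show c = ⁅a, b⁆⁻¹ by rw [he, inv_inv],
      commutatorElement_def]
    group
  rw [this]
  exact conj_mem_conjBy ha

theorem conj_commute_eq_one {A P : Subgroup G} (hAP : Cfsg.IsRankOnePair A P) {a p : G} (ha : a ∈ A)
    (ha1 : a ≠ 1) (hp : p ∈ P) (h : ∀ q ∈ P, q * (a * p * a⁻¹) = a * p * a⁻¹ * q) : p = 1 := by
  have hPR : Cfsg.IsRankOnePair P (Cfsg.conjBy P a) :=
    pair_of_unipotent hAP (right_mem hAP) (conjBy_mem_unipotent hAP (right_mem hAP) (mem_sup_left ha))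
      fun e => ha1 (eq_one_of_mem_normalizer (Cfsg.RankOnePair_symm hAP) ha (conjBy_eq_self_iff.1 e.symm))
  exact conj_eq_one_iff.1 (eq_one_of_commute hPR (conj_mem_conjBy hp) h)

/-- If `P` is in the commutator case with `C`, then it is a rank one partner of every member
containing some `a * c` with `a ≠ 1` in `A`. -/
theorem partner_of_case {A P C E : Subgroup G} (hA : A ∈ S) (hP : P ∈ S) (hE : E ∈ S)
    (hC : C ∈ S) (hAP : Cfsg.IsRankOnePair A P) (hPC : Cfsg.RootCommutatorCase S P C)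
    {a c : G} (ha : a ∈ A) (ha1 : a ≠ 1) (hc : c ∈ C) (hxE : a * c ∈ E) :
    Cfsg.IsRankOnePair P E := by
  have hx1 : a * c ≠ 1 := by
    intro e
    have haC : a ∈ C := by
      rw [mul_eq_one_iff_eq_inv.1 e]
      exact inv_mem hc
    have hAeq := eq_of_mem_both hS hA hP hAP hC ha haC ha1
    subst hAeq
    exact not_pair_of_case hS hP hPC (Cfsg.RankOnePair_symm hAP)
  obtain ⟨p, hp, hp1⟩ := (exists_ne_one hAP).2
  have hf : ⁅c, p⁆ ∈ ⁅P, C⁆ := by
    rw [commutator_comm]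
    exact commutator_mem_commutator hc hp
  rcases hS.pair P hP E hE with h | h | h
  · exfalso
    refine hp1 (conj_commute_eq_one hS hAP (inv_mem ha) (inv_ne_one.2 ha1) hp fun y hy => ?_)
    have h0 : a⁻¹ * p * a = ⁅c, p⁆ * p := by
      have hx : (a * c) * p = p * (a * c) := (commute_of_commutator_eq_bot h hp hxE).symm
      calc a⁻¹ * p * a = a⁻¹ * (p * (a * c)) * c⁻¹ := by group
        _ = a⁻¹ * (a * c * p) * c⁻¹ := by rw [hx]
        _ = ⁅c, p⁆ * p := by rw [commutatorElement_def]; group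
    rw [inv_inv, h0, mul_assoc, comm_of_mem hS hP hp hy, ← mul_assoc, ← mul_assoc,
      case_central hPC hf (mem_sup_left hy)]
  · exact h
  · exfalso
    set g := a * ⁅c, p⁆ * a⁻¹ with hgdef
    set r := a * p * a⁻¹ with hrdef
    have hgmem : g ∈ Cfsg.conjBy ⁅P, C⁆ a := conj_mem_conjBy hf
    have hgr : ∀ q ∈ P, q * (g * r) = g * r * q := by
      intro q hq
      have he : g * r = ⁅a * c, p⁆ * p := by
        simp only [hgdef, hrdef, commutatorElement_def]
        group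
      have hm : ⁅a * c, p⁆ ∈ ⁅P, E⁆ := by
        rw [commutator_comm]
        exact commutator_mem_commutator hxE hp
      rw [he, ← mul_assoc, ← case_central h hm (mem_sup_left hq), mul_assoc, comm_of_mem hS hP hq hp,
        ← mul_assoc]
    have hPR : Cfsg.IsRankOnePair P (Cfsg.conjBy P a) :=
      pair_of_unipotent hAP (right_mem hAP) (conjBy_mem_unipotent hAP (right_mem hAP) (mem_sup_left ha))
        fun e => ha1 (eq_one_of_mem_normalizer (Cfsg.RankOnePair_symm hAP) ha (conjBy_eq_self_iff.1 e.symm))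
    have hrR : r ∈ Cfsg.conjBy P a := conj_mem_conjBy hp
    have hr1 : r ≠ 1 := fun e => hp1 (conj_eq_one_iff.1 e)
    have hRS := hS.conj_mem P hP a
    have hGS := hS.conj_mem _ hPC.1 a
    have hne : P ≠ Cfsg.conjBy P r := fun e =>
      hr1 (eq_one_of_mem_normalizer hPR hrR (conjBy_eq_self_iff.1 e.symm))
    rcases hS.pair P hP _ hGS with h' | h' | h'
    · refine hp1 (conj_commute_eq_one hS hAP ha ha1 hp fun q hq => ?_)
      have h1 := hgr q hq
      refine mul_left_cancel (a := g) ?_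
      show g * (q * r) = g * (r * q)
      rw [← mul_assoc g q r, ← commute_of_commutator_eq_bot h' hq hgmem, mul_assoc q g r, h1, mul_assoc g r q]
    · have hQ : Cfsg.conjBy P g⁻¹ = Cfsg.conjBy P r := by
        rw [conjBy_eq_iff, ← mul_inv_rev]
        refine inv_mem (centralizer_le_normalizer _ (mem_centralizer_iff.2 ?_))
        exact fun q hq => hgr q hq
      have h1 := sup_unipotent hPR (left_mem hPR) ⟨r, mem_sup_right hrR, rfl⟩ hne
      have h2 := sup_unipotent h' (left_mem h') ⟨g⁻¹, mem_sup_right (inv_mem hgmem), hQ.symm⟩ hne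
      have hGle : Cfsg.conjBy ⁅P, C⁆ a ≤ Cfsg.conjBy P a ⊔ P := by
        rw [sup_comm, ← h1, h2]
        exact le_sup_right
      have hGR : ⁅Cfsg.conjBy ⁅P, C⁆ a, Cfsg.conjBy P a⁆ = ⊥ := by
        rw [← case_conjBy, commutator_eq_bot_of_commute (H := ⁅P, C⁆) (K := P)
          fun f hf q hq => case_central hPC hf (mem_sup_left hq)]
        exact Subgroup.map_bot _
      rcases member_cases hS hRS hP (Cfsg.RankOnePair_symm hPR) hGS hGle hGR with e | e
      · exact case_ne hPC hS (conjBy_inj a e).symm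
      · obtain ⟨g', hg', hg'1⟩ := (exists_ne_one h').2
        exact hg'1 (eq_one_of_commute h' hg' fun x hx => e g' hg' x (mem_sup_right hx))
    · have hk : ⁅p, g⁆ ∈ ⁅P, Cfsg.conjBy ⁅P, C⁆ a⁆ := commutator_mem_commutator hp hgmem
      have h1 : p * r * p⁻¹ * r⁻¹ = ⁅p, g⁆⁻¹ := by
        have h0 := hgr p hp
        have hkg := case_central h' (inv_mem hk) (mem_sup_right (inv_mem hgmem))
        calc p * r * p⁻¹ * r⁻¹ = p * g⁻¹ * p⁻¹ * (p * (g * r)) * p⁻¹ * r⁻¹ := by group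
          _ = p * g⁻¹ * p⁻¹ * (g * r * p) * p⁻¹ * r⁻¹ := by rw [h0]
          _ = g⁻¹ * ⁅p, g⁆⁻¹ * g := by rw [commutatorElement_def]; group
          _ = ⁅p, g⁆⁻¹ := by rw [← hkg, inv_mul_cancel_right]
      have hmem : r * p⁻¹ * r⁻¹ ∈ Cfsg.conjBy P r := conj_mem_conjBy (inv_mem hp)
      have hPQ := pair_of_unipotent hPR (left_mem hPR) ⟨r, mem_sup_right hrR, rfl⟩ hne
      refine hp1 (inv_eq_one.1 (conj_eq_one_iff.1 (eq_one_of_commute hPQ hmem fun q hq => ?_)))
      rw [show r * p⁻¹ * r⁻¹ = p⁻¹ * (p * r * p⁻¹ * r⁻¹) by group, h1, ← mul_assoc,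
        comm_of_mem hS hP hq (inv_mem hp), mul_assoc,
        ← case_central h' (inv_mem hk) (mem_sup_left hq), ← mul_assoc]

/-- A partner of `A` is a partner of `C` or of every member containing some `a * c`. -/
theorem partner_or {A P C E : Subgroup G} (hA : A ∈ S) (hP : P ∈ S) (hC : C ∈ S) (hE : E ∈ S)
    (hAP : Cfsg.IsRankOnePair A P) (hAC : ⁅A, C⁆ = ⊥) (hne : A ≠ C) {a c : G} (ha : a ∈ A) (ha1 : a ≠ 1)
    (hc : c ∈ C) (hc1 : c ≠ 1) (hxE : a * c ∈ E) :
    Cfsg.IsRankOnePair P C ∨ Cfsg.IsRankOnePair P E := by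
  rcases hS.pair P hP C hC with h | h | h
  · exfalso
    have hz : c ∈ centralizer ((A ⊔ P : Subgroup G) : Set G) := by
      have : A ⊔ P ≤ centralizer ({c} : Set G) := sup_le
        (fun x hx => mem_centralizer_singleton_iff.2 (commute_of_commutator_eq_bot hAC hx hc))
        (fun x hx => mem_centralizer_singleton_iff.2 (commute_of_commutator_eq_bot h hx hc))
      exact mem_centralizer_iff.2 fun x hx => mem_centralizer_singleton_iff.1 (this hx)
    refine not_rootElement hS hA ⟨hP, hAP⟩ hz hc1 a ha ha1 ⟨fun e => ?_, E, hE, ?_⟩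
    · refine hne (eq_of_mem_both hS hA hP hAP hC ha ?_ ha1)
      rw [eq_inv_of_mul_eq_one_right e]
      exact inv_mem hc
    · rwa [← commute_of_commutator_eq_bot hAC ha hc]
  · exact Or.inl h
  · exact Or.inr (partner_of_case hS hA hP hE hC hAP h ha ha1 hc hxE)

theorem case_member_eq {A B E : Subgroup G} (h : Cfsg.RootCommutatorCase S A B) (hA : A ∈ S) (hn : NonIso S A)
    (hB : B ∈ S) (hE : E ∈ S) (hle : E ≤ ⁅A, B⁆) : E = ⁅A, B⁆ := by
  obtain ⟨P, hP, hAP⟩ := hn
  have hcase : ∀ K ∈ S, K ≤ ⁅A, B⁆ → Cfsg.IsRankOnePair P K ∨ Cfsg.RootCommutatorCase S P K := by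
    intro K hK hKle
    rcases hS.pair P hP K hK with h' | h' | h'
    · exfalso
      obtain ⟨z, hzK, hz1⟩ : ∃ z ∈ K, z ≠ 1 := (Subgroup.bot_or_exists_ne_one _).resolve_left (hS.ne_bot K hK)
      obtain ⟨a, ha, ha1⟩ := (exists_ne_one hAP).1
      obtain ⟨b, hb, he⟩ := case_surj h ha ha1 (inv_mem (hKle hzK))
      have hz : z ∈ centralizer ((A ⊔ P : Subgroup G) : Set G) := by
        have : A ⊔ P ≤ centralizer ({z} : Set G) := sup_le
          (fun x hx => mem_centralizer_singleton_iff.2 (case_central h (hKle hzK) (mem_sup_left hx)).symm)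
          (fun x hx => mem_centralizer_singleton_iff.2 (commute_of_commutator_eq_bot h' hx hzK))
        exact mem_centralizer_iff.2 fun x hx => mem_centralizer_singleton_iff.1 (this hx)
      have hza : z * a = b * a * b⁻¹ := by
        rw [show z = ⁅a, b⁆⁻¹ by rw [he, inv_inv], commutatorElement_def]
        group
      refine not_rootElement hS hA ⟨hP, hAP⟩ hz hz1 a ha ha1
        ⟨fun e => ha1 (conj_eq_one_iff.1 (hza.symm.trans e)), _, hS.conj_mem A hA b, ?_⟩
      rw [hza]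
      exact conj_mem_conjBy ha
    · exact Or.inl h'
    · exact Or.inr h'
  obtain ⟨e₀, he₀, he₁⟩ := (Subgroup.bot_or_exists_ne_one _).resolve_left (hS.ne_bot E hE)
  rcases hcase E hE hle with h1 | h1
  · exact nonIso_eq hS hE ⟨P, hP, Cfsg.RankOnePair_symm h1⟩ h.1 he₀ (hle he₀) he₁
  rcases hcase _ h.1 le_rfl with h2 | h2
  · exact (nonIso_eq hS h.1 ⟨P, hP, Cfsg.RankOnePair_symm h2⟩ hE (hle he₀) he₀ he₁).symm
  have hF : ⁅P, E⁆ = ⁅P, ⁅A, B⁆⁆ := (h1.2.2.2 e₀ he₀ he₁).symm.trans (h2.2.2.2 e₀ (hle he₀) he₁)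
  refine le_antisymm hle fun c hc => ?_
  obtain ⟨p, hp, hp1⟩ := (exists_ne_one hAP).2
  obtain ⟨e, he, hec⟩ := case_surj h1 hp hp1 (c := ⁅p, c⁆) (hF ▸ commutator_mem_commutator hp hc)
  have h3 : ⁅p, e⁻¹ * c⁆ = 1 := by
    have h4 := case_mul_right h2 hp (inv_mem (hle he)) (hle he)
    rw [inv_mul_cancel, commutatorElement_one_right] at h4
    rw [case_mul_right h2 hp (inv_mem (hle he)) hc, ← hec, ← h4]
  have := case_inj hS h2 hP ⟨A, hA, Cfsg.RankOnePair_symm hAP⟩ hp hp1 (mul_mem (inv_mem (hle he)) hc) h3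
  rwa [← inv_mul_eq_one.1 this]

/-- The members in `A ⊔ [A, B]`. -/
theorem case_membersIn {A B : Subgroup G} (h : Cfsg.RootCommutatorCase S A B) (hA : A ∈ S) (hn : NonIso S A)
    (hB : B ∈ S) :
    Cfsg.membersIn S (A ⊔ ⁅A, B⁆) = (fun b : G => Cfsg.conjBy A b) '' (B : Set G) ∪ {⁅A, B⁆} := by
  ext E
  constructor
  · rintro ⟨hE, hle⟩
    by_cases hall : E ≤ ⁅A, B⁆
    · exact Or.inr (case_member_eq hS h hA hn hB hE hall)
    obtain ⟨e, he, hne⟩ := SetLike.not_le_iff_exists.1 hall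
    obtain ⟨b, hb, heb⟩ := (case_cover h (hle he)).resolve_left hne
    exact Or.inl ⟨b, hb, nonIso_eq hS (hS.conj_mem A hA b) (nonIso_conjBy hS hn b) hE heb he
      fun e1 => hne (e1 ▸ one_mem _)⟩
  · rintro (⟨b, hb, rfl⟩ | rfl)
    · refine ⟨hS.conj_mem A hA b, ?_⟩
      rintro _ ⟨a, ha, rfl⟩
      exact conj_mem_sup_commutator ha hb
    · exact ⟨h.1, le_sup_right⟩

theorem case_partition {A B : Subgroup G} (h : Cfsg.RootCommutatorCase S A B) (hA : A ∈ S) (hn : NonIso S A)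
    (hB : B ∈ S) : Cfsg.IsSubgroupPartition (A ⊔ ⁅A, B⁆) (Cfsg.membersIn S (A ⊔ ⁅A, B⁆)) := by
  refine ⟨fun C hC => hC.2, fun x hx _ => ?_, ?_⟩
  · rcases case_cover h hx with hx' | ⟨b, hb, hx'⟩
    · exact ⟨_, ⟨h.1, le_sup_right⟩, hx'⟩
    · refine ⟨Cfsg.conjBy A b, ⟨hS.conj_mem A hA b, ?_⟩, hx'⟩
      rintro _ ⟨a, ha, rfl⟩
      exact conj_mem_sup_commutator ha hb
  · intro C hC D hD hne
    rw [case_membersIn hS h hA hn hB] at hC hD
    refine (eq_bot_iff_forall _).2 fun x hx => by_contra fun hx1 => hne ?_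
    obtain ⟨hxC, hxD⟩ := Subgroup.mem_inf.1 hx
    rcases hC with ⟨b, -, rfl⟩ | rfl
    · refine nonIso_eq hS (hS.conj_mem A hA b) (nonIso_conjBy hS hn b) ?_ hxC hxD hx1
      rcases hD with ⟨b', -, rfl⟩ | rfl
      · exact hS.conj_mem A hA b'
      · exact h.1
    · rcases hD with ⟨b', -, rfl⟩ | rfl
      · exact (nonIso_eq hS (hS.conj_mem A hA b') (nonIso_conjBy hS hn b') h.1 hxD hxC hx1).symm
      · rfl

/-! ### The graph of rank one pairs -/

omit hS in
theorem fadj_symm {X Y : Subgroup G} (h : Cfsg.FAdj S X Y) : Cfsg.FAdj S Y X :=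
  ⟨h.2.1, h.1, Cfsg.RankOnePair_symm h.2.2⟩

omit hS in
theorem reach_symm {X Y : Subgroup G} (h : Relation.ReflTransGen (Cfsg.FAdj S) X Y) :
    Relation.ReflTransGen (Cfsg.FAdj S) Y X := by
  induction h with
  | refl => exact .refl
  | tail _ h2 ih => exact Relation.ReflTransGen.head (fadj_symm h2) ih

theorem reach_conjBy {X Y : Subgroup G} (h : Relation.ReflTransGen (Cfsg.FAdj S) X Y) (g : G) :
    Relation.ReflTransGen (Cfsg.FAdj S) (Cfsg.conjBy X g) (Cfsg.conjBy Y g) := by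
  induction h with
  | refl => exact .refl
  | tail _ h2 ih =>
    exact ih.tail ⟨hS.conj_mem _ h2.1 g, hS.conj_mem _ h2.2.1 g, pair_conjBy h2.2.2 g⟩

omit hS in
theorem reach_isConj {X Y : Subgroup G} (h : Relation.ReflTransGen (Cfsg.FAdj S) X Y) :
    ∃ g : G, Y = Cfsg.conjBy X g := by
  induction h with
  | refl => exact ⟨1, (conjBy_one X).symm⟩
  | tail _ h2 ih =>
    obtain ⟨g, rfl⟩ := ih
    obtain ⟨x, -, hx⟩ := right_mem h2.2.2
    exact ⟨x * g, by rw [hx, conjBy_conjBy]⟩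

theorem reach_of_mem {A B : Subgroup G} (hA : A ∈ S) (hn : NonIso S A) (hB : B ∈ S) {b : G} (hb : b ∈ B) :
    Relation.ReflTransGen (Cfsg.FAdj S) A (Cfsg.conjBy A b) := by
  by_cases hAA : Cfsg.conjBy A b = A
  · rw [hAA]
  rcases hS.pair A hA B hB with h | h | h
  · refine absurd (conjBy_eq_self_iff.2 (centralizer_le_normalizer _ (mem_centralizer_iff.2 ?_))) hAA
    exact fun a ha => commute_of_commutator_eq_bot h ha hb
  · exact .single ⟨hA, hS.conj_mem A hA b,
      pair_of_unipotent h (left_mem h) ⟨b, mem_sup_right hb, rfl⟩ fun e => hAA e.symm⟩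
  · obtain ⟨P, hP, hAP⟩ := hn
    obtain ⟨a, ha, ha1⟩ := (exists_ne_one hAP).1
    have hb1 : b ≠ 1 := fun e => hAA (by rw [e, conjBy_one])
    have hc : ⁅b, a⁆ ∈ ⁅A, B⁆ := by
      rw [commutator_comm]
      exact commutator_mem_commutator hb ha
    have hc1 : ⁅b, a⁆ ≠ 1 := fun e => hb1
      (case_inj hS h hA ⟨P, hP, hAP⟩ ha ha1 hb (by rw [← commutatorElement_inv, e, inv_one]))
    have hmem : a * ⁅b, a⁆ ∈ Cfsg.conjBy A b := by
      rw [← case_central h hc (mem_sup_left ha), commutatorElement_def,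
        show b * a * b⁻¹ * a⁻¹ * a = b * a * b⁻¹ by group]
      exact conj_mem_conjBy ha
    have h1 : Relation.ReflTransGen (Cfsg.FAdj S) A P := .single ⟨hA, hP, hAP⟩
    rcases partner_or hS hA hP h.1 (hS.conj_mem A hA b) hAP (commutator_eq_bot_of_commute
        fun x hx c hc => (case_central h hc (mem_sup_left hx)).symm) (case_ne h hS) ha ha1 hc hc1 hmem with
      h2 | h2
    · have h3 : Relation.ReflTransGen (Cfsg.FAdj S) A ⁅A, B⁆ := h1.tail ⟨hP, h.1, h2⟩
      have h4 := reach_conjBy hS h3 b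
      rw [conjBy_eq_self_iff.2 (sup_le_normalizer_commutator A B (mem_sup_right hb))] at h4
      exact h3.trans (reach_symm h4)
    · exact h1.tail ⟨hP, hS.conj_mem A hA b, h2⟩

/-- The component of a member with a partner is its conjugacy class. -/
theorem reach_conj {A : Subgroup G} (hA : A ∈ S) (hn : NonIso S A) (g : G) :
    Relation.ReflTransGen (Cfsg.FAdj S) A (Cfsg.conjBy A g) := by
  suffices ∀ g ∈ (⊤ : Subgroup G), ∀ A ∈ S, NonIso S A →
      Relation.ReflTransGen (Cfsg.FAdj S) A (Cfsg.conjBy A g) from this g (mem_top g) A hA hn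
  intro g hg
  have hg' : g ∈ Subgroup.closure {x : G | ∃ B ∈ S, x ∈ B} := by
    refine (le_trans ?_ (le_refl _) : (⊤ : Subgroup G) ≤ _) hg
    rw [← hS.generates]
    exact iSup₂_le fun B hB x hx => subset_closure ⟨B, hB, hx⟩
  induction hg' using Subgroup.closure_induction'' with
  | mem x hx =>
    obtain ⟨B, hB, hxB⟩ := hx
    exact fun A hA hn => reach_of_mem hS hA hn hB hxB
  | inv_mem x hx =>
    obtain ⟨B, hB, hxB⟩ := hx
    exact fun A hA hn => reach_of_mem hS hA hn hB (inv_mem hxB)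
  | one => exact fun A _ _ => by rw [conjBy_one]
  | mul x y _ _ hx hy =>
    intro A hA hn
    rw [← conjBy_conjBy]
    exact (hy (mem_top _) A hA hn).trans
      (hx (mem_top _) _ (hS.conj_mem A hA y) (nonIso_conjBy hS hn y))

/-- The key fact about a line: the commutator with `⁅P, E⁆` moves `A` along the line towards `E`. -/
theorem line_step {A P E : Subgroup G} (hA : A ∈ S) (hP : P ∈ S) (hE : E ∈ S)
    (hAP : Cfsg.IsRankOnePair A P) (hAE : ⁅A, E⁆ = ⊥) (hEn : NonIso S E)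
    (hPE : Cfsg.RootCommutatorCase S P E)
    (hcov : ∀ x ∈ A ⊔ E, x ≠ 1 → ∃ E' ∈ S, x ∈ E') :
    Cfsg.RootCommutatorCase S A ⁅P, E⁆ ∧ ⁅A, ⁅P, E⁆⁆ = E := by
  obtain ⟨a, ha, ha1⟩ := (exists_ne_one hAP).1
  obtain ⟨p, hp, hp1, hconj⟩ := hAP.cond_left a ha ha1
  obtain ⟨e, he, he1⟩ := (Subgroup.bot_or_exists_ne_one _).resolve_left (hS.ne_bot E hE)
  have hPn : NonIso S P := ⟨A, hA, Cfsg.RankOnePair_symm hAP⟩
  have hAn : NonIso S A := ⟨P, hP, hAP⟩
  have cAE : ∀ {x y : G}, x ∈ A → y ∈ E → x * y = y * x := fun hx hy => commute_of_commutator_eq_bot hAE hx hy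
  set f := ⁅p⁻¹, e⁆ with hfdef
  have hf : f ∈ ⁅P, E⁆ := commutator_mem_commutator (inv_mem hp) he
  have hf1 : f ≠ 1 := fun h0 => he1 (case_inj hS hPE hP hPn (inv_mem hp) (inv_ne_one.2 hp1) he h0)
  have hfe : p⁻¹ * e * p = f * e := by rw [hfdef, commutatorElement_def]; group
  set m := a * (f * e) * a⁻¹ with hmdef
  have hm : ∀ q ∈ P, q * m = m * q := by
    intro q hq
    obtain ⟨a', ha', hq'⟩ : a⁻¹ * q * a ∈ Cfsg.conjBy A p⁻¹ := by
      rw [hconj, mem_conjBy]
      simpa [mul_assoc] using hq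
    have hq'' : a⁻¹ * q * a = p⁻¹ * a' * p := by
      rw [← hq']
      show p⁻¹ * a' * (p⁻¹)⁻¹ = _
      rw [inv_inv]
    calc q * m = a * ((a⁻¹ * q * a) * (f * e)) * a⁻¹ := by rw [hmdef]; group
      _ = a * ((p⁻¹ * a' * p) * (p⁻¹ * e * p)) * a⁻¹ := by rw [hq'', hfe]
      _ = a * (p⁻¹ * (a' * e) * p) * a⁻¹ := by group
      _ = a * (p⁻¹ * (e * a') * p) * a⁻¹ := by rw [cAE ha' he]
      _ = a * ((p⁻¹ * e * p) * (p⁻¹ * a' * p)) * a⁻¹ := by group
      _ = a * ((f * e) * (a⁻¹ * q * a)) * a⁻¹ := by rw [hq'', hfe]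
      _ = m * q := by rw [hmdef]; group
  have hcfE : f * e = e * f := case_central hPE hf (mem_sup_right he)
  have hfP : ∀ q ∈ P, q * f = f * q := fun q hq => (case_central hPE hf (mem_sup_left hq)).symm
  rcases hS.pair A hA _ hPE.1 with h | h | h
  · refine absurd (case_inj hS hPE hP hPn hp hp1 he ?_) he1
    have hme : m = f * e := by
      rw [hmdef, ← mul_assoc, commute_of_commutator_eq_bot h ha hf, mul_assoc f a e, cAE ha he]
      group
    have h1 := hm p hp
    rw [hme, ← mul_assoc, hfP p hp, mul_assoc, mul_assoc] at h1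
    exact commutatorElement_eq_one_iff_commute.2 (mul_left_cancel h1)
  · exfalso
    have hz : e ∈ centralizer ((⁅P, E⁆ ⊔ A : Subgroup G) : Set G) := by
      have : ⁅P, E⁆ ⊔ A ≤ centralizer ({e} : Set G) := sup_le
        (fun x hx => mem_centralizer_singleton_iff.2 (case_central hPE hx (mem_sup_right he)))
        (fun x hx => mem_centralizer_singleton_iff.2 (cAE hx he))
      exact mem_centralizer_iff.2 fun x hx => mem_centralizer_singleton_iff.1 (this hx)
    refine not_rootElement hS hPE.1 ⟨hA, Cfsg.RankOnePair_symm h⟩ hz he1 f hf hf1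
      ⟨?_, Cfsg.conjBy E p⁻¹, hS.conj_mem E hE _, ?_⟩
    · rw [← hcfE, ← hfe]
      exact fun h0 => he1 (by simpa [mul_assoc] using congrArg (fun z => p * z * p⁻¹) h0)
    · rw [← hcfE, ← hfe]
      have := conj_mem_conjBy (g := p⁻¹) he
      rwa [inv_inv] at this
  · refine ⟨h, ?_⟩
    set k := ⁅a, f⁆ with hkdef
    have hk : k ∈ ⁅A, ⁅P, E⁆⁆ := commutator_mem_commutator ha hf
    have hk1 : k ≠ 1 := fun h0 => hf1 (case_inj hS h hA hAn ha ha1 hf h0)
    have hEk : ∀ y ∈ E, y * k = k * y := by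
      intro y hy
      have h1 : A ⊔ ⁅P, E⁆ ≤ centralizer ({y} : Set G) := sup_le
        (fun x hx => mem_centralizer_singleton_iff.2 (cAE hx hy))
        (fun x hx => mem_centralizer_singleton_iff.2 (case_central hPE hx (mem_sup_right hy)))
      exact (mem_centralizer_singleton_iff.1 (h1 (commutator_le_sup _ _ hk))).symm
    set z := k * e with hzdef
    have hmz : m = z * f := by
      rw [hmdef, hzdef, mul_assoc k e f, ← hcfE, show a * (f * e) * a⁻¹ = a * f * (e * a⁻¹) by group,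
        ← cAE (inv_mem ha) he, hkdef, commutatorElement_def]
      group
    have hzP : ∀ q ∈ P, q * z = z * q := by
      intro q hq
      have h1 := hm q hq
      rw [hmz] at h1
      refine mul_right_cancel (b := f) ?_
      rw [mul_assoc q z f, h1, mul_assoc z f q, ← hfP q hq, mul_assoc z q f]
    have hzA : ∀ y ∈ A, y * z = z * y := fun y hy => by
      rw [hzdef, ← mul_assoc, ← case_central h hk (mem_sup_left hy), mul_assoc, cAE hy he, ← mul_assoc]
    have hzE : ∀ y ∈ E, y * z = z * y := fun y hy => by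
      rw [hzdef, ← mul_assoc, hEk y hy, mul_assoc, comm_of_mem hS hE hy he, ← mul_assoc]
    rcases eq_or_ne z 1 with hz1 | hz1
    · refine (nonIso_eq hS hE hEn h.1 (inv_mem he) ?_ (inv_ne_one.2 he1)).symm
      rw [← eq_inv_of_mul_eq_one_left hz1]
      exact hk
    exfalso
    have hea : e * a ≠ 1 := by
      intro h0
      have haE : a ∈ E := by
        rw [eq_inv_of_mul_eq_one_right h0]
        exact inv_mem he
      have hAeq := eq_of_mem_both hS hA hP hAP hE ha haE ha1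
      subst hAeq
      exact not_pair_of_case hS hP hPE (Cfsg.RankOnePair_symm hAP)
    obtain ⟨E', hE', hmem⟩ := hcov _ (mul_mem (mem_sup_right he) (mem_sup_left ha)) hea
    have hzc : z ∈ centralizer ((A ⊔ P : Subgroup G) : Set G) := by
      have : A ⊔ P ≤ centralizer ({z} : Set G) := sup_le
        (fun x hx => mem_centralizer_singleton_iff.2 (hzA x hx))
        (fun x hx => mem_centralizer_singleton_iff.2 (hzP x hx))
      exact mem_centralizer_iff.2 fun x hx => mem_centralizer_singleton_iff.1 (this hx)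
    obtain ⟨f', hf', hfk⟩ := case_surj h ha ha1 (inv_mem hk)
    have hfe' : f' * e = e * f' := case_central hPE hf' (mem_sup_right he)
    have hza : z * a = f' * (e * a) * f'⁻¹ := by
      rw [hzdef, show f' * (e * a) * f'⁻¹ = (f' * e) * (a * f'⁻¹) by group, hfe',
        ← hEk e he, show k = ⁅a, f'⁆⁻¹ by rw [hfk, inv_inv], commutatorElement_def]
      group
    refine not_rootElement hS hA ⟨hP, hAP⟩ hzc hz1 a ha ha1
      ⟨fun h0 => hea (conj_eq_one_iff.1 (hza.symm.trans h0)), _, hS.conj_mem E' hE' f', ?_⟩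
    rw [hza]
    exact conj_mem_conjBy hmem

end rootSet

end CfsgLib.RootSub
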