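import Cfsg.Agent.Lib.RootSub.RankOne

/-!
# Special rank one pairs with abelian unipotent subgroups: the unipotent subgroups lie in the derived group
-/

set_option autoImplicit false
set_option linter.style.haveILetI false

namespace CfsgLib.RootSub

open Subgroup
open scoped commutatorElement

variable {G : Type*} [Group G]

theorem special_element {A B : Subgroup G} (h : Cfsg.IsSpecialRankOnePair A B)
    (hB : ∀ x ∈ B, ∀ y ∈ B, x * y = y * x) {a : G} (ha : a ∈ A) (ha1 : a ≠ 1) :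
    ∃ F ∈ B, F ≠ 1 ∧ Cfsg.conjBy A F = Cfsg.conjBy B a⁻¹ ∧ a * F * a = F * a * F ∧
      Cfsg.conjBy A (a * F * a) = B ∧ Cfsg.conjBy B (a * F * a) = A ∧ Cfsg.conjBy A F⁻¹ = Cfsg.conjBy B a := by
  obtain ⟨b, hb, hb1, he⟩ := h.1.cond_left a ha ha1
  have hs := h.2 a ha ha1 b hb hb1 he
  have hbr : a * b⁻¹ * a = b⁻¹ * a * b⁻¹ := by
    calc a * b⁻¹ * a = a * (b⁻¹ * a * b) * b⁻¹ := by group
      _ = a * (a⁻¹ * b⁻¹ * a) * b⁻¹ := by rw [hs]
      _ = b⁻¹ * a * b⁻¹ := by group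
  have hAn : Cfsg.conjBy A (a * b⁻¹ * a) = B := by
    rw [← conjBy_conjBy, conjBy_eq_self_of_mem ha, ← conjBy_conjBy, he, conjBy_conjBy, mul_inv_cancel,
      conjBy_one]
  suffices hBn : Cfsg.conjBy B (a * b⁻¹ * a) = A by
    refine ⟨b⁻¹, inv_mem hb, inv_ne_one.2 hb1, he, hbr, hAn, hBn, ?_⟩
    have h1 := congrArg (fun U => Cfsg.conjBy U (a * (a * b⁻¹ * a)⁻¹)) hBn
    simp only [conjBy_conjBy] at h1
    rw [inv_mul_cancel_right, show a * (a * b⁻¹ * a)⁻¹ = b⁻¹⁻¹ * a⁻¹ by group, ← conjBy_conjBy,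
      conjBy_eq_self_of_mem (inv_mem ha)] at h1
    exact h1.symm
  have hmem : a ∈ Cfsg.conjBy B (a * b⁻¹ * a) := by
    rw [mem_conjBy, show (a * b⁻¹ * a)⁻¹ * a * (a * b⁻¹ * a) = a⁻¹ * b * (a * b⁻¹ * a) by group, hbr]
    simpa [mul_assoc] using inv_mem hb
  by_contra hne
  have hX : a * b⁻¹ * a ∈ A ⊔ B :=
    mul_mem (mul_mem (mem_sup_left ha) (mem_sup_right (inv_mem hb))) (mem_sup_left ha)
  have hU := conjBy_mem_unipotent h.1 (right_mem h.1) hX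
  refine ha1 (eq_one_of_commute (Cfsg.RankOnePair_symm (pair_of_unipotent h.1 (left_mem h.1) hU (Ne.symm hne))) ha
    fun x hx => ?_)
  rw [mem_conjBy] at hx hmem
  have h1 := hB _ hx _ hmem
  calc x * a = (a * b⁻¹ * a) * (((a * b⁻¹ * a)⁻¹ * x * (a * b⁻¹ * a)) * ((a * b⁻¹ * a)⁻¹ * a * (a * b⁻¹ * a))) *
        (a * b⁻¹ * a)⁻¹ := by group
    _ = (a * b⁻¹ * a) * (((a * b⁻¹ * a)⁻¹ * a * (a * b⁻¹ * a)) * ((a * b⁻¹ * a)⁻¹ * x * (a * b⁻¹ * a))) *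
        (a * b⁻¹ * a)⁻¹ := by rw [h1]
    _ = a * x := by group

/-- If `A` has more than three elements, then it lies in the derived group of `A ⊔ B`. -/
theorem special_le_derived {A B : Subgroup G} (h : Cfsg.IsSpecialRankOnePair A B)
    (hA : ∀ x ∈ A, ∀ y ∈ A, x * y = y * x) (hB : ∀ x ∈ B, ∀ y ∈ B, x * y = y * x)
    (hcard : ∀ a ∈ A, ∃ w ∈ A, w ≠ 1 ∧ a * w ≠ 1 ∧ a * (a * w) ≠ 1) : A ≤ ⁅A ⊔ B, A ⊔ B⁆ := by
  set X := A ⊔ B with hX
  set π : ↥X →* Abelianization ↥X := Abelianization.of with hπ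
  let c : ∀ x : G, x ∈ X → Abelianization ↥X := fun x hx => π ⟨x, hx⟩
  have hAX : A ≤ X := le_sup_left
  have hBX : B ≤ X := le_sup_right
  have cmul : ∀ {x y : G} (hx : x ∈ X) (hy : y ∈ X), c (x * y) (mul_mem hx hy) = c x hx * c y hy :=
    fun hx hy => map_mul π ⟨_, hx⟩ ⟨_, hy⟩
  have cconj : ∀ {x y z : G} (hx : x ∈ X) (hy : y ∈ X) (hz : z ∈ X), x * y * x⁻¹ = z → c y hy = c z hz := by
    intro x y z hx hy hz e
    have h1 : π (⟨x, hx⟩ * ⟨y, hy⟩ * ⟨x, hx⟩⁻¹) = π ⟨z, hz⟩ := congrArg π (Subtype.ext e)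
    rw [map_mul, map_mul, map_inv, mul_comm (π ⟨x, hx⟩), mul_inv_cancel_right] at h1
    exact h1
  have cF : ∀ {a F : G} (ha : a ∈ A) (hF : F ∈ B), a * F * a = F * a * F → c a (hAX ha) = c F (hBX hF) := by
    intro a F ha hF hbr
    refine cconj (mul_mem (mul_mem (hAX ha) (hBX hF)) (hAX ha)) (hAX ha) (hBX hF) ?_
    calc a * F * a * a * (a * F * a)⁻¹ = a * F * a * (F⁻¹ * a⁻¹) := by group
      _ = F * a * F * (F⁻¹ * a⁻¹) := by rw [hbr]
      _ = F := by group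
  have key : ∀ a ∈ A, ∀ w ∈ A, a ≠ 1 → w ≠ 1 → a * w ≠ 1 → ∀ (haX : a ∈ X) (hwX : w ∈ X),
      c a haX * c w hwX * c w hwX = 1 := by
    intro a ha w hw ha1 hw1 haw haX hwX
    obtain ⟨F, hF, -, -, hbrF, hAn, hBn, -⟩ := special_element h hB ha ha1
    obtain ⟨W, hW, -, -, hbrw, -, -, heW⟩ := special_element h hB hw hw1
    obtain ⟨U, hU, -, -, hbrU, -, -, heU⟩ := special_element h hB (mul_mem ha hw) haw
    set n := a * F * a with hn
    have hnX : n ∈ X := mul_mem (mul_mem (hAX ha) (hBX hF)) (hAX ha)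
    have ht : n * W * n⁻¹ ∈ A := hBn ▸ conj_mem_conjBy hW
    set t := n * W * n⁻¹ with htdef
    have hnF : n * F⁻¹ * n⁻¹ = a⁻¹ := by
      calc n * F⁻¹ * n⁻¹ = (a * F * a) * F⁻¹ * a⁻¹ * F⁻¹ * a⁻¹ := by rw [hn]; group
        _ = (F * a * F) * F⁻¹ * a⁻¹ * F⁻¹ * a⁻¹ := by rw [← hbrF, hn]
        _ = a⁻¹ := by group
    have hWF : F⁻¹ * W⁻¹ = W⁻¹ * F⁻¹ := hB _ (inv_mem hF) _ (inv_mem hW)
    have hpt : Cfsg.conjBy A (F * U⁻¹) = Cfsg.conjBy B (a * t)⁻¹ := by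
      rw [← conjBy_conjBy, heU, conjBy_conjBy,
        show F * (a * w) = (F * a * F) * F⁻¹ * w by group, ← hbrF, ← conjBy_conjBy, ← heW,
        conjBy_conjBy, mul_assoc n, hWF,
        show n * (W⁻¹ * F⁻¹) = (n * W * n⁻¹)⁻¹ * (n * F⁻¹ * n⁻¹) * n by group,
        hnF, ← conjBy_conjBy, hAn, ← htdef, mul_inv_rev a t]
    have hat : a * t ≠ 1 := by
      intro e
      rw [e, inv_one, conjBy_one] at hpt
      have h1 := congrArg (fun V => Cfsg.conjBy V (F * U⁻¹)⁻¹) hpt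
      simp only [conjBy_conjBy, inv_mul_cancel, conjBy_one] at h1
      rw [conjBy_eq_self_of_mem (inv_mem (mul_mem hF (inv_mem hU)))] at h1
      exact h.1.ne h1
    obtain ⟨V, hV, -, heV, hbrV, -, -, -⟩ := special_element h hB (mul_mem ha ht) hat
    have hVU : V = F * U⁻¹ := by
      have h1 := conjBy_eq_iff.1 (hpt.trans heV.symm)
      exact inv_mul_eq_one.1
        (eq_one_of_mem_normalizer h.1 (mul_mem (inv_mem hV) (mul_mem hF (inv_mem hU))) h1)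
    have hct : c W (hBX hW) = c t (hAX ht) := cconj hnX (hBX hW) (hAX ht) htdef.symm
    have e1 := cF (mul_mem ha ht) hV hbrV
    rw [cmul (hAX ha) (hAX ht), ← hct, ← cF hw hW hbrw] at e1
    have e2 : c V (hBX hV) = c F (hBX hF) * (c U (hBX hU))⁻¹ := by
      subst hVU
      show π (⟨F, hBX hF⟩ * ⟨U, hBX hU⟩⁻¹) = _
      rw [map_mul, map_inv]
    rw [← cF ha hF hbrF, ← cF (mul_mem ha hw) hU hbrU, cmul (hAX ha) (hAX hw), mul_inv, mul_inv_cancel_left] at e2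
    show c a (hAX ha) * c w (hAX hw) * c w (hAX hw) = 1
    rw [e1, e2, inv_mul_cancel]
  intro a ha
  rcases eq_or_ne a 1 with rfl | ha1
  · exact one_mem _
  obtain ⟨w, hw, hw1, haw, haaw⟩ := hcard a ha
  have haX := hAX ha
  have hwX := hAX hw
  have e1 := key w hw a ha hw1 ha1 (by rwa [hA w hw a ha]) hwX haX
  have e2 := key (a * w) (mul_mem ha hw) a ha haw ha1 (by rwa [hA (a * w) (mul_mem ha hw) a ha])
    (mul_mem haX hwX) haX
  rw [cmul haX hwX, mul_assoc (c a haX) (c w hwX), mul_assoc (c a haX),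
    e1, mul_one] at e2
  have h3 : (⟨a, haX⟩ : ↥X) ∈ commutator ↥X :=
    (QuotientGroup.eq_one_iff (N := commutator ↥X) (⟨a, haX⟩ : ↥X)).1 e2
  rw [← Subgroup.map_subtype_commutator]
  exact ⟨_, h3, rfl⟩

end CfsgLib.RootSub
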