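import Cfsg.Prelude.Def_RootSubgroups

/-!
# Rank one groups and sets of abstract root subgroups: first properties
-/

set_option autoImplicit false
set_option linter.style.haveILetI false

namespace CfsgLib.RootSub

open Subgroup
open scoped commutatorElement

variable {G : Type*} [Group G]

theorem mem_conjBy {A : Subgroup G} {g x : G} : x ∈ Cfsg.conjBy A g ↔ g⁻¹ * x * g ∈ A := by
  constructor
  · rintro ⟨a, ha, rfl⟩
    simpa [mul_assoc] using ha
  · exact fun h => ⟨_, h, by simp [mul_assoc]⟩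

theorem conj_mem_conjBy {A : Subgroup G} {g a : G} (ha : a ∈ A) : g * a * g⁻¹ ∈ Cfsg.conjBy A g :=
  ⟨a, ha, rfl⟩

theorem conjBy_conjBy (A : Subgroup G) (g h : G) :
    Cfsg.conjBy (Cfsg.conjBy A g) h = Cfsg.conjBy A (h * g) := by
  ext x
  rw [mem_conjBy, mem_conjBy, mem_conjBy, mul_inv_rev]
  simp only [mul_assoc]

theorem conjBy_one (A : Subgroup G) : Cfsg.conjBy A 1 = A := by
  ext x; simp [mem_conjBy]

theorem conjBy_inj {A B : Subgroup G} (g : G) (h : Cfsg.conjBy A g = Cfsg.conjBy B g) : A = B :=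
  Subgroup.map_injective (MulEquiv.injective (MulAut.conj g)) h

theorem conjBy_eq_self_iff {A : Subgroup G} {g : G} :
    Cfsg.conjBy A g = A ↔ g ∈ normalizer (A : Set G) := by
  constructor
  · intro h
    refine Subgroup.mem_normalizer_iff.2 fun x => ⟨fun hx => h ▸ conj_mem_conjBy hx, fun hx => ?_⟩
    rw [← h, mem_conjBy] at hx
    simpa [mul_assoc] using hx
  · intro h
    ext x
    rw [mem_conjBy, Subgroup.mem_normalizer_iff.1 h (g⁻¹ * x * g)]
    simp [mul_assoc]

theorem conjBy_eq_self_of_mem {A : Subgroup G} {g : G} (h : g ∈ A) : Cfsg.conjBy A g = A :=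
  conjBy_eq_self_iff.2 (le_normalizer h)

theorem conjBy_eq_iff {A : Subgroup G} {g h : G} :
    Cfsg.conjBy A g = Cfsg.conjBy A h ↔ h⁻¹ * g ∈ normalizer (A : Set G) := by
  rw [← conjBy_eq_self_iff, ← conjBy_conjBy]
  constructor
  · intro e
    rw [e, conjBy_conjBy, inv_mul_cancel, conjBy_one]
  · intro e
    have := congrArg (fun X => Cfsg.conjBy X h) e
    rwa [conjBy_conjBy, mul_inv_cancel, conjBy_one] at this

/-- Conjugating a rank one pair. -/
theorem pair_conjBy {A B : Subgroup G} (h : Cfsg.IsRankOnePair A B) (g : G) :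
    Cfsg.IsRankOnePair (Cfsg.conjBy A g) (Cfsg.conjBy B g) := by
  have hc : ∀ {A B : Subgroup G}, Cfsg.RankOneCondition A B →
      Cfsg.RankOneCondition (Cfsg.conjBy A g) (Cfsg.conjBy B g) := by
    intro A B hAB a ha ha1
    obtain ⟨a, haA, rfl⟩ := ha
    obtain ⟨b, hb, hb1, he⟩ := hAB a haA (fun e => ha1 (by rw [e, map_one]))
    refine ⟨g * b * g⁻¹, conj_mem_conjBy hb, fun e => hb1 (conj_eq_one_iff.1 e), ?_⟩
    rw [conjBy_conjBy, conjBy_conjBy]
    show Cfsg.conjBy A ((g * b * g⁻¹)⁻¹ * g) = Cfsg.conjBy B ((g * a * g⁻¹)⁻¹ * g)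
    rw [show (g * b * g⁻¹)⁻¹ * g = g * b⁻¹ by group, show (g * a * g⁻¹)⁻¹ * g = g * a⁻¹ by group,
      ← conjBy_conjBy, he, conjBy_conjBy]
  haveI := h.nilpotent_left
  haveI := h.nilpotent_right
  exact ⟨fun e => h.ne (conjBy_inj g e),
    Group.nilpotent_of_mulEquiv (Subgroup.equivMapOfInjective A (MulAut.conj g).toMonoidHom (MulEquiv.injective _)),
    Group.nilpotent_of_mulEquiv (Subgroup.equivMapOfInjective B (MulAut.conj g).toMonoidHom (MulEquiv.injective _)),
    hc h.cond_left, hc h.cond_right⟩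

section pair

variable {A B : Subgroup G} (h : Cfsg.IsRankOnePair A B)
include h

theorem inf_normalizer_right : B ⊓ normalizer (A : Set G) = ⊥ := by
  refine (eq_bot_iff_forall _).2 fun b hb => by_contra fun hb1 => h.ne ?_
  obtain ⟨hbB, hbN⟩ := Subgroup.mem_inf.1 hb
  obtain ⟨a, ha, -, he⟩ := h.cond_right b hbB hb1
  rw [conjBy_eq_self_iff.2 (inv_mem hbN)] at he
  have := congrArg (fun X => Cfsg.conjBy X a) he
  rw [conjBy_conjBy, mul_inv_cancel, conjBy_one, conjBy_eq_self_of_mem ha] at this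
  exact this.symm

theorem inf_normalizer_left : A ⊓ normalizer (B : Set G) = ⊥ :=
  inf_normalizer_right (Cfsg.RankOnePair_symm h)

theorem eq_one_of_mem_normalizer {b : G} (hb : b ∈ B) (hn : b ∈ normalizer (A : Set G)) : b = 1 :=
  (Subgroup.eq_bot_iff_forall _).1 (inf_normalizer_right h) b (Subgroup.mem_inf.2 ⟨hb, hn⟩)

theorem eq_one_of_commute {b : G} (hb : b ∈ B) (hc : ∀ a ∈ A, a * b = b * a) : b = 1 := by
  refine eq_one_of_mem_normalizer h hb (Subgroup.mem_normalizer_iff.2 fun x => ⟨fun hx => ?_, fun hx => ?_⟩)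
  · rwa [← hc x hx, mul_inv_cancel_right]
  · have h1 := hc _ hx
    have : x = b * x * b⁻¹ := by
      rw [show b * x * b⁻¹ * b = b * x by group] at h1
      exact (mul_left_cancel h1).trans rfl
    rwa [this]

theorem not_commutator_bot : ⁅A, B⁆ ≠ ⊥ := by
  intro e
  have hB : B = ⊥ := (eq_bot_iff_forall _).2 fun b hb => eq_one_of_commute h hb fun a ha => by
    have := commutator_mem_commutator ha hb
    rw [e, mem_bot, commutatorElement_eq_one_iff_commute] at this
    exact this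
  refine h.ne ?_
  rw [hB]
  refine (eq_bot_iff_forall _).2 fun a ha => by_contra fun ha1 => ?_
  obtain ⟨b, hb, hb1, -⟩ := h.cond_left a ha ha1
  rw [hB, mem_bot] at hb
  exact hb1 hb

theorem exists_ne_one : (∃ a ∈ A, a ≠ 1) ∧ ∃ b ∈ B, b ≠ 1 := by
  have key : ∀ {A B : Subgroup G}, Cfsg.IsRankOnePair A B → ∃ a ∈ A, a ≠ 1 := by
    intro A B h
    by_contra e
    push Not at e
    refine h.ne ?_
    rw [(eq_bot_iff_forall A).2 e, eq_comm, eq_bot_iff_forall]
    intro b hb
    by_contra hb1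
    obtain ⟨a, ha, ha1, -⟩ := h.cond_right b hb hb1
    exact ha1 (e a ha)
  exact ⟨key h, key (Cfsg.RankOnePair_symm h)⟩

theorem left_mem : A ∈ Cfsg.unipotentSubgroups A B := ⟨1, one_mem _, (conjBy_one A).symm⟩

theorem right_mem : B ∈ Cfsg.unipotentSubgroups A B := by
  obtain ⟨a, ha, ha1⟩ := (exists_ne_one h).1
  obtain ⟨b, hb, -, he⟩ := h.cond_left a ha ha1
  refine ⟨a * b⁻¹, mul_mem (mem_sup_left ha) (inv_mem (mem_sup_right hb)), ?_⟩
  rw [← conjBy_conjBy, he, conjBy_conjBy, mul_inv_cancel, conjBy_one]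

/-- The orbit: every unipotent subgroup other than `A` is an `A`-conjugate of `B`. -/
theorem unipotent_cases {C : Subgroup G} (hC : C ∈ Cfsg.unipotentSubgroups A B) :
    C = A ∨ ∃ a ∈ A, C = Cfsg.conjBy B a := by
  obtain ⟨x, hx, rfl⟩ := hC
  set P : Subgroup G → Prop := fun C => C = A ∨ ∃ a ∈ A, C = Cfsg.conjBy B a with hP
  suffices ∀ C, P C → P (Cfsg.conjBy C x) from this A (Or.inl rfl)
  have hA : ∀ a ∈ A, ∀ C, P C → P (Cfsg.conjBy C a) := by
    rintro a ha C (rfl | ⟨a', ha', rfl⟩)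
    · exact Or.inl (conjBy_eq_self_of_mem ha)
    · exact Or.inr ⟨a * a', mul_mem ha ha', conjBy_conjBy B a' a⟩
  have hB : ∀ b ∈ B, ∀ C, P C → P (Cfsg.conjBy C b) := by
    intro b hb C hC
    rcases eq_or_ne b 1 with rfl | hb1
    · rwa [conjBy_one]
    rcases hC with rfl | ⟨a, ha, rfl⟩
    · obtain ⟨a', ha', -, he⟩ := h.cond_right b⁻¹ (inv_mem hb) (inv_ne_one.2 hb1)
      rw [inv_inv] at he
      exact Or.inr ⟨a'⁻¹, inv_mem ha', by rw [← he]⟩
    rcases eq_or_ne a 1 with rfl | ha1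
    · rw [conjBy_one, conjBy_eq_self_of_mem hb]
      exact Or.inr ⟨1, one_mem _, (conjBy_one B).symm⟩
    obtain ⟨b', hb', -, he⟩ := h.cond_left a⁻¹ (inv_mem ha) (inv_ne_one.2 ha1)
    rw [inv_inv] at he
    rw [← he, conjBy_conjBy]
    rcases eq_or_ne (b * b'⁻¹) 1 with e | e
    · exact Or.inl (by rw [e, conjBy_one])
    obtain ⟨a', ha', -, he'⟩ := h.cond_right (b * b'⁻¹)⁻¹ (inv_mem (mul_mem hb (inv_mem hb'))) (inv_ne_one.2 e)
    rw [inv_inv] at he'
    exact Or.inr ⟨a'⁻¹, inv_mem ha', by rw [← he']⟩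
  rw [Subgroup.sup_eq_closure] at hx
  induction hx using Subgroup.closure_induction'' with
  | mem y hy =>
    rcases hy with hy | hy
    · exact hA y hy
    · exact hB y hy
  | inv_mem y hy =>
    rcases hy with hy | hy
    · exact hA _ (inv_mem hy)
    · exact hB _ (inv_mem hy)
  | one => exact fun C hC => by rwa [conjBy_one]
  | mul y z _ _ hy hz => exact fun C hC => by rw [← conjBy_conjBy]; exact hy _ (hz C hC)

theorem conjBy_mem_unipotent {C : Subgroup G} (hC : C ∈ Cfsg.unipotentSubgroups A B) {x : G}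
    (hx : x ∈ A ⊔ B) : Cfsg.conjBy C x ∈ Cfsg.unipotentSubgroups A B := by
  obtain ⟨y, hy, rfl⟩ := hC
  exact ⟨x * y, mul_mem hx hy, conjBy_conjBy A y x⟩

theorem unipotent_le {C : Subgroup G} (hC : C ∈ Cfsg.unipotentSubgroups A B) : C ≤ A ⊔ B := by
  obtain ⟨y, hy, rfl⟩ := hC
  rintro _ ⟨a, ha, rfl⟩
  exact mul_mem (mul_mem hy (mem_sup_left ha)) (inv_mem hy)

theorem two_transitive {C₁ C₂ : Subgroup G} (h1 : C₁ ∈ Cfsg.unipotentSubgroups A B)
    (h2 : C₂ ∈ Cfsg.unipotentSubgroups A B) (hne : C₁ ≠ C₂) :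
    ∃ x ∈ A ⊔ B, C₁ = Cfsg.conjBy A x ∧ C₂ = Cfsg.conjBy B x := by
  obtain ⟨y, hy, rfl⟩ := h1
  rcases unipotent_cases h (conjBy_mem_unipotent h h2 (inv_mem hy)) with e | ⟨a, ha, e⟩
  · refine absurd ?_ hne
    have := congrArg (fun X => Cfsg.conjBy X y) e
    rw [conjBy_conjBy, mul_inv_cancel, conjBy_one] at this
    exact this.symm
  · refine ⟨y * a, mul_mem hy (mem_sup_left ha), ?_, ?_⟩
    · rw [← conjBy_conjBy, conjBy_eq_self_of_mem ha]
    · have := congrArg (fun X => Cfsg.conjBy X y) e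
      rw [conjBy_conjBy, mul_inv_cancel, conjBy_one] at this
      rw [this, conjBy_conjBy]

theorem pair_of_unipotent {C₁ C₂ : Subgroup G} (h1 : C₁ ∈ Cfsg.unipotentSubgroups A B)
    (h2 : C₂ ∈ Cfsg.unipotentSubgroups A B) (hne : C₁ ≠ C₂) : Cfsg.IsRankOnePair C₁ C₂ := by
  obtain ⟨x, -, rfl, rfl⟩ := two_transitive h h1 h2 hne
  exact pair_conjBy h x

theorem sup_unipotent {C₁ C₂ : Subgroup G} (h1 : C₁ ∈ Cfsg.unipotentSubgroups A B)
    (h2 : C₂ ∈ Cfsg.unipotentSubgroups A B) (hne : C₁ ≠ C₂) : C₁ ⊔ C₂ = A ⊔ B := by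
  obtain ⟨x, hx, rfl, rfl⟩ := two_transitive h h1 h2 hne
  rw [← Subgroup.map_sup]
  exact conjBy_eq_self_of_mem hx

/-- An element normalizing two unipotent subgroups and centralizing one fixes all of them. -/
theorem normalizes_all {k : G} (hkA : ∀ a ∈ A, a * k = k * a) (hkB : k ∈ normalizer (B : Set G))
    {C : Subgroup G} (hC : C ∈ Cfsg.unipotentSubgroups A B) : k ∈ normalizer (C : Set G) := by
  rcases unipotent_cases h hC with rfl | ⟨a, ha, rfl⟩
  · refine Subgroup.mem_normalizer_iff.2 fun x => ⟨fun hx => ?_, fun hx => ?_⟩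
    · rwa [← hkA x hx, mul_inv_cancel_right]
    · have h1 := hkA _ hx
      rw [show k * x * k⁻¹ * k = k * x by group] at h1
      have : x = k * x * k⁻¹ := mul_left_cancel h1
      rwa [this]
  · rw [← conjBy_eq_self_iff, conjBy_conjBy, ← hkA a ha, ← conjBy_conjBy, conjBy_eq_self_iff.2 hkB]

/-- An element of `A ⊔ B` normalizing every unipotent subgroup is central. -/
theorem central_of_normalizes_all {k : G} (hkX : k ∈ A ⊔ B)
    (hk : ∀ C ∈ Cfsg.unipotentSubgroups A B, k ∈ normalizer (C : Set G)) :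
    ∀ x ∈ A ⊔ B, x * k = k * x := by
  have hone : ∀ {C D : Subgroup G}, Cfsg.IsRankOnePair C D → (∀ c ∈ C, c ∈ A ⊔ B) →
      C ∈ Cfsg.unipotentSubgroups A B → D ∈ Cfsg.unipotentSubgroups A B → ∀ c ∈ C, c * k = k * c := by
    intro C D hCD hCX hC hD c hc
    have hw : k * c * k⁻¹ * c⁻¹ ∈ C :=
      mul_mem ((Subgroup.mem_normalizer_iff.1 (hk C hC) c).1 hc) (inv_mem hc)
    have h1 : k * c * k⁻¹ * c⁻¹ ∈ normalizer (D : Set G) := by
      rw [show k * c * k⁻¹ * c⁻¹ = k * (c * k⁻¹ * c⁻¹) by group]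
      refine mul_mem (hk D hD) (conjBy_eq_self_iff.1 ?_)
      have hD' := conjBy_mem_unipotent h hD (inv_mem (hCX c hc))
      rw [mul_assoc, ← conjBy_conjBy, ← conjBy_conjBy,
        conjBy_eq_self_iff.2 (inv_mem (hk _ hD')), conjBy_conjBy, mul_inv_cancel, conjBy_one]
    have := eq_one_of_mem_normalizer (Cfsg.RankOnePair_symm hCD) hw h1
    rw [mul_inv_eq_one, mul_inv_eq_iff_eq_mul] at this
    exact this.symm
  have hA := hone h (fun c hc => mem_sup_left hc) (left_mem h) (right_mem h)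
  have hB := hone (Cfsg.RankOnePair_symm h) (fun c hc => mem_sup_right hc) (right_mem h) (left_mem h)
  intro x hx
  have : A ⊔ B ≤ centralizer ({k} : Set G) := sup_le
    (fun c hc => mem_centralizer_singleton_iff.2 (hA c hc))
    (fun c hc => mem_centralizer_singleton_iff.2 (hB c hc))
  exact mem_centralizer_singleton_iff.1 (this hx)

end pair

section rootSet

variable {S : Set (Subgroup G)} (hS : Cfsg.IsRootSubgroupSet S)
include hS

theorem comm_of_mem {A : Subgroup G} (hA : A ∈ S) {a b : G} (ha : a ∈ A) (hb : b ∈ A) : a * b = b * a :=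
  congrArg Subtype.val ((hS.commutative A hA).is_comm.comm (⟨a, ha⟩ : A) ⟨b, hb⟩)

omit hS in
theorem commute_of_commutator_eq_bot {A B : Subgroup G} (h : ⁅A, B⁆ = ⊥) {a b : G} (ha : a ∈ A)
    (hb : b ∈ B) : a * b = b * a := by
  have := commutator_mem_commutator ha hb
  rw [h, mem_bot, commutatorElement_eq_one_iff_commute] at this
  exact this

theorem not_rootElement {A B : Subgroup G} (hA : A ∈ S) (hB : B ∈ Cfsg.rankOnePartners S A) {z : G}
    (hz : z ∈ centralizer ((A ⊔ B : Subgroup G) : Set G)) (hz1 : z ≠ 1) :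
    ∀ a ∈ A, a ≠ 1 → z * a ∉ Cfsg.rootElements S := by
  rintro a ha ha1 ⟨hza1, C, hC, hzaC⟩
  obtain ⟨hBS, hAB⟩ := hB
  have hzc : ∀ x ∈ A ⊔ B, x * z = z * x := fun x hx => mem_centralizer_iff.1 hz x hx
  have hcA : ∀ x ∈ A, x * (z * a) = z * a * x := fun x hx => by
    rw [← mul_assoc, hzc x (mem_sup_left hx), mul_assoc, comm_of_mem hS hA hx ha, ← mul_assoc]
  rcases hS.pair A hA C hC with hAC | hAC | hAC
  swap
  · exact hza1 (eq_one_of_commute hAC hzaC hcA)
  swap
  · have h1 := hAC.2.2.2 _ hzaC hza1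
    refine hS.ne_bot _ hAC.1 (h1.symm.trans ?_)
    rw [closure_eq_bot_iff]
    rintro _ ⟨x, hx, rfl⟩
    show x * (z * a) * x⁻¹ * (z * a)⁻¹ = 1
    rw [hcA x hx, mul_inv_cancel_right, mul_inv_cancel]
  -- `C` commutes with `A`
  rcases hS.pair B hBS C hC with hBC | hBC | hBC
  · refine ha1 (eq_one_of_commute (Cfsg.RankOnePair_symm hAB) ha fun b hb => ?_)
    have h1 := commute_of_commutator_eq_bot hBC hb hzaC
    rw [← mul_assoc, hzc b (mem_sup_right hb), mul_assoc, mul_assoc] at h1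
    exact mul_left_cancel h1
  · obtain ⟨b, hb, -, he⟩ := hBC.cond_right _ hzaC hza1
    obtain ⟨b', hb', -, he'⟩ := hAB.cond_left a ha ha1
    have he2 : Cfsg.conjBy B (z * a)⁻¹ = Cfsg.conjBy B a⁻¹ := by
      rw [conjBy_eq_iff]
      have hzN : z⁻¹ ∈ normalizer (B : Set G) := by
        refine inv_mem (Subgroup.mem_normalizer_iff.2 fun x => ⟨fun hx => ?_, fun hx => ?_⟩)
        · rwa [← hzc x (mem_sup_right hx), mul_inv_cancel_right]
        · have h1 := hzc _ (mem_sup_right hx)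
          rw [show z * x * z⁻¹ * z = z * x by group] at h1
          have : x = z * x * z⁻¹ := mul_left_cancel h1
          rwa [this]
      have hza : a * (z * a)⁻¹ = z⁻¹ := by group
      rwa [inv_inv, hza]
    have hC' : C = Cfsg.conjBy A (b * b'⁻¹) := by
      rw [← conjBy_conjBy, he', ← he2, ← he, conjBy_conjBy, mul_inv_cancel, conjBy_one]
    rcases eq_or_ne (b * b'⁻¹) 1 with e | e
    · rw [e, conjBy_one] at hC'
      subst hC'
      have hzA : z ∈ C := by simpa [mul_assoc] using mul_mem hzaC (inv_mem ha)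
      exact hz1 (eq_one_of_commute (Cfsg.RankOnePair_symm hAB) hzA fun x hx => hzc x (mem_sup_right hx))
    · have hbX : b * b'⁻¹ ∈ A ⊔ B := mem_sup_right (mul_mem hb (inv_mem hb'))
      have hCu : C ∈ Cfsg.unipotentSubgroups A B := ⟨_, hbX, hC'⟩
      refine not_commutator_bot (pair_of_unipotent hAB (left_mem hAB) hCu fun he3 => e ?_) hAC
      exact eq_one_of_mem_normalizer hAB (mul_mem hb (inv_mem hb'))
        (conjBy_eq_self_iff.1 (he3.trans hC').symm)
  · obtain ⟨b, hb, hb1⟩ := (exists_ne_one hAB).2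
    obtain ⟨-, hcen, -, -⟩ := hBC
    have hc := hcen _ (commutator_mem_commutator hb hzaC)
    -- `a * b * a⁻¹` commutes with `B`
    have hab : ∀ x ∈ B, x * (a * b * a⁻¹) = a * b * a⁻¹ * x := by
      intro x hx
      have h1 := hc x (mem_sup_left hx)
      have h2 : ⁅b, z * a⁆ = b * (a * b⁻¹ * a⁻¹) := by
        rw [commutatorElement_def]
        have h3 := hzc b⁻¹ (inv_mem (mem_sup_right hb))
        have h4 := hzc (a * b⁻¹ * a⁻¹) (mul_mem (mul_mem (mem_sup_left ha) (inv_mem (mem_sup_right hb)))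
          (inv_mem (mem_sup_left ha)))
        calc b * (z * a) * b⁻¹ * (z * a)⁻¹ = b * (z * (a * b⁻¹ * a⁻¹) * z⁻¹) := by group
          _ = b * (a * b⁻¹ * a⁻¹) := by rw [← h4, mul_inv_cancel_right]
      rw [h2] at h1
      have hbx : b * x = x * b := comm_of_mem hS hBS hb hx
      have h5 : b * (a * b⁻¹ * a⁻¹ * x) = b * (x * (a * b⁻¹ * a⁻¹)) := by
        rw [← mul_assoc b, h1, ← mul_assoc x, ← hbx, mul_assoc]
      have h6 : a * b⁻¹ * a⁻¹ * x = x * (a * b⁻¹ * a⁻¹) := mul_left_cancel h5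
      calc x * (a * b * a⁻¹) = a * b * a⁻¹ * (a * b⁻¹ * a⁻¹ * x) * (a * b * a⁻¹) := by group
        _ = a * b * a⁻¹ * (x * (a * b⁻¹ * a⁻¹)) * (a * b * a⁻¹) := by rw [h6]
        _ = a * b * a⁻¹ * x := by group
    have hBa : Cfsg.conjBy B a ∈ Cfsg.unipotentSubgroups A B :=
      conjBy_mem_unipotent hAB (right_mem hAB) (mem_sup_left ha)
    have hne : B ≠ Cfsg.conjBy B a := fun e => ha1 (eq_one_of_mem_normalizer (Cfsg.RankOnePair_symm hAB) ha
      (conjBy_eq_self_iff.1 e.symm))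
    have := eq_one_of_commute (pair_of_unipotent hAB (right_mem hAB) hBa hne) (conj_mem_conjBy hb) hab
    exact hb1 (conj_eq_one_iff.1 this)

/-- A member with a rank one partner meets every other member trivially. -/
theorem eq_of_mem_both {A P B : Subgroup G} (hA : A ∈ S) (hP : P ∈ S) (hAP : Cfsg.IsRankOnePair A P)
    (hB : B ∈ S) {a : G} (haA : a ∈ A) (haB : a ∈ B) (ha1 : a ≠ 1) : A = B := by
  rcases hS.pair B hB P hP with h | h | h
  · exact absurd (eq_one_of_commute (Cfsg.RankOnePair_symm hAP) haA fun x hx =>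
      (commute_of_commutator_eq_bot h haB hx).symm) ha1
  · obtain ⟨q, hq, -, he⟩ := hAP.cond_left a haA ha1
    obtain ⟨q', hq', -, he'⟩ := h.cond_left a haB ha1
    have hB' : B = Cfsg.conjBy A (q' * q⁻¹) := by
      rw [← conjBy_conjBy, he, ← he', conjBy_conjBy, mul_inv_cancel, conjBy_one]
    rcases eq_or_ne (q' * q⁻¹) 1 with e | e
    · rw [hB', e, conjBy_one]
    have hqX : q' * q⁻¹ ∈ A ⊔ P := mem_sup_right (mul_mem hq' (inv_mem hq))
    have hne : A ≠ B := fun e' => e (eq_one_of_mem_normalizer hAP (mul_mem hq' (inv_mem hq))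
      (conjBy_eq_self_iff.1 (e'.trans hB').symm))
    exact absurd (eq_one_of_commute (pair_of_unipotent hAP (left_mem hAP) ⟨_, hqX, hB'⟩ hne) haB
      fun x hx => comm_of_mem hS hA hx haA) ha1
  · obtain ⟨p, hp, hp1⟩ := (exists_ne_one hAP).2
    have hc := h.2.1 _ (commutator_mem_commutator haB hp)
    have hab : ∀ x ∈ P, x * (a * p * a⁻¹) = a * p * a⁻¹ * x := by
      intro x hx
      have h1 := hc x (mem_sup_right hx)
      rw [commutatorElement_def] at h1
      have hpx : p * x = x * p := comm_of_mem hS hP hp hx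
      calc x * (a * p * a⁻¹) = (x * (a * p * a⁻¹ * p⁻¹)) * p := by group
        _ = (a * p * a⁻¹ * p⁻¹ * x) * p := by rw [h1]
        _ = a * p * a⁻¹ * p⁻¹ * (x * p) := by group
        _ = a * p * a⁻¹ * p⁻¹ * (p * x) := by rw [hpx]
        _ = a * p * a⁻¹ * x := by group
    have hPa : Cfsg.conjBy P a ∈ Cfsg.unipotentSubgroups A P :=
      conjBy_mem_unipotent hAP (right_mem hAP) (mem_sup_left haA)
    have hne : P ≠ Cfsg.conjBy P a := fun e => ha1 (eq_one_of_mem_normalizer (Cfsg.RankOnePair_symm hAP)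
      haA (conjBy_eq_self_iff.1 e.symm))
    exact absurd (conj_eq_one_iff.1 (eq_one_of_commute (pair_of_unipotent hAP (right_mem hAP) hPa hne)
      (conj_mem_conjBy hp) hab)) hp1

theorem unipotent_mem {C D U : Subgroup G} (hC : C ∈ S) (hU : U ∈ Cfsg.unipotentSubgroups C D) : U ∈ S := by
  obtain ⟨x, -, rfl⟩ := hU
  exact hS.conj_mem C hC x

/-- A member inside a rank one group that centralizes a unipotent subgroup equals it or is central. -/
theorem member_cases {C D E : Subgroup G} (hC : C ∈ S) (hD : D ∈ S) (hCD : Cfsg.IsRankOnePair C D)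
    (hE : E ∈ S) (hEX : E ≤ C ⊔ D) (hcom : ⁅E, C⁆ = ⊥) :
    E = C ∨ ∀ e ∈ E, ∀ x ∈ C ⊔ D, x * e = e * x := by
  have hsplit : ∀ e ∈ E, e ∈ C ∨ ∀ x ∈ C ⊔ D, x * e = e * x := by
    intro e he
    have heC : ∀ c ∈ C, c * e = e * c := fun c hc => (commute_of_commutator_eq_bot hcom he hc).symm
    rcases unipotent_cases hCD (conjBy_mem_unipotent hCD (right_mem hCD) (hEX he)) with h | ⟨c, hc, h⟩
    · refine absurd ?_ hCD.ne
      have h1 : e⁻¹ ∈ normalizer (C : Set G) := by
        refine inv_mem (Subgroup.mem_normalizer_iff.2 fun x => ⟨fun hx => ?_, fun hx => ?_⟩)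
        · rwa [← heC x hx, mul_inv_cancel_right]
        · have h2 := heC _ hx
          rw [show e * x * e⁻¹ * e = e * x by group] at h2
          have : x = e * x * e⁻¹ := mul_left_cancel h2
          rwa [this]
      have h3 := congrArg (fun X => Cfsg.conjBy X e⁻¹) h
      rw [conjBy_conjBy, inv_mul_cancel, conjBy_one, conjBy_eq_self_iff.2 h1] at h3
      exact h3.symm
    have hkC : ∀ x ∈ C, x * (c⁻¹ * e) = c⁻¹ * e * x := fun x hx => by
      rw [← mul_assoc, comm_of_mem hS hC hx (inv_mem hc), mul_assoc, heC x hx, ← mul_assoc]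
    have hkD : c⁻¹ * e ∈ normalizer (D : Set G) := conjBy_eq_iff.1 h
    have hz := central_of_normalizes_all hCD (mul_mem (inv_mem (mem_sup_left hc)) (hEX he))
      fun U hU => normalizes_all hCD hkC hkD hU
    rcases eq_or_ne (c⁻¹ * e) 1 with hz1 | hz1
    · left
      rwa [inv_mul_eq_one.1 hz1] at hc
    rcases eq_or_ne c 1 with rfl | hc1
    · rw [inv_one, one_mul] at hz
      exact Or.inr hz
    refine absurd ⟨?_, E, hE, ?_⟩ (not_rootElement hS hC ⟨hD, hCD⟩
      (mem_centralizer_iff.2 hz) hz1 c hc hc1)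
    · intro e0
      rw [← hkC c hc, mul_inv_cancel_left] at e0
      exact hc1 (by
        have : c⁻¹ * e = c⁻¹ := by rw [e0, mul_one]
        have h4 := hz c (mem_sup_left hc)
        exfalso
        exact hz1 (by
          have h5 : c⁻¹ * e ∈ C := by rw [this]; exact inv_mem hc
          exact eq_one_of_commute (Cfsg.RankOnePair_symm hCD) h5 fun x hx => hz x (mem_sup_right hx)))
    · rwa [← hkC c hc, mul_inv_cancel_left]
  by_cases hall : ∀ e ∈ E, ∀ x ∈ C ⊔ D, x * e = e * x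
  · exact Or.inr hall
  push Not at hall
  obtain ⟨e, he, x, hx, hne⟩ := hall
  have heC := (hsplit e he).resolve_right fun h => hne (h x hx)
  exact Or.inl (eq_of_mem_both hS hC hD hCD hE heC he fun h1 => hne (by rw [h1, mul_one, one_mul])).symm

/-- A non-central member inside a rank one group is one of its unipotent subgroups. -/
theorem mem_unipotent_of_le {C D A B : Subgroup G} (hC : C ∈ S) (hD : D ∈ S)
    (hCD : Cfsg.IsRankOnePair C D) (hA : A ∈ S) (hAB : Cfsg.IsRankOnePair A B) (hle : A ⊔ B ≤ C ⊔ D) :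
    A ∈ Cfsg.unipotentSubgroups C D := by
  have hAX : A ≤ C ⊔ D := le_sup_left.trans hle
  rcases hS.pair A hA C hC with h | h | h
  · rcases member_cases hS hC hD hCD hA hAX h with e | e
    · subst e
      exact left_mem hCD
    · obtain ⟨a, ha, ha1⟩ := (exists_ne_one hAB).1
      exact absurd (eq_one_of_commute (Cfsg.RankOnePair_symm hAB) ha fun x hx =>
        e a ha x (hle (mem_sup_right hx))) ha1
  · obtain ⟨a, ha, ha1⟩ := (exists_ne_one h).1
    obtain ⟨c, hc, -, he⟩ := h.cond_left a ha ha1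
    have : A = Cfsg.conjBy C (c * a⁻¹) := by
      rw [← conjBy_conjBy, ← he, conjBy_conjBy, mul_inv_cancel, conjBy_one]
    exact ⟨_, mul_mem (mem_sup_left hc) (inv_mem (hAX ha)), this⟩
  · have hEX : ⁅A, C⁆ ≤ C ⊔ D := commutator_le.2 fun a ha c hc => by
      rw [commutatorElement_def]
      exact mul_mem (mul_mem (mul_mem (hAX ha) (mem_sup_left hc)) (inv_mem (hAX ha)))
        (inv_mem (mem_sup_left hc))
    have hEC : ⁅⁅A, C⁆, C⁆ = ⊥ := by
      rw [eq_bot_iff, commutator_le]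
      intro e he c hc
      rw [mem_bot, commutatorElement_eq_one_iff_commute]
      exact h.2.1 e he c (mem_sup_right hc)
    rcases member_cases hS hC hD hCD h.1 hEX hEC with e | e
    · refine absurd ?_ (hS.ne_bot _ h.1)
      rw [eq_bot_iff, commutator_le]
      intro a ha c hc
      rw [mem_bot, commutatorElement_eq_one_iff_commute]
      exact (h.2.1 c (e.symm ▸ hc) a (mem_sup_left ha)).symm
    · obtain ⟨a, ha, c, hc, hac⟩ : ∃ a ∈ A, ∃ c ∈ C, a * c * a⁻¹ * c⁻¹ ≠ 1 := by
        by_contra hh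
        push Not at hh
        refine hS.ne_bot _ h.1 (eq_bot_iff.2 (commutator_le.2 fun a ha c hc => ?_))
        rw [mem_bot, commutatorElement_def]
        exact hh a ha c hc
      have hc1 : c ≠ 1 := by rintro rfl; exact hac (by group)
      refine absurd ⟨?_, Cfsg.conjBy C a, hS.conj_mem C hC a, ?_⟩ (not_rootElement hS hC ⟨hD, hCD⟩
        (mem_centralizer_iff.2 fun x hx => e _ (commutator_mem_commutator ha hc) x hx)
        (by rwa [commutatorElement_def]) c hc hc1)
      · rw [commutatorElement_def, inv_mul_cancel_right]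
        exact fun h0 => hc1 (conj_eq_one_iff.1 h0)
      · rw [commutatorElement_def, inv_mul_cancel_right]
        exact conj_mem_conjBy hc

end rootSet

end CfsgLib.RootSub
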