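import Cfsg.Agent.Lib.RootSub.Triple
import Cfsg.Agent.Lib.Invol.Basic

/-!
# Odd transpositions: middles

In a set of root involutions the member conjugating `r` to another member, if it has odd product with
`r`, is unique.  For odd transpositions this gives that commuting members with product in the set have
the same commuting members, and that middles of translates centralize the translating pair.
-/

set_option autoImplicit false

namespace CfsgLib.RootInvol.OddTr

variable {G : Type*} [Group G] {D : Set G}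

/-- At most one member with odd product with `r` conjugates it to a given element. -/
theorem eq_of_conj_eq (hD : Cfsg.IsRootInvolutionSet D) {r b c : G} (hb : b ∈ D) (hc : c ∈ D)
    (ob : Odd (orderOf (b * r))) (oc : Odd (orderOf (c * r))) (h : b * r * b = c * r * c) : b = c := by
  have h2 : (b * r) ^ 2 = (c * r) ^ 2 := by
    rw [pow_two, pow_two, ← mul_assoc, h, ← mul_assoc]
  have ho : orderOf (b * r) = orderOf (c * r) := by
    rw [← Nat.Coprime.orderOf_pow (Nat.coprime_two_right.2 ob), h2,
      Nat.Coprime.orderOf_pow (Nat.coprime_two_right.2 oc)]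
  obtain ⟨k, hk⟩ := ob
  have key : ∀ u : G, orderOf u = 2 * k + 1 → u = (u ^ 2) ^ (k + 1) := by
    intro u hu
    rw [← pow_mul, show 2 * (k + 1) = orderOf u + 1 by omega, pow_succ, pow_orderOf_eq_one, one_mul]
  have e : b * r = c * r :=
    (key (b * r) hk).trans ((congrArg (· ^ (k + 1)) h2).trans (key (c * r) (ho ▸ hk)).symm)
  exact mul_right_cancel e

/-- Two members are commuting or have odd product. -/
theorem commute_or_odd (hD : Cfsg.IsOddTranspositionSet D) {a b : G} (ha : a ∈ D) (hb : b ∈ D) :
    Commute a b ∨ Odd (orderOf (a * b)) := by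
  rcases hD.1.pair a ha b hb with h | h | ⟨h, -⟩
  · exact Or.inl h
  · exact Or.inr h
  · exact absurd h (hD.2 a ha b hb)

/-- Commuting members with product in `D` commute with the same members. -/
theorem commute_of_line (hD : Cfsg.IsOddTranspositionSet D) {a b r : G} (ha : a ∈ D) (hb : b ∈ D)
    (hr : r ∈ D) (hab : a * b ∈ D) (hc : Commute a b) (har : Commute a r) : Commute b r := by
  by_contra hbr
  have sa := mul_self hD.1 ha
  have ecb : a * (a * b) = b := by rw [← mul_assoc, sa, one_mul]
  have hcr : ¬ Commute (a * b) r := fun h => hbr (ecb ▸ Commute.mul_left har h)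
  have ob := (commute_or_odd hD hb hr).resolve_left hbr
  have oc := (commute_or_odd hD hab hr).resolve_left hcr
  have hconj : a * b * r * (a * b) = b * r * b := by
    calc a * b * r * (a * b) = a * (b * r * b) * a := by
          rw [show a * b * r * (a * b) = a * b * r * (b * a) by rw [hc.eq]]
          simp only [mul_assoc]
      _ = (b * r * b) * (a * a) := by
          rw [(((hc.mul_right har).mul_right hc)).eq, mul_assoc]
      _ = b * r * b := by rw [sa, mul_one]
  have heq := eq_of_conj_eq hD.1 hb hab ob oc hconj.symm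
  have ha1 : a = 1 := by
    have := heq.symm
    rwa [mul_eq_right] at this
  have := hD.1.orderOf_eq a ha
  rw [ha1, orderOf_one] at this
  exact absurd this (by decide)

/-- A product of two commuting members centralizes no member with odd product with a factor. -/
theorem not_commute_product (hD : Cfsg.IsOddTranspositionSet D) {a b f : G} (ha : a ∈ D) (hb : b ∈ D)
    (hf : f ∈ D) (hne : a ≠ b) (hab : Commute a b) (haf : a ≠ f) (oaf : Odd (orderOf (a * f)))
    (hpf : Commute (a * b) f) : False := by
  have sa := mul_self hD.1 ha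
  have sb := mul_self hD.1 hb
  have hcpa : Commute (a * b) (a * f) :=
    ((Commute.refl a).mul_left hab.symm).mul_right hpf
  have hbf : b * f = a * b * (a * f) := by
    rw [hab.eq, mul_assoc, ← mul_assoc a a, sa, one_mul]
  have hp2 : (a * b) ^ 2 = 1 := by rw [hab.mul_pow, pow_two, pow_two, sa, sb, one_mul]
  have haf1 : a * f ≠ 1 := fun e => haf (by
    rw [← inv_eq hD.1 hf]; exact eq_inv_of_mul_eq_one_left e)
  rcases commute_or_odd hD hb hf with h | h
  · have h2 : (a * f) ^ 2 = 1 := by
      have : (b * f) ^ 2 = 1 := by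
        rw [h.mul_pow, pow_two, pow_two, sb, mul_self hD.1 hf, one_mul]
      rwa [hbf, hcpa.mul_pow, hp2, one_mul] at this
    obtain ⟨k, hk⟩ := oaf
    have := orderOf_dvd_of_pow_eq_one h2
    have h3 := Nat.le_of_dvd (by norm_num) this
    have h4 : orderOf (a * f) ≠ 1 := fun e => haf1 (orderOf_eq_one_iff.1 e)
    omega
  · have hn := pow_orderOf_eq_one (b * f)
    obtain ⟨k, hk⟩ := h
    have e : a * b * (a * f) ^ (2 * k + 1) = 1 := by
      rw [hk, hbf, hcpa.mul_pow, pow_succ, pow_mul, hp2, one_pow, one_mul] at hn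
      exact hn
    have hq : ((a * f) ^ (2 * k + 1)) ^ 2 = 1 := by
      have : (a * b * (a * f) ^ (2 * k + 1)) ^ 2 = 1 := by rw [e, one_pow]
      rwa [(hcpa.pow_right _).mul_pow, hp2, one_mul] at this
    have h1 : (a * f) ^ (2 * k + 1) = 1 := by
      rw [← orderOf_dvd_iff_pow_eq_one]
      rw [← pow_mul] at hq
      exact (Nat.coprime_two_right.2 oaf).dvd_of_dvd_mul_right (orderOf_dvd_of_pow_eq_one hq)
    rw [h1, mul_one] at e
    exact hne (by rw [← inv_eq hD.1 hb]; exact eq_inv_of_mul_eq_one_left e)

/-- The middle of a pair with product of odd order. -/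
theorem exists_middle [Finite G] (hD : Cfsg.IsRootInvolutionSet D) {x y : G} (hx : x ∈ D) (hy : y ∈ D)
    (h : Odd (orderOf (x * y))) : ∃ w ∈ D, w * x * w = y ∧ Odd (orderOf (w * x)) := by
  have ox := hD.orderOf_eq x hx
  obtain ⟨g, hg, hgy⟩ := CfsgLib.Invol.exists_conj_eq_of_odd ox (hD.orderOf_eq y hy) h
  obtain ⟨i, rfl⟩ := Subgroup.mem_zpowers_iff.1 hg
  obtain ⟨k, hk⟩ := h
  have hinv : x * ((x * y) ^ i) * x⁻¹ = ((x * y) ^ i)⁻¹ :=
    (CfsgLib.Invol.conj_zpow_of_inverts (CfsgLib.Invol.invol_conj_mul ox (hD.orderOf_eq y hy)) i).trans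
      (by simp)
  set g := (x * y) ^ i with hgdef
  have hdvd : orderOf g ∣ 2 * k + 1 := hk ▸ orderOf_dvd_of_mem_zpowers ⟨i, rfl⟩
  have hgodd : Odd (orderOf g) := Odd.of_dvd_nat ⟨k, rfl⟩ hdvd
  obtain ⟨j, hj⟩ := hgodd
  have hsq : (g ^ (j + 1)) ^ 2 = g := by
    rw [← pow_mul, show (j + 1) * 2 = orderOf g + 1 by omega, pow_succ, pow_orderOf_eq_one, one_mul]
  have hxinv := inv_eq hD hx
  have hgi : x * g = g⁻¹ * x := by
    have := congrArg (· * x) hinv
    simpa [mul_assoc] using this
  have hhi : x * (g ^ (j + 1))⁻¹ = g ^ (j + 1) * x := by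
    have h1 : x * g ^ (j + 1) * x⁻¹ = (g ^ (j + 1))⁻¹ := by rw [← conj_pow, hinv, inv_pow]
    rw [← h1, hxinv]
    simp only [← mul_assoc, mul_self hD hx, one_mul]
  have hw : g * x = g ^ (j + 1) * x * (g ^ (j + 1))⁻¹ := by
    rw [mul_assoc (g ^ (j + 1)), hhi, ← mul_assoc, ← pow_two, hsq]
  refine ⟨g * x, hw ▸ hD.conj_mem x hx _, ?_, ?_⟩
  · rw [mul_assoc g x x, mul_self hD hx, mul_one, ← hgy]
    rw [mul_assoc g x g⁻¹]
    congr 1
    have := congrArg (fun z => g * z * g⁻¹) hgi
    simp only [mul_assoc, mul_inv_cancel_left] at this ⊢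
    rw [mul_inv_cancel, mul_one] at this
    exact this
  · rw [mul_assoc, mul_self hD hx, mul_one]
    exact Odd.of_dvd_nat ⟨k, rfl⟩ hdvd

/-- The middle of `x` and its translate by a commuting pair centralizes the pair. -/
theorem middle_commute (hD : Cfsg.IsOddTranspositionSet D) {d e x w : G} (hd : d ∈ D) (he : e ∈ D)
    (hw : w ∈ D) (hde : d ≠ e) (hc : Commute d e) (owx : Odd (orderOf (w * x)))
    (hwx : w * x * w = d * e * x * (d * e)⁻¹) : Commute d w ∧ Commute e w := by
  have sd := mul_self hD.1 hd
  have se := mul_self hD.1 he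
  have sw := mul_self hD.1 hw
  have hp2 : (d * e)⁻¹ = d * e := by rw [mul_inv_rev, inv_eq hD.1 hd, inv_eq hD.1 he, hc.eq]
  have hpp : d * e * (d * e) = 1 := by nth_rewrite 1 [← hp2]; exact inv_mul_cancel _
  rw [hp2] at hwx
  have hw' : d * e * w * (d * e) ∈ D := by
    have := hD.1.conj_mem w hw (d * e); rwa [hp2] at this
  have hsw : ∀ u v : G, (d * e * u * (d * e)) * (d * e * v * (d * e)) = d * e * (u * v) * (d * e) := by
    intro u v
    rw [show d * e * u * (d * e) * (d * e * v * (d * e)) = d * e * u * (d * e * (d * e)) * (v * (d * e)) by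
      simp only [mul_assoc], hpp]
    simp only [mul_one, mul_assoc]
  -- the conjugate of the middle is again a middle
  have hxw : w * (d * e * x * (d * e)) * w = x := by
    rw [← hwx, ← mul_assoc, ← mul_assoc, sw, one_mul, mul_assoc, sw, mul_one]
  have hconj : d * e * w * (d * e) * x * (d * e * w * (d * e)) = w * x * w := by
    rw [show d * e * w * (d * e) * x * (d * e * w * (d * e)) = d * e * (w * (d * e * x * (d * e)) * w) * (d * e) by
      simp only [mul_assoc], hxw, hwx]
  have owx' : Odd (orderOf (d * e * w * (d * e) * x)) := by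
    have e1 : d * e * w * (d * e) * x = d * e * (w * (d * e * x * (d * e))) * (d * e) := by
      rw [show d * e * (w * (d * e * x * (d * e))) * (d * e) = d * e * w * (d * e) * x * (d * e * (d * e)) by
        simp only [mul_assoc], hpp, mul_one]
    rw [e1, ← hwx]
    have e2 : w * (w * x * w) = x * w := by rw [← mul_assoc, ← mul_assoc, sw, one_mul]
    rw [e2, show d * e * (x * w) * (d * e) = MulAut.conj (d * e) (x * w) by
      rw [MulAut.conj_apply, hp2], MulEquiv.orderOf_eq]
    have : x * w = w * (w * x) * w⁻¹ := by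
      rw [← mul_assoc, sw, one_mul, inv_eq hD.1 hw]
    rw [this, show w * (w * x) * w⁻¹ = MulAut.conj w (w * x) from rfl, MulEquiv.orderOf_eq]
    exact owx
  have hfix : d * e * w * (d * e) = w := eq_of_conj_eq hD.1 hw' hw owx' owx hconj
  have hpw : Commute (d * e) w := by
    show d * e * w = w * (d * e)
    conv_rhs => rw [← hfix]
    rw [mul_assoc (d * e * w), hpp, mul_one]
  by_contra hno
  have hcase : ¬ Commute d w ∧ ¬ Commute e w := by
    constructor
    · intro h
      refine hno ⟨h, ?_⟩
      have := h.mul_left hpw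
      rwa [← mul_assoc, sd, one_mul] at this
    · intro h
      refine hno ⟨?_, h⟩
      have := hpw.mul_left h
      rwa [mul_assoc, se, mul_one] at this
  have od := (commute_or_odd hD hd hw).resolve_left hcase.1
  have oe := (commute_or_odd hD he hw).resolve_left hcase.2
  apply hde
  refine eq_of_conj_eq hD.1 hd he od oe ?_
  calc d * w * d = d * (d * e * w * (d * e)) * d := by rw [hfix]
    _ = e * w * e := by
        rw [show d * (d * e * w * (d * e)) * d = (d * d) * e * w * (d * e * d) by simp only [mul_assoc], sd,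
          one_mul, hc.eq, mul_assoc e d d, sd, mul_one]

/-- On a line at most one translate of `x` commutes with `x`. -/
theorem not_commute_translates (hD : Cfsg.IsOddTranspositionSet D) {d d' e x : G} (hd : d ∈ D)
    (he : e ∈ D) (hx : x ∈ D) (hdd : d * d' ∈ D) (hc : Commute d d') (hde : Commute d e)
    (hd'e : Commute d' e) (hox : Odd (orderOf (d * d' * x))) (hne : d * d' ≠ x)
    (h1 : Commute x (d * e * x * (d * e)⁻¹)) (h2 : Commute x (d' * e * x * (d' * e)⁻¹)) : False := by
  set c := d * d' with hcdef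
  set y₁ := d * e * x * (d * e)⁻¹ with hy₁
  have sx := mul_self hD.1 hx
  have scc : c * c = 1 := mul_self hD.1 hdd
  have cinv : c⁻¹ = c := inv_eq hD.1 hdd
  have hcde : Commute c (d * e) :=
    ((Commute.refl d).mul_left hc.symm).mul_right (hde.mul_left hd'e)
  have hy₂ : d' * e * x * (d' * e)⁻¹ = c * y₁ * c := by
    have e1 : d' * e = c * (d * e) := by
      rw [hcdef, hc.eq, mul_assoc, ← mul_assoc d d, mul_self hD.1 hd, one_mul]
    rw [e1, hy₁, mul_inv_rev, cinv]
    simp only [mul_assoc]
  rw [hy₂] at h2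
  have oy : Odd (orderOf (c * y₁)) := by
    rw [show c * y₁ = MulAut.conj (d * e) (c * x) by
      rw [MulAut.conj_apply, hy₁, ← mul_assoc (d * e), ← hcde.eq]
      simp only [mul_assoc], MulEquiv.orderOf_eq]
    exact hox
  have hxcx : x * c * x ∈ D := by
    have := hD.1.conj_mem c hdd x; rwa [inv_eq hD.1 hx] at this
  have k1 : x * y₁ * x = y₁ := by rw [h1.eq, mul_assoc, sx, mul_one]
  have k2 : x * (c * y₁ * c) * x = c * y₁ * c := by rw [h2.eq, mul_assoc, sx, mul_one]
  have oy' : Odd (orderOf (x * c * x * y₁)) := by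
    rw [show x * c * x * y₁ = MulAut.conj x (c * y₁) by
      rw [MulAut.conj_apply, inv_eq hD.1 hx]
      conv_lhs => rw [← k1]
      simp only [mul_assoc, ← mul_assoc x x, sx, one_mul], MulEquiv.orderOf_eq]
    exact oy
  have hconj : x * c * x * y₁ * (x * c * x) = c * y₁ * c := by
    calc x * c * x * y₁ * (x * c * x) = x * (c * (x * y₁ * x) * c) * x := by simp only [mul_assoc]
      _ = c * y₁ * c := by rw [k1, k2]
  have hcx : x * c * x = c := eq_of_conj_eq hD.1 hxcx hdd oy' oy hconj
  have hcomm : c * x = x * c := by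
    conv_lhs => rw [← hcx]
    rw [mul_assoc (x * c), sx, mul_one]
  exact commute_not_odd hD.1 hdd hx hne hcomm hox

end CfsgLib.RootInvol.OddTr
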