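import Cfsg.Agent.Lib.RootSub.Chain
import Cfsg.Agent.Lib.Invol.BaerSuzuki
import Cfsg.Agent.Lib.PGroup.Basic

/-!
# Root involutions: braid lemma, and members with the same odd partners

Two members with the same odd partners commute and have the same commuting members.
-/

set_option autoImplicit false

namespace CfsgLib.RootInvol

variable {G : Type*} [Group G] {D : Set G}

theorem four_of_sq (hD : Cfsg.IsRootInvolutionSet D) {a b c : G} (ha : a ∈ D) (hb : b ∈ D)
    (hc : c ∈ D) (h : (a * b) ^ 2 = c) : orderOf (a * b) = 4 := by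
  have h2 : orderOf ((a * b) ^ 2) = 2 := by rw [h, hD.orderOf_eq c hc]
  rcases hD.pair a ha b hb with h1 | h1 | ⟨h1, -⟩
  · rw [(show Commute a b from h1).mul_pow, pow_two, pow_two, mul_self hD ha, mul_self hD hb,
      one_mul, orderOf_one] at h2
    exact absurd h2 (by decide)
  · rw [Nat.Coprime.orderOf_pow (Nat.coprime_two_right.2 h1)] at h2
    rw [h2] at h1
    exact absurd h1 (by decide)
  · exact h1

/-- **The braid lemma.** -/
theorem braid (hD : Cfsg.IsRootInvolutionSet D) {d x p q : G} (hd : d ∈ D) (hx : x ∈ D) (hp : p ∈ D)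
    (hq : q ∈ D) (h1 : (x * p) ^ 2 = d) (h2 : (d * q) ^ 2 = x) : orderOf (p * q) = 3 := by
  have o1 := four_of_sq hD hx hp hd h1
  have o2 := four_of_sq hD hd hq hx h2
  obtain ⟨-, -, cpd, exd, -, -⟩ := four_facts hD hx hp o1
  obtain ⟨-, cdx, cqx, edx, -, -⟩ := four_facts hD hd hq o2
  rw [h1] at cpd exd
  rw [h2] at cdx cqx edx
  have sp := mul_self hD hp
  have sq := mul_self hD hq
  set g := p * q with hg
  have ginv : g⁻¹ = q * p := by rw [hg, mul_inv_rev, inv_eq hD hp, inv_eq hD hq]
  have c0 : g * d * g⁻¹ = x := by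
    rw [ginv, hg, show p * q * d * (q * p) = p * (q * d * q) * p by simp only [mul_assoc], ← edx,
      show p * (d * x) * p = p * d * p * (p * x * p) by
        simp only [mul_assoc, ← mul_assoc p p, sp, one_mul],
      ← exd, cpd.eq, mul_assoc d p p, sp, mul_one, ← mul_assoc, cdx.eq, mul_assoc,
      mul_self hD hd, mul_one]
  have c1 : g * x * g⁻¹ = x * d := by
    rw [ginv, hg, show p * q * x * (q * p) = p * (q * x * q) * p by simp only [mul_assoc], cqx.eq,
      mul_assoc x q q, sq, mul_one, ← exd]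
  have c2 : g * (x * d) * g⁻¹ = d := by
    rw [show g * (x * d) * g⁻¹ = g * x * g⁻¹ * (g * d * g⁻¹) by group, c0, c1, mul_assoc,
      cdx.eq, ← mul_assoc, mul_self hD hx, one_mul]
  have g2 : g ^ 2 * d * (g ^ 2)⁻¹ = x * d := by
    rw [show g ^ 2 * d * (g ^ 2)⁻¹ = g * (g * d * g⁻¹) * g⁻¹ by
      rw [pow_two, mul_inv_rev g g]; simp only [mul_assoc], c0, c1]
  have g3 : g ^ 3 * d * (g ^ 3)⁻¹ = d := by
    rw [show g ^ 3 * d * (g ^ 3)⁻¹ = g * (g ^ 2 * d * (g ^ 2)⁻¹) * g⁻¹ by group, g2, c2]
  have hxd : x ≠ d := fun e => not_commute_of_four hD hx hp o1 (by rw [e]; exact cpd.eq.symm)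
  have hx1 : x ≠ 1 := fun e => by
    have := hD.orderOf_eq x hx
    rw [e, orderOf_one] at this
    exact absurd this (by decide)
  have hg1 : g ≠ 1 := fun e => hxd (by rw [← c0, e, one_mul, inv_one, mul_one])
  have hodd : Odd (orderOf g) := by
    rcases hD.pair p hp q hq with h | h | ⟨h, -⟩
    · have e : g ^ 2 = 1 := by
        rw [hg, (show Commute p q from h).mul_pow, pow_two, pow_two, sp, sq, one_mul]
      rw [e, one_mul, inv_one, mul_one] at g2
      exact absurd (mul_eq_right.1 g2.symm) hx1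
    · exact h
    · have e : g ^ 4 = 1 := by rw [← h, hg, pow_orderOf_eq_one]
      have : g ^ 4 * d * (g ^ 4)⁻¹ = x := by
        rw [show g ^ 4 * d * (g ^ 4)⁻¹ = g * (g ^ 3 * d * (g ^ 3)⁻¹) * g⁻¹ by group, g3, c0]
      rw [e, one_mul, inv_one, mul_one] at this
      exact absurd this.symm hxd
  obtain ⟨m, hm⟩ := hodd
  have hgn : g ^ (2 * m + 1) = 1 := by rw [← hm, pow_orderOf_eq_one]
  set k := g ^ (3 * (m + 1)) with hk
  have hkk : k * k = g ^ 3 := by
    rw [hk, ← pow_add, show 3 * (m + 1) + 3 * (m + 1) = 3 * (2 * m + 1) + 3 by ring, pow_add,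
      mul_comm 3 (2 * m + 1), pow_mul, hgn, one_pow, one_mul]
  have hpk : k⁻¹ * p * k = p * g ^ 3 := by
    have hpg : p * g * p⁻¹ = g⁻¹ := by
      rw [ginv, hg, inv_eq hD hp, ← mul_assoc p p, sp, one_mul]
    have : p * k = k⁻¹ * p := by
      rw [hk, ← inv_pow, ← hpg, conj_pow]; group
    rw [← this, mul_assoc, hkk]
  have hv : p * g ^ 3 ∈ D := by
    rw [← hpk]
    have := hD.conj_mem p hp k⁻¹
    rwa [inv_inv] at this
  have hu : d * p ∈ D := by
    have e : d * p = x * p * x := by rw [← h1, pow_two]; simp only [mul_assoc, sp, mul_one]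
    rw [e]
    have := hD.conj_mem p hp x
    rwa [inv_eq hD hx] at this
  have hcom : Commute d (g ^ 3) := by
    have := mul_inv_eq_iff_eq_mul.1 g3
    exact this.symm
  have h31 := eq_one_of_twist hD hu hv hd hcom
    (Odd.of_dvd_nat (⟨m, hm⟩ : Odd (orderOf g)) (orderOf_pow_dvd 3))
    (by rw [mul_assoc, ← mul_assoc p p, sp, one_mul])
  exact orderOf_eq_prime h31 hg1

/-- Propagation of a product of order three. -/
theorem propagate (hD : Cfsg.IsRootInvolutionSet D) {p q r : G} (hp : p ∈ D) (hq : q ∈ D)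
    (hr : r ∈ D) (h3 : orderOf (p * q) = 3) (hc : Commute p r) (hpr : p * r ∈ D)
    (h4 : orderOf (q * r) = 4) : (p * (q * r) ^ 2) ^ 2 = r := by
  have hne : p ≠ q := fun e => by
    rw [e, mul_self hD hq, orderOf_one] at h3
    exact absurd h3 (by decide)
  have hodd : Odd (orderOf (p * q)) := by rw [h3]; decide
  have hn := norm_start hD ⟨hp, hq, hne, hodd⟩ hr hc h4 hpr
  rw [norm, h3] at hn
  obtain ⟨he, -, cre, -, ere, -⟩ := four_facts hD hq hr h4
  set e := (q * r) ^ 2 with hedef
  have g3 : (p * q) ^ 3 = 1 := by rw [← h3, pow_orderOf_eq_one]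
  have sp := mul_self hD hp
  have ga : p * q * r * (p * q)⁻¹ = r * (p * e * p) := by
    rw [mul_inv_rev, inv_eq hD hp, inv_eq hD hq,
      show p * q * r * (q * p) = p * (q * r * q) * p by simp only [mul_assoc], ← ere,
      show p * (r * e) * p = p * r * (e * p) by simp only [mul_assoc], hc.eq]
    simp only [mul_assoc]
  have gb : (p * q) ^ 2 * r * ((p * q) ^ 2)⁻¹ = r * e := by
    have e1 : (p * q) ^ 2 = (p * q)⁻¹ := eq_inv_of_mul_eq_one_left (by rw [← pow_succ]; exact g3)
    rw [e1, inv_inv, mul_inv_rev, inv_eq hD hp, inv_eq hD hq,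
      show q * p * r * (p * q) = q * (p * r * p) * q by simp only [mul_assoc], hc.eq,
      mul_assoc r p p, sp, mul_one, ← ere]
  have key : r * (r * (p * e * p)) * (r * e) = 1 := by
    rw [← gb, ← ga]
    calc r * (p * q * r * (p * q)⁻¹) * ((p * q) ^ 2 * r * ((p * q) ^ 2)⁻¹)
        = (r * (p * q)) ^ 3 * ((p * q) ^ 3)⁻¹ := by
          simp only [pow_succ, pow_zero, one_mul, mul_inv_rev]; group
      _ = 1 := by rw [hn, g3, inv_one, mul_one]
  rw [← mul_assoc r r, mul_self hD hr, one_mul, cre.eq, ← mul_assoc] at key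
  have h5 : (p * e) ^ 2 = r⁻¹ := by
    rw [eq_inv_iff_mul_eq_one, pow_two, ← key]
    simp only [mul_assoc]
  rw [h5, inv_eq hD hr]

/-- `u` and `v` have the same odd partners. -/
def Same (D : Set G) (u v : G) : Prop := ∀ y, Cfsg.OddAdj D u y ↔ Cfsg.OddAdj D v y

theorem same_conj (hD : Cfsg.IsRootInvolutionSet D) {u v : G} (h : Same D u v) (g : G) :
    Same D (g * u * g⁻¹) (g * v * g⁻¹) := by
  have key : ∀ {a b : G}, Same D a b → ∀ y, Cfsg.OddAdj D (g * a * g⁻¹) y →
      Cfsg.OddAdj D (g * b * g⁻¹) y := by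
    intro a b hab y hy
    have h1 := adj_conj' hD hy g⁻¹
    rw [show g⁻¹ * (g * a * g⁻¹) * g⁻¹⁻¹ = a by group] at h1
    have h2 := adj_conj' hD ((hab _).1 h1) g
    rwa [show g * (g⁻¹ * y * g⁻¹⁻¹) * g⁻¹ = y by group] at h2
  exact fun y => ⟨key h y, key (fun z => (h z).symm) y⟩

theorem exists_conj_of_connected (hD : Cfsg.IsRootInvolutionSet D)
    (hc : Cfsg.IsConnectedSet (Cfsg.OddAdj D) D) {u v : G} (hu : u ∈ D) (hv : v ∈ D) :
    ∃ g : G, v = g * u * g⁻¹ := by
  have := hc u hu v hv
  clear hv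
  induction this with
  | refl => exact ⟨1, by simp⟩
  | tail _ h ih =>
    obtain ⟨g, rfl⟩ := ih
    obtain ⟨k, hk⟩ := conj_of_odd hD h.1 h.2.1 h.2.2.2
    exact ⟨k * g, by rw [hk]; group⟩

theorem same_of_subset [Finite G] (hD : Cfsg.IsRootInvolutionSet D)
    (hc : Cfsg.IsConnectedSet (Cfsg.OddAdj D) D) {u v : G} (hu : u ∈ D) (hv : v ∈ D)
    (h : ∀ y, Cfsg.OddAdj D u y → Cfsg.OddAdj D v y) : Same D u v := by
  obtain ⟨g, hg⟩ := exists_conj_of_connected hD hc hu hv
  have himg : {y | Cfsg.OddAdj D v y} = (fun y => g * y * g⁻¹) '' {y | Cfsg.OddAdj D u y} := by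
    ext y
    refine ⟨fun hy => ⟨g⁻¹ * y * g, ?_, by group⟩, ?_⟩
    · have := adj_conj' hD hy g⁻¹
      rwa [hg, inv_inv, show g⁻¹ * (g * u * g⁻¹) * g = u by group] at this
    · rintro ⟨z, hz, rfl⟩
      rw [hg]
      exact adj_conj' hD hz g
  have heq := Set.eq_of_subset_of_ncard_le (s := {y | Cfsg.OddAdj D u y})
    (t := {y | Cfsg.OddAdj D v y}) h (by
      rw [himg]; exact Set.ncard_image_le (Set.toFinite _)) (Set.toFinite _)
  exact fun y => by rw [show Cfsg.OddAdj D u y ↔ Cfsg.OddAdj D v y from Set.ext_iff.1 heq y]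

theorem triangle_adj (hD : Cfsg.IsRootInvolutionSet D) {a b y : G} (ha : a ∈ D) (hb : b ∈ D)
    (hab : a * b ∈ D) (hc : a * b = b * a) (h : Cfsg.OddAdj D (a * b) y) :
    Cfsg.OddAdj D a y ∨ Cfsg.OddAdj D b y := by
  rcases triple hD ha hb hab hc h.2.1 h.2.2.1 h.2.2.2 with ⟨h1, h2⟩ | ⟨h1, h2⟩
  · exact Or.inl ⟨ha, h.2.1, h1, h2⟩
  · exact Or.inr ⟨hb, h.2.1, h1, h2⟩

theorem same_commute [Finite G] (hD : Cfsg.IsRootInvolutionSet D)
    (hc : Cfsg.IsConnectedSet (Cfsg.OddAdj D) D) {u v : G} (hu : u ∈ D) (hv : v ∈ D)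
    (h : Same D u v) : Commute u v := by
  classical
  haveI : Fact (Nat.Prime 2) := ⟨Nat.prime_two⟩
  rcases (hc u hu v hv).cases_head with e | ⟨z, hz, -⟩
  · rw [e]
  set K : Set G := {e | e ∈ D ∧ Same D u e} with hK
  have hKK : ∀ {k l : G}, k ∈ K → l ∈ K → Same D k l := fun hk hl y =>
    (hk.2 y).symm.trans (hl.2 y)
  have hnot : ∀ {k l : G}, k ∈ K → l ∈ K → ¬ Cfsg.OddAdj D k l := fun {k l} hk hl hadj =>
    ((hKK hk hl l).1 hadj).2.2.1 rfl
  have hclosed : ∀ {k l : G}, k ∈ K → l ∈ K → k * l * k ∈ K := by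
    intro k l hk hl
    have h1 := same_conj hD (hKK hk hl) k
    rw [inv_eq hD hk.1, mul_assoc k k k, mul_self hD hk.1, mul_one] at h1
    exact ⟨by have := hD.conj_mem l hl.1 k; rwa [inv_eq hD hk.1] at this,
      fun y => (hk.2 y).trans (h1 y)⟩
  have hstab : ∀ g ∈ Subgroup.closure K, (∀ k ∈ K, g * k * g⁻¹ ∈ K) ∧
      (∀ k ∈ K, g⁻¹ * k * g ∈ K) := by
    intro g hg
    induction hg using Subgroup.closure_induction with
    | mem x hx =>
      exact ⟨fun k hk => by rw [inv_eq hD hx.1]; exact hclosed hx hk,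
        fun k hk => by rw [inv_eq hD hx.1]; exact hclosed hx hk⟩
    | one => exact ⟨fun k hk => by simpa using hk, fun k hk => by simpa using hk⟩
    | mul a b _ _ ha hb =>
      exact ⟨fun k hk => by
          rw [show a * b * k * (a * b)⁻¹ = a * (b * k * b⁻¹) * a⁻¹ by group]
          exact ha.1 _ (hb.1 k hk),
        fun k hk => by
          rw [show (a * b)⁻¹ * k * (a * b) = b⁻¹ * (a⁻¹ * k * a) * b by group]
          exact hb.2 _ (ha.2 k hk)⟩
    | inv a _ ha =>
      exact ⟨fun k hk => by rw [inv_inv]; exact ha.2 k hk,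
        fun k hk => by rw [inv_inv]; exact ha.1 k hk⟩
  set Q := Subgroup.closure K with hQ
  have hpow4 : ∀ {k l : G}, k ∈ K → l ∈ K → (k * l) ^ 4 = 1 := by
    intro k l hk hl
    rcases hD.pair k hk.1 l hl.1 with h1 | h1 | ⟨h1, -⟩
    · rw [show 4 = 2 * 2 from rfl, pow_mul, (show Commute k l from h1).mul_pow, pow_two k,
        pow_two l, mul_self hD hk.1, mul_self hD hl.1, one_mul, one_pow]
    · by_cases e : k = l
      · rw [e, mul_self hD hl.1, one_pow]
      · exact absurd ⟨hk.1, hl.1, e, h1⟩ (hnot hk hl)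
    · rw [← h1, pow_orderOf_eq_one]
  have hQp : IsPGroup 2 Q := by
    have hgen : ∀ k : Q, (k : G) ∈ K → k ∈ Cfsg.pCore 2 Q := by
      intro k hk
      obtain ⟨N, hN, hN2, hkN⟩ := CfsgLib.Invol.exists_normal_pGroup_mem (p := 2) (x := k) (by
        intro g
        set l := g * k * g⁻¹ with hldef
        have hl : (l : G) ∈ K := (hstab _ g.2).1 _ hk
        have hkk : k * k = 1 := Subtype.ext (mul_self hD hk.1)
        have hll : l * l = 1 := Subtype.ext (mul_self hD hl.1)
        have h4 : (k * l) ^ 4 = 1 := Subtype.ext (hpow4 hk hl)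
        have hP : IsPGroup 2 ↥(Subgroup.zpowers (k * l)) := by
          rintro ⟨_, i, rfl⟩
          exact ⟨2, Subtype.ext (by
            show ((k * l) ^ i) ^ 2 ^ 2 = 1
            rw [← zpow_natCast, zpow_comm, zpow_natCast, show 2 ^ 2 = 4 from rfl, h4, one_zpow])⟩
        have hk2 : IsPGroup 2 ↥(Subgroup.zpowers k) := by
          rintro ⟨_, i, rfl⟩
          exact ⟨1, Subtype.ext (by
            show (k ^ i) ^ 2 ^ 1 = 1
            rw [← zpow_natCast, zpow_comm, zpow_natCast, pow_one, pow_two, hkk, one_zpow])⟩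
        have hle : Subgroup.zpowers k ≤
            Subgroup.normalizer (Subgroup.zpowers (k * l) : Set Q) := by
          rw [Subgroup.zpowers_le]
          refine CfsgLib.Invol.mem_normalizer_of_conj_map_eq ?_
          rw [MonoidHom.map_zpowers]
          have e : (MulAut.conj k).toMonoidHom (k * l) = (k * l)⁻¹ := by
            show k * (k * l) * k⁻¹ = _
            rw [mul_inv_rev, inv_eq_of_mul_eq_one_right hkk, inv_eq_of_mul_eq_one_right hll,
              ← mul_assoc k k, hkk, one_mul]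
          rw [e, Subgroup.zpowers_inv]
        refine (hk2.to_sup_of_normal_right' hP hle).to_le ((Subgroup.closure_le _).2 ?_)
        rintro x (rfl | rfl)
        · exact Subgroup.mem_sup_left (Subgroup.mem_zpowers _)
        · have : l = k * (k * l) := by rw [← mul_assoc, hkk, one_mul]
          have h2 : k * (k * l) ∈ Subgroup.zpowers k ⊔ Subgroup.zpowers (k * l) :=
            mul_mem (Subgroup.mem_sup_left (Subgroup.mem_zpowers _))
              (Subgroup.mem_sup_right (Subgroup.mem_zpowers _))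
          rwa [← this] at h2)
      exact CfsgLib.PGroup.le_pCore hN hN2 hkN
    intro g
    have hmem : g ∈ Cfsg.pCore 2 Q := by
      obtain ⟨g, hg⟩ := g
      induction hg using Subgroup.closure_induction with
      | mem x hx => exact hgen ⟨x, Subgroup.subset_closure hx⟩ hx
      | one => exact one_mem _
      | mul a b ha hb iha ihb => exact mul_mem iha ihb
      | inv a ha iha => exact inv_mem iha
    obtain ⟨k, hk⟩ := CfsgLib.PGroup.isPGroup_pCore 2 Q ⟨g, hmem⟩
    exact ⟨k, congrArg Subtype.val hk⟩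
  haveI := hQp.isNilpotent
  obtain ⟨n, hn⟩ := (Subgroup.isNilpotent_iff_lowerCentralSeries (S := Q)).1 inferInstance
  obtain ⟨c, hcK, hcen⟩ : ∃ c ∈ K, ∀ k ∈ K, Commute c k := by
    by_contra hcon
    push Not at hcon
    have hdesc : ∀ j, ∃ k ∈ K, k ∈ Q.lowerCentralSeries j := by
      intro j
      induction j with
      | zero => exact ⟨u, ⟨hu, fun y => Iff.rfl⟩, Subgroup.subset_closure ⟨hu, fun y => Iff.rfl⟩⟩
      | succ m ih =>
        obtain ⟨k, hk, hkm⟩ := ih
        obtain ⟨l, hl, hkl⟩ := hcon k hk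
        have o : orderOf (k * l) = 4 := four_of hD hk.1 hl.1 hkl (hnot hk hl)
        obtain ⟨hm', -, -, e1, -, -⟩ := four_facts hD hk.1 hl.1 o
        have hl' := hclosed hl hk
        have eprod : (k * l) ^ 2 = k * (l * k * l) := by rw [pow_two]; simp only [mul_assoc]
        refine ⟨(k * l) ^ 2, ⟨hm', fun y => ((same_of_subset hD hc hm' hu fun z hz => ?_) y).symm⟩, ?_⟩
        · rw [eprod] at hz
          rcases triangle_adj hD hk.1 hl'.1 (eprod ▸ hm')
              (four_facts hD hl.1 hk.1 (by rw [orderOf_mul_comm hD hk.1 hl.1]; exact o)).2.2.2.2.2.eq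
              hz with h' | h'
          · exact (hk.2 z).2 h'
          · exact (hl'.2 z).2 h'
        · rw [Subgroup.lowerCentralSeries_succ]
          have := Subgroup.commutator_mem_commutator hkm
            (Subgroup.subset_closure hl : l ∈ Q)
          rwa [commutatorElement_def, inv_eq hD hk.1, inv_eq hD hl.1,
            show k * l * k * l = (k * l) ^ 2 by simp only [pow_two, mul_assoc]] at this
    obtain ⟨k, hk, hk'⟩ := hdesc n
    rw [hn, Subgroup.mem_bot] at hk'
    have := hD.orderOf_eq k hk.1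
    rw [hk', orderOf_one] at this
    exact absurd this (by decide)
  have huK : u ∈ K := ⟨hu, fun y => Iff.rfl⟩
  have hvK : v ∈ K := ⟨hv, h⟩
  have hz' : Cfsg.OddAdj D c z := (hKK huK hcK z).1 hz
  obtain ⟨g1, hg1⟩ := conj_of_odd hD hcK.1 hz'.2.1 hz'.2.2.2
  have hzu := oddAdj_symm hD hz
  obtain ⟨g2, hg2⟩ := conj_of_odd hD hzu.1 hzu.2.1 hzu.2.2.2
  set g := g2 * g1 with hgdef
  have hgc : u = g * c * g⁻¹ := by rw [hg2, hg1, hgdef]; group
  have hmK : g⁻¹ * v * g ∈ K := by
    have h1 := same_conj hD h g⁻¹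
    rw [inv_inv, hgc, show g⁻¹ * (g * c * g⁻¹) * g = c by group] at h1
    refine ⟨?_, fun y => ?_⟩
    · have := hD.conj_mem v hv g⁻¹
      rwa [inv_inv] at this
    · exact (hKK huK hcK y).trans (h1 y)
  have hcm := hcen _ hmK
  show u * v = v * u
  rw [hgc]
  have h2 := congrArg (fun t => g * t * g⁻¹) hcm.eq
  simp only [mul_assoc, mul_inv_cancel_left, inv_mul_cancel_left] at h2 ⊢
  simpa [mul_assoc] using h2

/-- Members with the same odd partners have the same commuting members. -/
theorem same_commuting [Finite G] (hD : Cfsg.IsRootInvolutionSet D)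
    (hc : Cfsg.IsConnectedSet (Cfsg.OddAdj D) D) {a b r : G} (ha : a ∈ D) (hb : b ∈ D) (hr : r ∈ D)
    (h : Same D a b) (hra : r * a = a * r) : r * b = b * r := by
  by_contra hrb
  have hno : ¬ Cfsg.OddAdj D r b := fun hadj => by
    have h1 := (h r).2 (oddAdj_symm hD hadj)
    exact commute_not_odd hD ha hr h1.2.2.1 hra.symm h1.2.2.2
  have o := four_of hD hr hb hrb hno
  obtain ⟨hdD, crd, cbd, erd, ebd, cbr⟩ := four_facts hD hr hb o
  set d := (r * b) ^ 2 with hddef
  have hr' : r * b * r ∈ D := by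
    have := hD.conj_mem b hb r; rwa [inv_eq hD hr] at this
  have hsr : Same D (r * b * r) b := by
    have h1 := same_conj hD h r
    rw [inv_eq hD hr, show r * a * r = a by rw [hra, mul_assoc, mul_self hD hr, mul_one]] at h1
    exact fun y => (h1 y).symm.trans (h y)
  have hde : d = b * (r * b * r) := by
    rw [← ebd, ← mul_assoc, mul_self hD hb, one_mul]
  have hdb : Same D d b := same_of_subset hD hc hdD hb fun y hy => by
    rw [hde] at hy
    rcases triangle_adj hD hb hr' (hde ▸ hdD) cbr.eq hy with h' | h'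
    · exact h'
    · exact (hsr y).1 h'
  obtain ⟨z, hz, hzr⟩ : ∃ z, Cfsg.OddAdj D b z ∧ ¬ Cfsg.OddAdj D r z := by
    by_contra hall
    push Not at hall
    exact hrb (same_commute hD hc hb hr (same_of_subset hD hc hb hr hall)).eq.symm
  have hdz : Cfsg.OddAdj D d z := (hdb z).2 hz
  have hrdD : r * d ∈ D := by
    rw [erd]
    have := hD.conj_mem r hr b; rwa [inv_eq hD hb] at this
  have hnc : z * r ≠ r * z := fun hcm => forbidden hD hr hrdD crd.eq hcm.symm hdz
  have hzr4 := four_of hD hz.2.1 hr hnc fun hadj => hzr (oddAdj_symm hD hadj)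
  have hdrD : d * r ∈ D := by rw [← crd.eq]; exact hrdD
  obtain ⟨k, hk⟩ := periodic hD hdz hr crd.symm hzr4 hdrD
  apply hrb
  rw [← hk]
  obtain ⟨heD, hez, hde4⟩ := chain_inv hD hdz hr crd.symm hzr4 (2 * k + 1)
  obtain ⟨hxD, -, hzx⟩ := chain_inv hD hdz hr crd.symm hzr4 (2 * k + 2)
  rw [show act d z (2 * k + 1) = d by simp [act, Nat.even_add_one]] at hde4
  rw [show act d z (2 * k + 2) = z by simp [act, Nat.even_add_one]] at hzx
  set e := chain d z r (2 * k + 1) with hedef
  set x := chain d z r (2 * k + 2) with hxdef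
  have hxe : x = (d * e) ^ 2 := by
    rw [hxdef, chain, show act d z (2 * k + 1) = d by simp [act, Nat.even_add_one]]
  set v := e * d * e with hvdef
  have hvD : v ∈ D := by
    have := hD.conj_mem d hdD e; rwa [inv_eq hD heD] at this
  have hxv : x = d * v := by rw [hxe, pow_two, hvdef]; simp only [mul_assoc]
  obtain ⟨-, cdx, -, -, -, -⟩ := four_facts hD hdD heD hde4
  rw [← hxe] at cdx
  have cdv : Commute d v := by
    have : v = d * x := by rw [hxv, ← mul_assoc, mul_self hD hdD, one_mul]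
    rw [this]
    exact Commute.mul_right (Commute.refl d) cdx
  have hbe : ¬ Cfsg.OddAdj D b e := fun hadj => by
    have := ((hdb e).2 hadj).2.2.2
    rw [hde4] at this
    exact absurd this (by decide)
  set b' := e * b * e with hbdef
  have hb'D : b' ∈ D := by
    have := hD.conj_mem b hb e; rwa [inv_eq hD heD] at this
  have cbb : Commute b b' := by
    by_cases hbc : b * e = e * b
    · rw [hbdef, ← hbc, mul_assoc, mul_self hD heD, mul_one]
    · exact (four_facts hD heD hb (by
        rw [orderOf_mul_comm hD hb heD]; exact four_of hD hb heD hbc hbe)).2.2.2.2.2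
  have hbv : Commute b v := by
    by_contra hnbv
    have o4 : orderOf (v * b) = 4 := by
      refine four_of hD hvD hb (fun hh => hnbv hh.symm) fun hadj => ?_
      have h1 := (hdb v).2 (oddAdj_symm hD hadj)
      exact commute_not_odd hD hdD hvD h1.2.2.1 cdv.eq h1.2.2.2
    obtain ⟨hgD, cvg, cbg, evg, ebg, cbvbv⟩ := four_facts hD hvD hb o4
    set g := (v * b) ^ 2 with hgdef
    have hvbv : Same D (v * b * v) b := by
      have h1 := same_conj hD hdb v
      rw [inv_eq hD hvD, show v * d * v = d by rw [← cdv.eq, mul_assoc, mul_self hD hvD, mul_one]]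
        at h1
      exact fun y => (h1 y).symm.trans (hdb y)
    have hvbvD : v * b * v ∈ D := by
      have := hD.conj_mem b hb v; rwa [inv_eq hD hvD] at this
    have hbvbD : b * v * b ∈ D := by
      have := hD.conj_mem v hvD b; rwa [inv_eq hD hb] at this
    have hge : g = b * (v * b * v) := by rw [← ebg, ← mul_assoc, mul_self hD hb, one_mul]
    have hge' : g = v * (b * v * b) := by rw [← evg, ← mul_assoc, mul_self hD hvD, one_mul]
    have hgb : Same D g b := same_of_subset hD hc hgD hb fun y hy => by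
      rw [hge] at hy
      rcases triangle_adj hD hb hvbvD (hge ▸ hgD) cbvbv.eq hy with h' | h'
      · exact h'
      · exact (hvbv y).1 h'
    have hvb' : Same D v b' := by
      have h1 := same_conj hD hdb e
      rwa [inv_eq hD heD] at h1
    have hbvb : Same D (b * v * b) v := by
      have h1 := same_conj hD hvb' b
      rw [inv_eq hD hb, show b * b' * b = b' by rw [cbb.eq, mul_assoc, mul_self hD hb, mul_one]]
        at h1
      exact fun y => (h1 y).trans (hvb' y).symm
    have hgv : Same D g v := same_of_subset hD hc hgD hvD fun y hy => by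
      rw [hge'] at hy
      rcases triangle_adj hD hvD hbvbD (hge' ▸ hgD)
          (by
            show v * (b * v * b) = b * v * b * v
            rw [show b * v * b = v * g from evg.symm, mul_assoc v g v, ← cvg.eq]) hy with h' | h'
      · exact h'
      · exact (hbvb y).1 h'
    have hvd : Same D v d := fun y => ((hgv y).symm.trans (hgb y)).trans (hdb y).symm
    have hxd : Same D x d := same_of_subset hD hc hxD hdD fun y hy => by
      rw [hxv] at hy
      rcases triangle_adj hD hdD hvD (hxv ▸ hxD) cdv.eq hy with h' | h'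
      · exact h'
      · exact (hvd y).1 h'
    have h1 := oddAdj_symm hD ((hxd z).2 hdz)
    have h2 := h1.2.2.2
    rw [hzx] at h2
    exact absurd h2 (by decide)
  rw [hxv]
  exact (Commute.mul_right cbd hbv).eq.symm

end CfsgLib.RootInvol
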