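import Cfsg.Agent.Lib.RootSub.Triple

/-!
# Root involutions: commutator chains over a pair with product of odd order

For `u, y` with product of odd order and `x` commuting with `u`, with `u x` a member and `y x` of
order four, the iterated squares `x, (y x)², (u (y x)²)², …` generate an abelian group normalised by
`u` and `y`, on which `u y` has no fixed points; so `x` is itself one of the iterated squares.
-/

set_option autoImplicit false

namespace CfsgLib.RootInvol

variable {G : Type*} [Group G] {D : Set G}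

theorem adj_conj' (hD : Cfsg.IsRootInvolutionSet D) {a b : G} (h : Cfsg.OddAdj D a b) (g : G) :
    Cfsg.OddAdj D (g * a * g⁻¹) (g * b * g⁻¹) := by
  refine ⟨hD.conj_mem a h.1 g, hD.conj_mem b h.2.1 g, fun e => h.2.2.1 ?_, ?_⟩
  · exact mul_left_cancel (mul_right_cancel e)
  · rw [show g * a * g⁻¹ * (g * b * g⁻¹) = MulAut.conj g (a * b) by
      rw [MulAut.conj_apply]; group, MulEquiv.orderOf_eq]
    exact h.2.2.2

/-- No third member commutes with `α` and has odd product with `β` when `α β` is a member. -/
theorem forbidden (hD : Cfsg.IsRootInvolutionSet D) {α β y : G} (hα : α ∈ D)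
    (hαβ : α * β ∈ D) (hc : α * β = β * α) (hy : α * y = y * α) (h : Cfsg.OddAdj D β y) : False := by
  apply h.2.2.1
  have h1 := eq_one_of_twist hD hαβ h.2.1 hα (Commute.mul_right hc hy) h.2.2.2 (mul_assoc _ _ _)
  rw [← inv_eq hD h.2.1]
  exact eq_inv_of_mul_eq_one_left h1

theorem four_of (hD : Cfsg.IsRootInvolutionSet D) {a b : G} (ha : a ∈ D) (hb : b ∈ D)
    (hnc : a * b ≠ b * a) (hno : ¬ Cfsg.OddAdj D a b) : orderOf (a * b) = 4 := by
  rcases hD.pair a ha b hb with h | h | ⟨h, -⟩
  · exact absurd h hnc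
  · exact absurd ⟨ha, hb, fun e => hnc (by rw [e]), h⟩ hno
  · exact h

theorem not_commute_of_four (hD : Cfsg.IsRootInvolutionSet D) {a b : G} (ha : a ∈ D) (hb : b ∈ D)
    (h : orderOf (a * b) = 4) : a * b ≠ b * a := by
  intro hc
  have h2 : (a * b) ^ 2 = 1 := by
    rw [(show Commute a b from hc).mul_pow, pow_two, pow_two, mul_self hD ha, mul_self hD hb, one_mul]
  have := Nat.le_of_dvd (by norm_num) (orderOf_dvd_of_pow_eq_one h2)
  omega

/-- The data of a pair of members with product of order four. -/
theorem four_facts (hD : Cfsg.IsRootInvolutionSet D) {s x : G} (hs : s ∈ D) (hx : x ∈ D)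
    (h : orderOf (s * x) = 4) :
    (s * x) ^ 2 ∈ D ∧ Commute s ((s * x) ^ 2) ∧ Commute x ((s * x) ^ 2) ∧
      s * (s * x) ^ 2 = x * s * x ∧ x * (s * x) ^ 2 = s * x * s ∧ Commute x (s * x * s) := by
  have hm : (s * x) ^ 2 ∈ D := by
    rcases hD.pair s hs x hx with h1 | h1 | ⟨-, h1⟩
    · exact absurd h1 (not_commute_of_four hD hs hx h)
    · rw [h] at h1; exact absurd h1 (by decide)
    · exact h1
  have ss := mul_self hD hs
  have sx := mul_self hD hx
  have hsym : (s * x) ^ 2 = (x * s) ^ 2 := by
    rw [← inv_eq hD hm, ← inv_pow, mul_inv_rev, inv_eq hD hs, inv_eq hD hx]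
  have e1 : s * (s * x) ^ 2 = x * s * x := by
    simp only [pow_two, ← mul_assoc, ss, one_mul]
  have e2 : x * (x * s) ^ 2 = s * x * s := by
    simp only [pow_two, ← mul_assoc, sx, one_mul]
  have c1 : Commute s ((s * x) ^ 2) := by
    show s * (s * x) ^ 2 = (s * x) ^ 2 * s
    rw [e1, hsym]
    simp only [pow_two, mul_assoc, ss, mul_one]
  have c2 : Commute x ((s * x) ^ 2) := by
    show x * (s * x) ^ 2 = (s * x) ^ 2 * x
    nth_rewrite 1 [hsym]
    rw [e2]
    simp only [pow_two, mul_assoc, sx, mul_one]
  refine ⟨hm, c1, c2, e1, by rw [hsym, e2], ?_⟩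
  rw [← e2, ← hsym]
  exact Commute.mul_right (Commute.refl x) c2

/-- One step of the chain. -/
theorem step (hD : Cfsg.IsRootInvolutionSet D) {s t x : G} (hst : Cfsg.OddAdj D s t) (hx : x ∈ D)
    (hc : t * x = x * t) (h : orderOf (s * x) = 4) :
    (s * x) ^ 2 ∈ D ∧ Commute s ((s * x) ^ 2) ∧ orderOf (t * (s * x) ^ 2) = 4 := by
  obtain ⟨hm, c1, c2, e1, e2, -⟩ := four_facts hD hst.1 hx h
  have hnc : t * (s * x) ^ 2 ≠ (s * x) ^ 2 * t := by
    intro hcomm
    refine forbidden hD hm ?_ c1.symm hcomm.symm hst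
    rw [← c1.eq, e1]
    have := hD.conj_mem s hst.1 x
    rwa [inv_eq hD hx] at this
  refine ⟨hm, c1, four_of hD hst.2.1 hm hnc fun hodd => ?_⟩
  refine forbidden hD hx ?_ c2 hc.symm (oddAdj_symm hD hodd)
  rw [e2]
  have := hD.conj_mem x hx s
  rwa [inv_eq hD hst.1] at this

/-- The member acting at step `k`. -/
def act (u y : G) (k : ℕ) : G := if Even k then y else u

/-- The chain of squares. -/
def chain (u y x : G) : ℕ → G
  | 0 => x
  | k + 1 => (act u y k * chain u y x k) ^ 2

theorem act_add_two (u y : G) (k : ℕ) : act u y (k + 2) = act u y k := by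
  simp [act, Nat.even_add]

theorem act_add_even (u y : G) (k j : ℕ) : act u y (k + 2 * j) = act u y k := by
  simp [act, Nat.even_add]

theorem act_cases (u y : G) (k : ℕ) :
    (act u y k = y ∧ act u y (k + 1) = u) ∨ (act u y k = u ∧ act u y (k + 1) = y) := by
  by_cases h : Even k
  · left; simp [act, h, Nat.even_add_one]
  · right; simp [act, h, Nat.even_add_one]

section main

variable {u y x : G} (hD : Cfsg.IsRootInvolutionSet D) (huy : Cfsg.OddAdj D u y) (hx : x ∈ D)
  (hux : Commute u x) (hyx : orderOf (y * x) = 4)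

include hD huy hx hux hyx

theorem chain_inv (k : ℕ) : chain u y x k ∈ D ∧
    Commute (act u y (k + 1)) (chain u y x k) ∧ orderOf (act u y k * chain u y x k) = 4 := by
  induction k with
  | zero => exact ⟨hx, by simpa [act, chain] using hux, by simpa [act, chain] using hyx⟩
  | succ m ih =>
    have hadj : Cfsg.OddAdj D (act u y m) (act u y (m + 1)) := by
      rcases act_cases u y m with ⟨e1, e2⟩ | ⟨e1, e2⟩ <;> rw [e1, e2]
      · exact oddAdj_symm hD huy
      · exact huy
    obtain ⟨h1, h2, h3⟩ := step hD hadj ih.1 ih.2.1.eq ih.2.2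
    exact ⟨h1, by rw [act_add_two]; exact h2, h3⟩

theorem act_mem (k : ℕ) : act u y k ∈ D := by
  rcases act_cases u y k with ⟨e, -⟩ | ⟨e, -⟩ <;> rw [e]
  · exact huy.2.1
  · exact huy.1

theorem act_conj_self (k : ℕ) :
    act u y k * chain u y x k * act u y k = chain u y x k * chain u y x (k + 1) := by
  obtain ⟨h1, -, h3⟩ := chain_inv hD huy hx hux hyx k
  exact (four_facts hD (act_mem hD huy hx hux hyx k) h1 h3).2.2.2.2.1.symm

theorem act_conj_next (k : ℕ) :
    act u y (k + 1) * chain u y x k * act u y (k + 1) = chain u y x k := by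
  rw [(chain_inv hD huy hx hux hyx k).2.1.eq, mul_assoc,
    mul_self hD (act_mem hD huy hx hux hyx (k + 1)), mul_one]

theorem chain_commute_dist (m : ℕ) : ∀ k, Commute (chain u y x k) (chain u y x (k + m)) := by
  induction m using Nat.strong_induction_on with
  | _ m ih =>
    intro k
    match m with
    | 0 => exact Commute.refl _
    | 1 =>
      obtain ⟨h1, -, h3⟩ := chain_inv hD huy hx hux hyx k
      exact (four_facts hD (act_mem hD huy hx hux hyx k) h1 h3).2.2.1
    | j + 2 =>
      set s := act u y (k + (j + 1)) with hs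
      have ss : s * s = 1 := mul_self hD (act_mem hD huy hx hux hyx _)
      obtain ⟨h1, -, h3⟩ := chain_inv hD huy hx hux hyx (k + (j + 1))
      have e : chain u y x (k + (j + 2)) = chain u y x (k + (j + 1)) *
          (s * chain u y x (k + (j + 1)) * s) := by
        rw [act_conj_self hD huy hx hux hyx, ← mul_assoc, mul_self hD h1, one_mul]
        rfl
      rw [e]
      refine Commute.mul_right (ih (j + 1) (by omega) k) ?_
      have h4 : Commute (s * chain u y x k * s) (chain u y x (k + (j + 1))) := by
        rcases Nat.even_or_odd' (j + 1) with ⟨i, hi | hi⟩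
        · rw [show s = act u y k by rw [hs, hi, act_add_even], act_conj_self hD huy hx hux hyx]
          refine Commute.mul_left (ih (j + 1) (by omega) k) ?_
          have h5 := ih j (by omega) (k + 1)
          rwa [show k + 1 + j = k + (j + 1) by ring] at h5
        · rw [show s = act u y (k + 1) by
            rw [hs, hi, show k + (2 * i + 1) = k + 1 + 2 * i by ring, act_add_even],
            act_conj_next hD huy hx hux hyx]
          exact ih (j + 1) (by omega) k
      show chain u y x k * (s * chain u y x (k + (j + 1)) * s)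
        = s * chain u y x (k + (j + 1)) * s * chain u y x k
      have h6 := congrArg (fun g => s * g * s) h4.eq
      simp only [mul_assoc, ← mul_assoc s s, ss, one_mul, mul_one] at h6 ⊢
      exact h6

theorem chain_commute (k l : ℕ) : Commute (chain u y x k) (chain u y x l) := by
  rcases Nat.le_total k l with h | h
  · obtain ⟨m, rfl⟩ := Nat.exists_eq_add_of_le h
    exact chain_commute_dist hD huy hx hux hyx m k
  · obtain ⟨m, rfl⟩ := Nat.exists_eq_add_of_le h
    exact (chain_commute_dist hD huy hx hux hyx m l).symm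

omit hD huy hx hux hyx in
/-- The subgroup generated by the chain. -/
def chainGroup (u y x : G) : Subgroup G := Subgroup.closure (Set.range (chain u y x))

theorem group_commute {v w : G} (hv : v ∈ chainGroup u y x) (hw : w ∈ chainGroup u y x) :
    Commute v w := by
  have h : ∀ k, ∀ v ∈ chainGroup u y x, Commute (chain u y x k) v := by
    intro k v hv
    induction hv using Subgroup.closure_induction with
    | mem z hz => obtain ⟨l, rfl⟩ := hz; exact chain_commute hD huy hx hux hyx k l
    | one => exact Commute.one_right _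
    | mul _ _ _ _ ha hb => exact ha.mul_right hb
    | inv _ _ ha => exact ha.inv_right
  induction hv using Subgroup.closure_induction with
  | mem z hz => obtain ⟨l, rfl⟩ := hz; exact h l w hw
  | one => exact Commute.one_left _
  | mul _ _ _ _ ha hb => exact ha.mul_left hb
  | inv _ _ ha => exact ha.inv_left

theorem group_sq {v : G} (hv : v ∈ chainGroup u y x) : v * v = 1 := by
  induction hv using Subgroup.closure_induction with
  | mem z hz => obtain ⟨l, rfl⟩ := hz; exact mul_self hD (chain_inv hD huy hx hux hyx l).1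
  | one => exact one_mul 1
  | mul a b ha hb iha ihb =>
    rw [(group_commute hD huy hx hux hyx hb ha).mul_mul_mul_comm, iha, ihb, one_mul]
  | inv a _ ha => rw [← mul_inv_rev, ha, inv_one]

theorem group_conj {v : G} (hv : v ∈ chainGroup u y x) {s : G} (hs : s = u ∨ s = y) :
    s * v * s⁻¹ ∈ chainGroup u y x := by
  have sD : s ∈ D := by rcases hs with rfl | rfl; exacts [huy.1, huy.2.1]
  induction hv using Subgroup.closure_induction with
  | mem z hz =>
    obtain ⟨l, rfl⟩ := hz
    rw [inv_eq hD sD]
    rcases act_cases u y l with ⟨e1, e2⟩ | ⟨e1, e2⟩ <;> rcases hs with rfl | rfl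
    · have h := act_conj_next hD huy hx hux hyx l
      rw [e2] at h
      rw [h]
      exact Subgroup.subset_closure ⟨l, rfl⟩
    · have h := act_conj_self hD huy hx hux hyx l
      rw [e1] at h
      rw [h]
      exact mul_mem (Subgroup.subset_closure ⟨l, rfl⟩) (Subgroup.subset_closure ⟨l + 1, rfl⟩)
    · have h := act_conj_self hD huy hx hux hyx l
      rw [e1] at h
      rw [h]
      exact mul_mem (Subgroup.subset_closure ⟨l, rfl⟩) (Subgroup.subset_closure ⟨l + 1, rfl⟩)
    · have h := act_conj_next hD huy hx hux hyx l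
      rw [e2] at h
      rw [h]
      exact Subgroup.subset_closure ⟨l, rfl⟩
  | one => rw [mul_one, mul_inv_cancel]; exact one_mem _
  | mul a b _ _ iha ihb =>
    rw [show s * (a * b) * s⁻¹ = s * a * s⁻¹ * (s * b * s⁻¹) by group]; exact mul_mem iha ihb
  | inv a _ iha => rw [show s * a⁻¹ * s⁻¹ = (s * a * s⁻¹)⁻¹ by group]; exact inv_mem iha

theorem group_conj_pow {v : G} (hv : v ∈ chainGroup u y x) (k : ℕ) :
    (u * y) ^ k * v * ((u * y) ^ k)⁻¹ ∈ chainGroup u y x := by
  induction k with
  | zero => simpa using hv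
  | succ m ih =>
    have h := group_conj hD huy hx hux hyx (group_conj hD huy hx hux hyx ih (Or.inr rfl))
      (Or.inl rfl)
    rw [show (u * y) ^ (m + 1) * v * ((u * y) ^ (m + 1))⁻¹
      = u * (y * ((u * y) ^ m * v * ((u * y) ^ m)⁻¹) * y⁻¹) * u⁻¹ by
        rw [pow_succ', mul_inv_rev, mul_inv_rev u y]; simp only [mul_assoc]]
    exact h

theorem norm_mul {v w : G} (hv : v ∈ chainGroup u y x) (hw : w ∈ chainGroup u y x) (k : ℕ) :
    (v * (u * y)) ^ k * ((u * y) ^ k)⁻¹ ∈ chainGroup u y x ∧
      (v * w * (u * y)) ^ k * ((u * y) ^ k)⁻¹ =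
        (v * (u * y)) ^ k * ((u * y) ^ k)⁻¹ * ((w * (u * y)) ^ k * ((u * y) ^ k)⁻¹) := by
  have step' : ∀ (z : G) (m : ℕ), (z * (u * y)) ^ (m + 1) * ((u * y) ^ (m + 1))⁻¹ =
      (z * (u * y)) ^ m * ((u * y) ^ m)⁻¹ * ((u * y) ^ m * z * ((u * y) ^ m)⁻¹) := by
    intro z m
    rw [pow_succ, pow_succ]
    group
  have hmem : ∀ z ∈ chainGroup u y x, ∀ m : ℕ,
      (z * (u * y)) ^ m * ((u * y) ^ m)⁻¹ ∈ chainGroup u y x := by
    intro z hz m
    induction m with
    | zero => simp
    | succ m ih => rw [step']; exact mul_mem ih (group_conj_pow hD huy hx hux hyx hz m)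
  refine ⟨hmem v hv k, ?_⟩
  induction k with
  | zero => simp
  | succ m ih =>
    rw [step', step', step', ih,
      show (u * y) ^ m * (v * w) * ((u * y) ^ m)⁻¹ =
        (u * y) ^ m * v * ((u * y) ^ m)⁻¹ * ((u * y) ^ m * w * ((u * y) ^ m)⁻¹) by group]
    exact (group_commute hD huy hx hux hyx (hmem w hw m)
      (group_conj_pow hD huy hx hux hyx hv m)).mul_mul_mul_comm _ _

omit hD huy hx hux hyx in
/-- The norm map of `u y`. -/
noncomputable def norm (u y v : G) : G := (v * (u * y)) ^ orderOf (u * y)

theorem norm_eq_mul {v w : G} (hv : v ∈ chainGroup u y x) (hw : w ∈ chainGroup u y x) :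
    norm u y (v * w) = norm u y v * norm u y w := by
  have := (norm_mul hD huy hx hux hyx hv hw (orderOf (u * y))).2
  simpa [pow_orderOf_eq_one, norm] using this

theorem norm_start (huxD : u * x ∈ D) : norm u y x = 1 := by
  have hmem : norm u y x ∈ chainGroup u y x := by
    have hx0 : x ∈ chainGroup u y x := Subgroup.subset_closure ⟨0, rfl⟩
    have := (norm_mul hD huy hx hux hyx hx0 hx0 (orderOf (u * y))).1
    simpa [pow_orderOf_eq_one, norm] using this
  have hxuD : x * u ∈ D := by rw [← hux.eq]; exact huxD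
  have e : x * (x * u) = u := by rw [← mul_assoc, mul_self hD hx, one_mul]
  have hodd : Odd (orderOf (x * u * y)) := by
    rcases triple hD hx hxuD (by rw [e]; exact huy.1)
      (Commute.mul_right (Commute.refl x) hux.symm).eq huy.2.1 (by rw [e]; exact huy.2.2.1)
      (by rw [e]; exact huy.2.2.2) with ⟨-, h⟩ | ⟨-, h⟩
    · rw [← orderOf_mul_comm hD huy.2.1 hx] at hyx
      rw [hyx] at h
      exact absurd h (by decide)
    · exact h
  have h2 : (x * u * y) ^ (orderOf (u * y) * 2) = 1 := by
    rw [pow_mul, mul_assoc x u y, pow_two]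
    exact group_sq hD huy hx hux hyx hmem
  have hd := (Nat.Coprime.dvd_of_dvd_mul_right (Nat.coprime_two_right.2 hodd)
    (orderOf_dvd_of_pow_eq_one h2))
  show (x * (u * y)) ^ orderOf (u * y) = 1
  rw [← mul_assoc]
  exact orderOf_dvd_iff_pow_eq_one.1 hd

theorem norm_chain (huxD : u * x ∈ D) (k : ℕ) : norm u y (chain u y x k) = 1 := by
  induction k with
  | zero => exact norm_start hD huy hx hux hyx huxD
  | succ m ih =>
    have hm : chain u y x m ∈ chainGroup u y x := Subgroup.subset_closure ⟨m, rfl⟩
    set c := chain u y x m with hc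
    set s := act u y m with hs
    have sD : s ∈ D := act_mem hD huy hx hux hyx m
    have hcD : c ∈ D := (chain_inv hD huy hx hux hyx m).1
    have e : chain u y x (m + 1) = c * (s * c * s) := by
      rw [act_conj_self hD huy hx hux hyx, ← mul_assoc, mul_self hD hcD, one_mul]
    have hconj : s * c * s ∈ chainGroup u y x := by
      rw [act_conj_self hD huy hx hux hyx]
      exact mul_mem hm (Subgroup.subset_closure ⟨m + 1, rfl⟩)
    rw [e, norm_eq_mul hD huy hx hux hyx hm hconj, ih, one_mul]
    have hinv : s * (u * y) = (u * y)⁻¹ * s := by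
      rw [mul_inv_rev, inv_eq hD huy.1, inv_eq hD huy.2.1]
      rcases act_cases u y m with ⟨e1, -⟩ | ⟨e1, -⟩ <;> rw [hs, e1]
      · simp only [mul_assoc]
      · simp only [mul_assoc, mul_self hD huy.1, ← mul_assoc u u, one_mul, mul_one]
    have e2 : s * c * s * (u * y) = s * (c * (u * y)⁻¹) * s⁻¹ := by
      rw [inv_eq hD sD, mul_assoc (s * c), hinv]
      simp only [mul_assoc]
    have e3 : c * (u * y)⁻¹ = ((u * y) * (c * (u * y)) * (u * y)⁻¹)⁻¹ := by
      rw [show u * y * (c * (u * y)) * (u * y)⁻¹ = u * y * c by group, mul_inv_rev _ c,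
        inv_eq hD hcD]
    have hn : (c * (u * y)) ^ orderOf (u * y) = 1 := ih
    show (s * c * s * (u * y)) ^ orderOf (u * y) = 1
    rw [e2, conj_pow, e3, inv_pow, conj_pow, hn]
    group

theorem chain_cancel (huxD : u * x ∈ D) {k l : ℕ} (hp : act u y k = act u y l)
    (hp' : act u y (k + 1) = act u y (l + 1))
    (h : chain u y x (k + 1) = chain u y x (l + 1)) : chain u y x k = chain u y x l := by
  set a := chain u y x k with ha
  set b := chain u y x l with hb
  have haN : a ∈ chainGroup u y x := Subgroup.subset_closure ⟨k, rfl⟩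
  have hbN : b ∈ chainGroup u y x := Subgroup.subset_closure ⟨l, rfl⟩
  have hc1 : Commute (act u y (k + 1)) (a * b) := by
    refine Commute.mul_right (chain_inv hD huy hx hux hyx k).2.1 ?_
    rw [hp']
    exact (chain_inv hD huy hx hux hyx l).2.1
  set s := act u y k with hs
  have ss : s * s = 1 := mul_self hD (act_mem hD huy hx hux hyx k)
  have hc0 : Commute s (a * b) := by
    have e : s * (a * b) * s = a * b := by
      rw [show s * (a * b) * s = s * a * s * (s * b * s) by
        simp only [mul_assoc, ← mul_assoc s s, ss, one_mul]]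
      have h1 := act_conj_self hD huy hx hux hyx k
      have h2 := act_conj_self hD huy hx hux hyx l
      rw [← hp] at h2
      rw [h1, h2, ← ha, ← hb,
        (group_commute hD huy hx hux hyx (Subgroup.subset_closure ⟨k + 1, rfl⟩)
          hbN).mul_mul_mul_comm, h, mul_self hD (chain_inv hD huy hx hux hyx (l + 1)).1, mul_one]
    show s * (a * b) = a * b * s
    conv_rhs => rw [← e, mul_assoc, ss, mul_one]
  have hg : Commute (u * y) (a * b) := by
    rcases act_cases u y k with ⟨e1, e2⟩ | ⟨e1, e2⟩
    · rw [hs, e1] at hc0; rw [e2] at hc1; exact hc1.mul_left hc0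
    · rw [hs, e1] at hc0; rw [e2] at hc1; exact hc0.mul_left hc1
  have hn : norm u y (a * b) = 1 := by
    rw [norm_eq_mul hD huy hx hux hyx haN hbN, norm_chain hD huy hx hux hyx huxD,
      norm_chain hD huy hx hux hyx huxD, one_mul]
  rw [norm, hg.symm.mul_pow, pow_orderOf_eq_one, mul_one] at hn
  have h2 : (a * b) ^ 2 = 1 := by
    rw [pow_two]; exact group_sq hD huy hx hux hyx (mul_mem haN hbN)
  have h1 : a * b = 1 := by
    rw [← orderOf_eq_one_iff]
    exact Nat.eq_one_of_dvd_coprimes (Nat.coprime_two_right.2 huy.2.2.2)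
      (orderOf_dvd_of_pow_eq_one hn) (orderOf_dvd_of_pow_eq_one h2)
  exact (eq_inv_of_mul_eq_one_left h1).trans (inv_eq hD (chain_inv hD huy hx hux hyx l).1)

/-- The chain returns to its start. -/
theorem periodic [Finite G] (huxD : u * x ∈ D) :
    ∃ k, chain u y x (2 * k + 2) = x := by
  have key : ∀ (i d : ℕ), chain u y x i = chain u y x (i + 2 * d) →
      chain u y x 0 = chain u y x (2 * d) := by
    intro i
    induction i with
    | zero => intro d h; simpa using h
    | succ m ih =>
      intro d h
      refine ih d (chain_cancel hD huy hx hux hyx huxD (act_add_even u y m d).symm ?_ ?_)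
      · rw [show m + 2 * d + 1 = m + 1 + 2 * d by ring, act_add_even]
      · rw [show m + 2 * d + 1 = m + 1 + 2 * d by ring]; exact h
  obtain ⟨i, j, hne, he⟩ := Finite.exists_ne_map_eq_of_infinite (fun i : ℕ => chain u y x (2 * i))
  rcases Nat.lt_or_gt_of_ne hne with h | h
  · obtain ⟨d, rfl⟩ := Nat.exists_eq_add_of_lt h
    refine ⟨d, ((key (2 * i) (d + 1) ?_).trans ?_).symm⟩
    · rw [show 2 * i + 2 * (d + 1) = 2 * (i + d + 1) by ring]; exact he
    · rw [show 2 * (d + 1) = 2 * d + 2 by ring]
  · obtain ⟨d, rfl⟩ := Nat.exists_eq_add_of_lt h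
    refine ⟨d, ((key (2 * j) (d + 1) ?_).trans ?_).symm⟩
    · rw [show 2 * j + 2 * (d + 1) = 2 * (j + d + 1) by ring]; exact he.symm
    · rw [show 2 * (d + 1) = 2 * d + 2 by ring]

end main

end CfsgLib.RootInvol
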