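import Mathlib

/-!
# Additive maps of a finite field of characteristic two as combinations of automorphisms
-/

set_option autoImplicit false
set_option linter.style.haveILetI false

namespace CfsgLib.RootSub.FieldEnd

variable {F : Type*} [Field F] [Fintype F] [CharP F 2]

theorem finite_aut : Finite (F ≃+* F) :=
  Finite.of_injective (fun σ => (σ : F → F)) fun _ _ h => RingEquiv.ext (congrFun h)

theorem li : LinearIndependent F (fun σ : F ≃+* F => ((σ : F →+* F) : F → F)) := by
  have h := linearIndependent_monoidHom F F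
  exact h.comp (fun σ : F ≃+* F => ((σ : F →+* F) : F →* F))
    fun σ τ e => RingEquiv.ext fun x => DFunLike.congr_fun e x

theorem card_endo : Nat.card (F →+ F) = Nat.card F ^ Nat.card (F ≃+* F) := by
  haveI : Fact (Nat.Prime 2) := ⟨Nat.prime_two⟩
  letI : Algebra (ZMod 2) F := ZMod.algebra F 2
  haveI : Module.Finite (ZMod 2) F := Module.Finite.of_finite
  let b := Module.finBasis (ZMod 2) F
  have e1 : (F →+ F) ≃ (Fin (Module.finrank (ZMod 2) F) → F) :=
    { toFun := fun f i => f (b i)
      invFun := fun v => (b.constr (ZMod 2) v).toAddMonoidHom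
      left_inv := fun f => by
        have : b.constr (ZMod 2) (fun i => f (b i)) = f.toZModLinearMap 2 :=
          b.ext fun i => by rw [Module.Basis.constr_basis]; rfl
        refine AddMonoidHom.ext fun x => ?_
        show b.constr (ZMod 2) (fun i => f (b i)) x = f x
        rw [this]; rfl
      right_inv := fun v => funext fun i => b.constr_basis (ZMod 2) v i }
  have e2 : (F ≃+* F) ≃ Gal(F/ZMod 2) :=
    { toFun := fun σ => AlgEquiv.ofRingEquiv (f := σ) fun r =>
        RingHom.congr_fun (RingHom.ext_zmod ((σ : F →+* F).comp (algebraMap (ZMod 2) F)) (algebraMap (ZMod 2) F)) r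
      invFun := fun σ => σ.toRingEquiv
      left_inv := fun σ => RingEquiv.ext fun x => rfl
      right_inv := fun σ => AlgEquiv.ext fun x => rfl }
  rw [Nat.card_congr e1, Nat.card_fun, Nat.card_fin, Nat.card_congr e2, IsGalois.card_aut_eq_finrank]

theorem exists_coeff [Fintype (F ≃+* F)] (f : F →+ F) :
    ∃ c : (F ≃+* F) → F, ∀ x : F, f x = ∑ σ, c σ * σ x := by
  let T : ((F ≃+* F) → F) → (F →+ F) := fun c => ∑ σ : F ≃+* F, (AddMonoidHom.mulLeft (c σ)).comp (σ : F →+* F).toAddMonoidHom
  have hT : ∀ c x, T c x = ∑ σ, c σ * σ x := fun c x => by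
    simp [T, AddMonoidHom.finsetSum_apply]
  haveI : Finite (F →+ F) := Finite.of_injective (fun f => (f : F → F)) DFunLike.coe_injective
  have hinj : Function.Injective T := by
    intro c d h
    funext σ
    refine sub_eq_zero.1 (Fintype.linearIndependent_iff.1 li (fun τ => c τ - d τ) ?_ σ)
    funext x
    simp only [Finset.sum_apply, Pi.smul_apply, smul_eq_mul, Pi.zero_apply, sub_mul, Finset.sum_sub_distrib,
      RingEquiv.coe_toRingHom]
    rw [← hT, ← hT, h, sub_self]
  have hbij := (Nat.bijective_iff_injective_and_card T).2 ⟨hinj, by rw [card_endo, Nat.card_fun]⟩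
  obtain ⟨c, hc⟩ := hbij.2 f
  exact ⟨c, fun x => by rw [← hc, hT]⟩

theorem exists_coeff₂ [Fintype (F ≃+* F)] (B : F →+ F →+ F) :
    ∃ c : (F ≃+* F) × (F ≃+* F) → F, ∀ x y : F, B x y = ∑ p, c p * (p.1 x * p.2 y) := by
  choose c hc using fun y => exists_coeff (B.flip y)
  have huniq : ∀ d e : (F ≃+* F) → F, (∀ x : F, ∑ σ, d σ * σ x = ∑ σ, e σ * σ x) → d = e := by
    intro d e h
    funext σ
    refine sub_eq_zero.1 (Fintype.linearIndependent_iff.1 li (fun τ => d τ - e τ) ?_ σ)
    funext x
    simp only [Finset.sum_apply, Pi.smul_apply, smul_eq_mul, Pi.zero_apply, sub_mul, Finset.sum_sub_distrib,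
      RingEquiv.coe_toRingHom]
    rw [h x, sub_self]
  have hadd : ∀ σ y z, c (y + z) σ = c y σ + c z σ := by
    intro σ y z
    refine congrFun (huniq (c (y + z)) (fun τ => c y τ + c z τ) fun x => ?_) σ
    simp only [add_mul, Finset.sum_add_distrib, ← hc, map_add, AddMonoidHom.add_apply]
  choose d hd using fun σ => exists_coeff (AddMonoidHom.mk' (fun y => c y σ) (hadd σ))
  refine ⟨fun p => d p.1 p.2, fun x y => ?_⟩
  rw [show B x y = B.flip y x from rfl, hc y x, Fintype.sum_prod_type]
  refine Finset.sum_congr rfl fun σ _ => ?_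
  rw [show c y σ = _ from hd σ y, Finset.sum_mul]
  exact Finset.sum_congr rfl fun τ _ => by ring

theorem exists_quadratic [Fintype (F ≃+* F)] (q : F → F)
    (hq : ∀ x y z : F, q (x + y + z) + q (x + y) + q (x + z) + q (y + z) + q x + q y + q z = 0) :
    ∃ c : (F ≃+* F) × (F ≃+* F) → F, ∀ x : F, q x = ∑ p, c p * (p.1 x * p.2 x) := by
  classical
  haveI : Fact (Nat.Prime 2) := ⟨Nat.prime_two⟩
  letI : Algebra (ZMod 2) F := ZMod.algebra F 2
  haveI : Module.Finite (ZMod 2) F := Module.Finite.of_finite
  let e := Module.finBasis (ZMod 2) F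
  have h2 : ∀ u : F, u + u = 0 := fun u => CharTwo.add_self_eq_zero u
  have hq0 : q 0 = 0 := by
    have := hq 0 0 0
    simp only [add_zero] at this
    linear_combination this - 3 * h2 (q 0)
  let P : F → F → F := fun x y => q (x + y) + q x + q y
  have hP : ∀ x y z, P (x + y) z = P x z + P y z := by
    intro x y z
    simp only [P]
    linear_combination hq x y z - h2 (q (x + z)) - h2 (q (y + z)) - h2 (q x) - h2 (q y) - h2 (q z)
  have hPs : ∀ x y, P x y = P y x := fun x y => by simp only [P, add_comm x y]; ring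
  let B : F →+ F →+ F := AddMonoidHom.mk' (fun x => AddMonoidHom.mk' (fun y => P x y)
    (fun y z => by rw [hPs x (y + z), hP, hPs y x, hPs z x])) (fun x y => AddMonoidHom.ext fun z => hP x y z)
  let v : Fin (Module.finrank (ZMod 2) F) → Fin (Module.finrank (ZMod 2) F) → F := fun i j =>
    if i = j then q (e i) else if i < j then P (e i) (e j) else 0
  let L := e.constr (ZMod 2) fun i => e.constr (ZMod 2) (v i)
  let B' : F →+ F →+ F := AddMonoidHom.mk' (fun x => (L x).toAddMonoidHom)
    (fun x y => by rw [map_add]; rfl)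
  have hB' : ∀ i j, B' (e i) (e j) = v i j := fun i j => by
    show L (e i) (e j) = v i j
    simp only [L, Module.Basis.constr_basis]
  obtain ⟨c, hc⟩ := exists_coeff₂ B'
  refine ⟨c, fun x => ?_⟩
  rw [← hc x x]
  let d : F → F := fun x => q x + B' x x
  have hdP : ∀ x y, d (x + y) + d x + d y = P x y + B' x y + B' y x := by
    intro x y
    simp only [d, P, map_add, AddMonoidHom.add_apply]
    linear_combination h2 (B' x x) + h2 (B' y y)
  have hzero : ∀ x y, P x y + B' x y + B' y x = 0 := by
    have hij : ∀ i j, P (e i) (e j) + B' (e i) (e j) + B' (e j) (e i) = 0 := by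
      intro i j
      rw [hB', hB']
      simp only [v]
      rcases lt_trichotomy i j with h | rfl | h
      · rw [if_neg h.ne, if_pos h, if_neg h.ne', if_neg h.asymm, add_zero, h2]
      · rw [if_pos rfl]
        show q (e i + e i) + q (e i) + q (e i) + q (e i) + q (e i) = 0
        rw [h2, hq0]
        linear_combination 2 * h2 (q (e i))
      · rw [if_neg h.ne', if_neg h.asymm, if_neg h.ne, if_pos h, add_zero, hPs, h2]
    let C : F →+ F →+ F := B + B' + B'.flip
    have hC : C.toZModLinearMap 2 = 0 := by
      refine e.ext fun i => ?_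
      refine AddMonoidHom.toZModLinearMap_injective 2 ?_
      refine e.ext fun j => ?_
      exact hij i j
    intro x y
    exact DFunLike.congr_fun (LinearMap.congr_fun hC x) y
  have hdadd : ∀ x y, d (x + y) = d x + d y := fun x y => by
    linear_combination hdP x y + hzero x y - h2 (d x) - h2 (d y)
  have hd0 : (AddMonoidHom.mk' d hdadd).toZModLinearMap 2 = 0 := by
    refine e.ext fun i => ?_
    show q (e i) + B' (e i) (e i) = 0
    rw [hB']
    simp [v, h2]
  have := LinearMap.congr_fun hd0 x
  exact add_eq_zero_iff_eq_neg.1 this |>.trans (CharTwo.neg_eq _)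

end CfsgLib.RootSub.FieldEnd
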