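import Cfsg.Agent.S5045
import Cfsg.Agent.S5046
import Cfsg.Agent.S5047
import Cfsg.Agent.Lib.Invol.Basic

/-!
# Non-degenerate classes of root involutions: generation from a connected product graph

If the graph of commuting pairs with product in `D` is connected then the odd graph is connected, the
product partners of a member and one odd partner generate the group, and a weak TI-subset generates an
abelian subgroup.
-/

set_option autoImplicit false

namespace CfsgLib.RootInvol

variable {G : Type*} [Group G] {D : Set G}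

/-- The square of a product of order four is a product partner of each factor. -/
theorem sq_mem_productPartners (hD : Cfsg.IsRootInvolutionSet D) {s x : G} (hs : s ∈ D) (hx : x ∈ D)
    (h : orderOf (s * x) = 4) : (s * x) ^ 2 ∈ Cfsg.productPartners D x := by
  obtain ⟨hm, -, c2, -, e2, -⟩ := four_facts hD hs hx h
  have hxm : x * (s * x) ^ 2 ∈ D := by
    rw [e2]
    have := hD.conj_mem x hx s
    rwa [inv_eq hD hs] at this
  refine ⟨⟨hm, c2.eq.symm, fun e => ?_⟩, c2.eq ▸ hxm⟩
  rw [e, mul_self hD hx] at hxm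
  have := hD.orderOf_eq 1 hxm
  rw [orderOf_one] at this
  exact absurd this (by decide)

/-- The conjugation in the braid lemma. -/
theorem braid_conj (hD : Cfsg.IsRootInvolutionSet D) {d x p q : G} (hd : d ∈ D) (hx : x ∈ D)
    (hp : p ∈ D) (hq : q ∈ D) (h1 : (x * p) ^ 2 = d) (h2 : (d * q) ^ 2 = x) :
    p * q * d * (p * q)⁻¹ = x := by
  obtain ⟨-, -, cpd, exd, -, -⟩ := four_facts hD hx hp (four_of_sq hD hx hp hd h1)
  obtain ⟨-, cdx, -, edx, -, -⟩ := four_facts hD hd hq (four_of_sq hD hd hq hx h2)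
  rw [h1] at cpd exd
  rw [h2] at cdx edx
  have sp := mul_self hD hp
  rw [mul_inv_rev, inv_eq hD hp, inv_eq hD hq,
    show p * q * d * (q * p) = p * (q * d * q) * p by simp only [mul_assoc], ← edx,
    show p * (d * x) * p = p * d * p * (p * x * p) by
      simp only [mul_assoc, ← mul_assoc p p, sp, one_mul],
    ← exd, cpd.eq, mul_assoc d p p, sp, mul_one, ← mul_assoc, cdx.eq, mul_assoc,
    mul_self hD hd, mul_one]

/-- Two members joined by a product of odd order are conjugate in any subgroup containing them. -/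
theorem conj_of_odd_mem (hD : Cfsg.IsRootInvolutionSet D) {H : Subgroup G} {a b : G} (ha : a ∈ D)
    (hb : b ∈ D) (h : Odd (orderOf (a * b))) (haH : a ∈ H) (hbH : b ∈ H) :
    ∃ g ∈ H, b = g * a * g⁻¹ := by
  obtain ⟨g, hg, hgb⟩ :=
    CfsgLib.Invol.exists_conj_eq_of_odd (hD.orderOf_eq a ha) (hD.orderOf_eq b hb) h
  exact ⟨g, Subgroup.zpowers_le.2 (H.mul_mem haH hbH) hg, hgb.symm⟩

/-- Every member of a non-degenerate class has an odd partner. -/
theorem exists_oddAdj_of_class (hD : Cfsg.IsNondegenerateRootInvolutionSet D)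
    (hcl : Cfsg.IsRootInvolutionClass D) {a : G} (ha : a ∈ D) : ∃ y, Cfsg.OddAdj D a y := by
  obtain ⟨u, hu, v, hv, hne, hodd⟩ := hD.2.2.1
  obtain ⟨g, rfl⟩ := hcl.2.2 u hu a ha
  exact ⟨_, adj_conj' hD.1 ⟨hu, hv, hne, hodd⟩ g⟩

/-- Product partners lie in the same component of the odd graph. -/
theorem oddAdj_connected [Finite G] (hD : Cfsg.IsNondegenerateRootInvolutionSet D)
    (hcl : Cfsg.IsRootInvolutionClass D) (hE : Cfsg.IsConnectedSet (Cfsg.ProdAdj D) D) :
    Cfsg.IsConnectedSet (Cfsg.OddAdj D) D := by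
  intro a ha b hb
  induction hE a ha b hb with
  | refl => exact Relation.ReflTransGen.refl
  | @tail c e _ hce ih =>
    obtain ⟨hc, he, hne, hcomm, hceD⟩ := hce
    refine (ih hc).trans ?_
    obtain ⟨y, hy⟩ := exists_oddAdj_of_class hD hcl hc
    have hcomp := (Cfsg.Agent.S5045.result hD.1).2.2.2.2.2 c hc
      ⟨y, ⟨hy.2.1, Relation.ReflTransGen.single hy⟩, hy.2.2.1.symm⟩
      (show e ∈ Cfsg.productPartners D c from
        ⟨⟨he, hcomm.symm, hne.symm⟩, by rw [← hcomm]; exact hceD⟩)
    rcases hcomp with h | h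
    · exact h.2
    · obtain ⟨z, hz⟩ := exists_oddAdj_of_class hD hcl he
      exact absurd hz (h.2 z).1

/-- A member with its odd partner and product partners in `H` sends them all to its product partners. -/
theorem exists_conj_productPartner [Finite G] (hD : Cfsg.IsRootInvolutionSet D)
    (hO : Cfsg.IsConnectedSet (Cfsg.OddAdj D) D) {H : Subgroup G} {a b y : G} (haH : a ∈ H)
    (hR : Cfsg.productPartners D a ⊆ H) (hy : Cfsg.OddAdj D a y) (hyH : y ∈ H)
    (hb : b ∈ Cfsg.productPartners D a) : ∃ g ∈ H, b = g * a * g⁻¹ := by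
  have hbH : b ∈ H := hR hb
  obtain ⟨⟨hbD, hba, hbne⟩, hbaD⟩ := hb
  have ha : a ∈ D := hy.1
  have via : Cfsg.OddAdj D b y → ∃ g ∈ H, b = g * a * g⁻¹ := fun hby => by
    obtain ⟨g, hg, hgy⟩ := conj_of_odd_mem hD ha hy.2.1 hy.2.2.2 haH hyH
    obtain ⟨k, hk, hkb⟩ :=
      conj_of_odd_mem hD hy.2.1 hbD (oddAdj_symm hD hby).2.2.2 hyH hbH
    exact ⟨k * g, H.mul_mem hk hg, by rw [hkb, hgy]; group⟩
  by_cases hby : Cfsg.OddAdj D b y
  · exact via hby
  by_cases hbE : b ∈ Cfsg.sameCommutingClass D a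
  · exfalso
    rw [Cfsg.Agent.S5046.result hD hO ha] at hbE
    have hmem : y ∈ Cfsg.commutingMembers D b ∪ Cfsg.fourPartners D b := by
      by_cases hc : b * y = y * b
      · exact Or.inl ⟨hy.2.1, hc.symm⟩
      · exact Or.inr ⟨hy.2.1, four_of hD hbD hy.2.1 hc hby⟩
    rw [← hbE.2] at hmem
    rcases hmem with ⟨-, h1⟩ | ⟨-, h1⟩
    · exact commute_not_odd hD ha hy.2.1 hy.2.2.1 h1.symm hy.2.2.2
    · have h2 := hy.2.2.2
      rw [h1] at h2
      exact absurd h2 (by decide)
  have haP : a ∈ Cfsg.productPartners D b := ⟨⟨ha, hba.symm, hbne.symm⟩, by rw [← hba]; exact hbaD⟩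
  obtain ⟨x, ⟨hx, h4⟩, h3⟩ := Cfsg.Agent.S5047.result hD hO hbD haP fun h => hbE ⟨hbD, h.2.symm⟩
  have h4' : orderOf (x * a) = 4 := by rw [orderOf_mul_comm hD ha hx]; exact h4
  have hm := sq_mem_productPartners hD hx ha h4'
  have hpr := propagate hD hbD hx ha h3 hba hbaD h4'
  have hnc : b * y ≠ y * b := fun h => forbidden hD hbD hbaD hba h hy
  have hyb : orderOf (y * b) = 4 := by
    rw [orderOf_mul_comm hD hbD hy.2.1]; exact four_of hD hbD hy.2.1 hnc hby
  have habD : a * b ∈ D := by rw [← hba]; exact hbaD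
  obtain ⟨k, hk⟩ := periodic hD hy hbD hba.symm hyb habD
  obtain ⟨hqD, -, -⟩ := chain_inv hD hy hbD hba.symm hyb (2 * k + 1)
  have hact : act a y (2 * k + 1) = a := by simp [act]
  rw [chain, hact] at hk
  have hchain : ∀ j, chain a y b j ∈ H := by
    intro j
    induction j with
    | zero => exact hbH
    | succ j ih =>
      refine H.pow_mem (H.mul_mem ?_ ih) 2
      rcases act_cases a y j with ⟨e, -⟩ | ⟨e, -⟩ <;> rw [e]
      exacts [hyH, haH]
  refine ⟨(x * a) ^ 2 * chain a y b (2 * k + 1), H.mul_mem (hR hm) (hchain _), ?_⟩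
  exact (braid_conj hD ha hbD hm.1.1 hqD hpr hk).symm

/-- A member, its product partners and one odd partner generate. -/
theorem closure_productPartners_eq_top [Finite G] (hD : Cfsg.IsNondegenerateRootInvolutionSet D)
    (hcl : Cfsg.IsRootInvolutionClass D) (hE : Cfsg.IsConnectedSet (Cfsg.ProdAdj D) D) {d x : G}
    (hd : d ∈ D) (hx : x ∈ Cfsg.oddPartners D d) :
    Subgroup.closure (Cfsg.productPartners D d ∪ {x}) = ⊤ := by
  set H := Subgroup.closure (Cfsg.productPartners D d ∪ {x}) with hH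
  have hO := oddAdj_connected hD hcl hE
  obtain ⟨hxD, hxd, hodd⟩ := hx
  -- `d` is a product of two product partners
  have hdH : d ∈ H := by
    obtain e | ⟨c, ⟨-, hc, hdc, hcomm, hdcD⟩, -⟩ := (hE d hd x hxD).cases_head
    · exact absurd e.symm hxd
    have h1 : c ∈ H := Subgroup.subset_closure (Or.inl ⟨⟨hc, hcomm.symm, hdc.symm⟩,
      by rw [← hcomm]; exact hdcD⟩)
    have e : d * c * d = c := by rw [hcomm, mul_assoc, mul_self hD.1 hd, mul_one]
    have h2 : d * c ∈ H := Subgroup.subset_closure (Or.inl ⟨⟨hdcD,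
      by rw [e, ← mul_assoc, mul_self hD.1 hd, one_mul], fun e' => ?_⟩, by rw [e]; exact hc⟩)
    · have := H.mul_mem h2 (H.inv_mem h1)
      rwa [mul_inv_cancel_right] at this
    · rw [mul_eq_left] at e'
      have := hD.1.orderOf_eq c hc
      rw [e', orderOf_one] at this
      exact absurd this (by decide)
  have key : ∀ e, Relation.ReflTransGen (Cfsg.ProdAdj D) d e →
      e ∈ H ∧ Cfsg.productPartners D e ⊆ H ∧ ∃ y ∈ H, Cfsg.OddAdj D e y := by
    intro e he
    induction he with
    | refl => exact ⟨hdH, fun z hz => Subgroup.subset_closure (Or.inl hz), x,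
        Subgroup.subset_closure (Or.inr rfl), hd, hxD, hxd.symm, hodd⟩
    | @tail c e _ hce ih =>
      obtain ⟨hcH, hR, y, hyH, hy⟩ := ih
      obtain ⟨-, he, hne, hcomm, hceD⟩ := hce
      obtain ⟨g, hg, rfl⟩ := exists_conj_productPartner hD.1 hO hcH hR hy hyH
        (show e ∈ Cfsg.productPartners D c from
          ⟨⟨he, hcomm.symm, hne.symm⟩, by rw [← hcomm]; exact hceD⟩)
      refine ⟨H.mul_mem (H.mul_mem hg hcH) (H.inv_mem hg), ?_, _,
        H.mul_mem (H.mul_mem hg hyH) (H.inv_mem hg), adj_conj' hD.1 hy g⟩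
      rintro z ⟨⟨hz, hzc, hzne⟩, hzD⟩
      have h1 : g⁻¹ * z * g ∈ Cfsg.productPartners D c := by
        refine ⟨⟨?_, ?_, fun e => hzne (by rw [← e]; group)⟩, ?_⟩
        · have := hD.1.conj_mem z hz g⁻¹
          rwa [inv_inv] at this
        · calc g⁻¹ * z * g * c = g⁻¹ * (z * (g * c * g⁻¹)) * g := by group
            _ = g⁻¹ * (g * c * g⁻¹ * z) * g := by rw [hzc]
            _ = c * (g⁻¹ * z * g) := by group
        · have := hD.1.conj_mem _ hzD g⁻¹
          rwa [show g⁻¹ * (z * (g * c * g⁻¹)) * g⁻¹⁻¹ = g⁻¹ * z * g * c by group] at this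
      have := H.mul_mem (H.mul_mem hg (hR h1)) (H.inv_mem hg)
      rwa [show g * (g⁻¹ * z * g) * g⁻¹ = z by group] at this
  rw [eq_top_iff, ← hD.1.generates, Subgroup.closure_le]
  exact fun e he => (key e (hE d hd e he)).1

/-- A weak TI-subset generates an abelian subgroup. -/
theorem weakTI_commutative [Finite G] (hD : Cfsg.IsNondegenerateRootInvolutionSet D)
    (hcl : Cfsg.IsRootInvolutionClass D) (hE : Cfsg.IsConnectedSet (Cfsg.ProdAdj D) D) {T : Set G}
    (hT : Cfsg.IsWeakTISubsetOfElements D T) : IsMulCommutative ↥(Subgroup.closure T) := by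
  obtain ⟨hTD, -, hne, hTI⟩ := hT
  have hO := oddAdj_connected hD hcl hE
  have hD' := hD.1
  -- a member commuting with a member of `T` normalises `T`
  have hN : ∀ e ∈ D, ∀ t ∈ T, e * t = t * e → e ∈ Subgroup.normalizer T := by
    intro e he t ht hc
    have himg : e * t * e⁻¹ = t := by rw [hc, mul_inv_cancel_right]
    rcases hTI e he with h | h
    · refine Subgroup.mem_set_normalizer_iff.2 fun n =>
        ⟨fun hn => h ▸ Set.mem_image_of_mem _ hn, fun hn => ?_⟩
      have h1 : e * (e * n * e⁻¹) * e⁻¹ ∈ T := h ▸ Set.mem_image_of_mem _ hn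
      rwa [inv_eq hD' he, show e * (e * n * e) * e = e * e * n * (e * e) by group,
        mul_self hD' he, one_mul, mul_one] at h1
    · exact absurd ht (Set.disjoint_left.1 h ⟨t, ht, himg⟩)
  -- no member of `T` has its product partners and an odd partner in the normaliser
  have hbad : ∀ a ∈ T, ∀ y ∈ Cfsg.oddPartners D a, y ∉ Subgroup.normalizer T := by
    intro a ha y hy hyN
    refine hne (Set.Subset.antisymm hTD fun e he => ?_)
    obtain ⟨g, rfl⟩ := hcl.2.2 a (hTD ha) e he
    have hle : Subgroup.closure (Cfsg.productPartners D a ∪ {y}) ≤ Subgroup.normalizer T := by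
      rw [Subgroup.closure_le]
      rintro z (hz | rfl)
      · exact hN z hz.1.1 a ha hz.1.2.1
      · exact hyN
    rw [closure_productPartners_eq_top hD hcl hE (hTD ha) hy] at hle
    exact (Subgroup.mem_set_normalizer_iff.1 (hle (Subgroup.mem_top g)) a).1 ha
  have hcomm : ∀ a ∈ T, ∀ b ∈ T, a * b = b * a := by
    intro a ha b hb
    by_contra hnc
    have haD := hTD ha
    have hbD := hTD hb
    rcases hD'.pair a haD b hbD with h | h | ⟨h4, -⟩
    · exact hnc h
    · exact hbad a ha b ⟨hbD, fun e => hnc (by rw [e]), h⟩ (hN b hbD b hb rfl)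
    · obtain ⟨hcD, cac, cbc, -, -, -⟩ := four_facts hD' haD hbD h4
      have hcP := sq_mem_productPartners hD' haD hbD h4
      set c := (a * b) ^ 2 with hc
      have hbP : b ∈ Cfsg.productPartners D c :=
        ⟨⟨hbD, cbc.eq, hcP.1.2.2.symm⟩, by rw [cbc.eq]; exact hcP.2⟩
      have hbE : b ∉ Cfsg.sameCommutingClass D c := fun h => by
        have h1 : a ∈ Cfsg.commutingMembers D c := ⟨haD, cac.eq⟩
        rw [h.2] at h1
        exact hnc h1.2
      obtain ⟨x, ⟨hx, hbx⟩, hcx⟩ := Cfsg.Agent.S5047.result hD' hO hcD hbP hbE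
      have hxb : orderOf (x * b) = 4 := by rw [orderOf_mul_comm hD' hbD hx]; exact hbx
      have hm := sq_mem_productPartners hD' hx hbD hxb
      have hpr := propagate hD' hcD hx hbD hcx cbc.symm hcP.2 hxb
      have hba : (b * a) ^ 2 = c := by
        rw [← inv_eq hD' hcD, hc, ← inv_pow, mul_inv_rev, inv_eq hD' haD, inv_eq hD' hbD]
      have h3 := braid hD' hcD hbD haD hm.1.1 hba hpr
      refine hbad a ha _ ⟨hm.1.1, fun e => ?_, by rw [h3]; decide⟩ (hN _ hm.1.1 b hb hm.1.2.1)
      rw [e, mul_self hD' haD, orderOf_one] at h3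
      exact absurd h3 (by decide)
  have hle : Subgroup.closure T ≤ Subgroup.centralizer (Subgroup.closure T : Set G) := by
    rw [Subgroup.centralizer_closure, Subgroup.closure_le]
    exact fun a ha => Subgroup.mem_centralizer_iff.2 fun b hb => hcomm b hb a ha
  exact ⟨⟨fun a b => Subtype.ext (Subgroup.mem_centralizer_iff.1 (hle b.2) a a.2)⟩⟩

end CfsgLib.RootInvol
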