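import Cfsg.Agent.Lib.RootSub.Partner
import Cfsg.Agent.S5036

/-!
# Non-degenerate classes of abstract root subgroups: line partners
-/

set_option autoImplicit false
set_option linter.style.haveILetI false

namespace CfsgLib.RootSub

open Subgroup
open scoped commutatorElement

variable {G : Type*} [Group G] {S : Set (Subgroup G)}

theorem nonIso_all (hS : Cfsg.IsRootSubgroupClass S) (hnd : Cfsg.IsNondegenerateRootSet S) :
    ∀ A ∈ S, NonIso S A := by
  obtain ⟨-, ⟨P, hP, Q, hQ, hPQ⟩, -⟩ := hnd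
  intro A hA
  obtain ⟨g, rfl⟩ := hS.2.2 P hP A hA
  exact nonIso_conjBy hS.1 ⟨Q, hQ, hPQ⟩ g

theorem case_linePartner (hS : Cfsg.IsRootSubgroupSet S) {A B : Subgroup G}
    (h : Cfsg.RootCommutatorCase S A B) (hA : A ∈ S) (hn : NonIso S A) (hB : B ∈ S) :
    A ∈ Cfsg.linePartners S ⁅A, B⁆ ∧ ⁅A, B⁆ ∈ Cfsg.linePartners S A := by
  have hp := case_partition hS h hA hn hB
  have hc : ⁅⁅A, B⁆, A⁆ = ⊥ :=
    commutator_eq_bot_of_commute fun c hc x hx => case_central h hc (mem_sup_left hx)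
  exact ⟨⟨⟨hA, case_ne h hS, hc⟩, by rw [sup_comm]; exact hp⟩,
    ⟨⟨h.1, (case_ne h hS).symm, by rw [commutator_comm]; exact hc⟩, hp⟩⟩

theorem linePartners_symm {A C : Subgroup G} (hA : A ∈ S) (h : C ∈ Cfsg.linePartners S A) :
    A ∈ Cfsg.linePartners S C := by
  obtain ⟨⟨-, hne, hc⟩, hp⟩ := h
  exact ⟨⟨hA, hne.symm, by rw [commutator_comm]; exact hc⟩, by rw [sup_comm]; exact hp⟩

theorem eadj_symm {A C : Subgroup G} (h : Cfsg.EAdj S S A C) : Cfsg.EAdj S S C A :=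
  ⟨h.2.1, h.1, linePartners_symm h.1 h.2.2⟩

/-- Every member has a line partner. -/
theorem exists_linePartner (hS : Cfsg.IsRootSubgroupClass S) (hnd : Cfsg.IsNondegenerateRootSet S)
    {A : Subgroup G} (hA : A ∈ S) : ∃ C, C ∈ Cfsg.linePartners S A := by
  have hnon := nonIso_all hS hnd
  obtain ⟨-, -, X, hX, Y, hY, hXY⟩ := hnd
  obtain ⟨g, hg⟩ := hS.2.2 _ hXY.1 A hA
  rw [case_conjBy] at hg
  have h := comm_case hS.1 (hS.1.conj_mem X hX g) (hS.1.conj_mem Y hY g) (hg ▸ hA)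
  exact ⟨_, hg ▸ (case_linePartner hS.1 h (hS.1.conj_mem X hX g) (hnon _ (hS.1.conj_mem X hX g))
    (hS.1.conj_mem Y hY g)).1⟩

/-- A rank one pair is joined by a path of length three in the graph of lines. -/
theorem line_path (hS : Cfsg.IsRootSubgroupClass S) (hnd : Cfsg.IsNondegenerateRootSet S)
    {A B : Subgroup G} (hA : A ∈ S) (hB : B ∈ S) (hAB : Cfsg.IsRankOnePair A B) :
    Relation.ReflTransGen (Cfsg.EAdj S S) A B := by
  have hnon := nonIso_all hS hnd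
  obtain ⟨C, hC⟩ := exists_linePartner hS hnd hA
  obtain ⟨E, hE, hBE, -, hAF, hK⟩ := nonpartner_exists hS.1 hnon hA hC hB hAB
  have hF : ⁅B, E⁆ ∈ S := hBE.1
  have h2 : ⁅B, E⁆ ∈ Cfsg.linePartners S E := by
    have := (case_linePartner hS.1 (case_symm hAF) hF (hnon _ hF) hA).1
    rwa [commutator_comm, hK] at this
  have h3 := (case_linePartner hS.1 hBE hB (hnon B hB) hE.1.1).1
  exact ((Relation.ReflTransGen.single ⟨hA, hE.1.1, hE⟩).tail ⟨hE.1.1, hF, h2⟩).tail ⟨hF, hB, h3⟩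

/-- The graph of lines is connected. -/
theorem line_connected (hS : Cfsg.IsRootSubgroupClass S) (hnd : Cfsg.IsNondegenerateRootSet S) :
    Cfsg.IsConnectedFamily (Cfsg.EAdj S S) S := by
  intro A hA B hB
  obtain ⟨g, rfl⟩ := hS.2.2 A hA B hB
  suffices ∀ U, Relation.ReflTransGen (Cfsg.FAdj S) A U → Relation.ReflTransGen (Cfsg.EAdj S S) A U from
    this _ (reach_conj hS.1 hA (nonIso_all hS hnd A hA) g)
  intro U h
  induction h with
  | refl => exact .refl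
  | tail _ h2 ih => exact ih.trans (line_path hS hnd h2.1 h2.2.1 h2.2.2)

/-- The line partners of `A` together with a rank one partner generate. -/
theorem generated_by_line_partners (hS : Cfsg.IsRootSubgroupClass S) (hnd : Cfsg.IsNondegenerateRootSet S)
    {A B : Subgroup G} (hA : A ∈ S) (hB : B ∈ S) (hAB : Cfsg.IsRankOnePair A B) :
    (⨆ C ∈ Cfsg.linePartners S A, C) ⊔ B = ⊤ := by
  have hnon := nonIso_all hS hnd
  set R := (⨆ C ∈ Cfsg.linePartners S A, C) ⊔ B with hR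
  set Good : Subgroup G → Prop := fun U =>
    U ≤ R ∧ (∀ C ∈ Cfsg.linePartners S U, C ≤ R) ∧ ∃ P ∈ S, Cfsg.IsRankOnePair U P ∧ P ≤ R with hGood
  have hconjline : ∀ (U : Subgroup G) (g : G), ∀ C ∈ Cfsg.linePartners S (Cfsg.conjBy U g),
      Cfsg.conjBy C g⁻¹ ∈ Cfsg.linePartners S U := by
    rintro U g C ⟨⟨hC, hne, hc⟩, hp⟩
    have hback : ∀ V : Subgroup G, Cfsg.conjBy (Cfsg.conjBy V g) g⁻¹ = V := fun V => by
      rw [conjBy_conjBy, inv_mul_cancel, conjBy_one]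
    have hforth : ∀ V : Subgroup G, Cfsg.conjBy (Cfsg.conjBy V g⁻¹) g = V := fun V => by
      rw [conjBy_conjBy, mul_inv_cancel, conjBy_one]
    refine ⟨⟨hS.1.conj_mem C hC _, fun e => hne ?_, ?_⟩, ?_, ?_, ?_⟩
    · rw [← hforth C, e]
    · have := commutator_conjBy_bot hc g⁻¹
      rwa [hback] at this
    · exact fun D hD => hD.2
    · intro x hx hx1
      have hx' : g * x * g⁻¹ ∈ Cfsg.conjBy U g ⊔ C := by
        rw [← hforth C, ← Subgroup.map_sup]
        exact conj_mem_conjBy hx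
      obtain ⟨D, hD, hxD⟩ := hp.2.1 _ hx' fun e => hx1 (conj_eq_one_iff.1 e)
      refine ⟨Cfsg.conjBy D g⁻¹, ⟨hS.1.conj_mem D hD.1 _, ?_⟩, ?_⟩
      · have h1 : Cfsg.conjBy D g⁻¹ ≤ Cfsg.conjBy (Cfsg.conjBy U g ⊔ C) g⁻¹ := Subgroup.map_mono hD.2
        rw [show Cfsg.conjBy (Cfsg.conjBy U g ⊔ C) g⁻¹ =
          Cfsg.conjBy (Cfsg.conjBy U g) g⁻¹ ⊔ Cfsg.conjBy C g⁻¹ from Subgroup.map_sup _ _ _, hback] at h1
        exact h1
      · rw [mem_conjBy, inv_inv]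
        exact hxD
    · intro D hD D' hD' hDD
      refine (Subgroup.eq_bot_iff_forall _).2 fun x hx => by_contra fun hx1 => hDD ?_
      obtain ⟨h1, h2⟩ := Subgroup.mem_inf.1 hx
      exact nonIso_eq hS.1 hD.1 (hnon D hD.1) hD'.1 h1 h2 hx1
  have hRconj : ∀ V : Subgroup G, V ≤ R → ∀ r ∈ R, Cfsg.conjBy V r ≤ R := by
    rintro V hV r hr _ ⟨v, hv, rfl⟩
    exact mul_mem (mul_mem hr (hV hv)) (inv_mem hr)
  have hconj : ∀ U, Good U → ∀ r ∈ R, Good (Cfsg.conjBy U r) := by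
    rintro U ⟨h1, h2, P, hP, hUP, hPR⟩ r hr
    refine ⟨hRconj U h1 r hr, fun C hC => ?_, _, hS.1.conj_mem P hP r, pair_conjBy hUP r, hRconj P hPR r hr⟩
    have := hRconj _ (h2 _ (hconjline U r C hC)) r hr
    rwa [conjBy_conjBy, mul_inv_cancel, conjBy_one] at this
  have hgoodA : Good A := by
    have hline : ∀ C ∈ Cfsg.linePartners S A, C ≤ R := fun C hC =>
      (le_iSup₂ (f := fun C (_ : C ∈ Cfsg.linePartners S A) => C) C hC).trans le_sup_left
    refine ⟨?_, hline, B, hB, hAB, le_sup_right⟩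
    obtain ⟨C, hC⟩ := exists_linePartner hS hnd hA
    obtain ⟨E, hE, hBE, -, hAF, hK⟩ := nonpartner_exists hS.1 hnon hA hC hB hAB
    obtain ⟨D, hD, hDE⟩ := opposite hS.1 hnon hA hBE.1 hAF
    rw [hK] at hDE
    have hDl := (case_linePartner hS.1 (comm_case hS.1 hD hE.1.1 (by rw [hDE]; exact hA)) hD (hnon D hD)
      hE.1.1).1
    rw [hDE] at hDl
    rw [← hDE, commutator_le]
    intro d hd e he
    rw [commutatorElement_def]
    exact mul_mem (mul_mem (mul_mem (hline D hDl hd) (hline E hE he)) (inv_mem (hline D hDl hd)))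
      (inv_mem (hline E hE he))
  have hstep : ∀ U C, U ∈ S → C ∈ Cfsg.linePartners S U → Good U → Good C := by
    rintro U C hU hC ⟨h1, h2, P, hP, hUP, hPR⟩
    obtain ⟨E, hE, hPE, hsup, hUF, hK⟩ := nonpartner_exists hS.1 hnon hU hC hP hUP
    have hFR : ⁅P, E⁆ ≤ R :=
      (commutator_le_sup P E).trans (sup_le hPR (h2 E hE))
    have hmem := case_membersIn hS.1 hUF hU (hnon U hU) hPE.1
    rw [hK] at hmem
    have hC' : C ∈ Cfsg.membersIn S (U ⊔ E) := ⟨hC.1.1, by rw [hsup]; exact le_sup_right⟩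
    rw [hmem] at hC'
    rcases hC' with ⟨f, hf, rfl⟩ | rfl
    · exact hconj U ⟨h1, h2, P, hP, hUP, hPR⟩ f (hFR hf)
    obtain ⟨D, hD, hDE⟩ := opposite hS.1 hnon hU hPE.1 hUF
    have hDl : D ∈ Cfsg.linePartners S U := by
      have := (case_linePartner hS.1 (comm_case hS.1 hD hUF.1 (by rw [hDE]; exact hU)) hD (hnon D hD) hUF.1).1
      rwa [hDE] at this
    obtain ⟨-, hset, -, -, -, -⟩ := Cfsg.Agent.S5036.result hS.1 hU hPE.1 hUF.1 hD hDE
    obtain ⟨x, hx, hxe⟩ : ⁅U, ⁅P, C⁆⁆ ∈ {W | ∃ x ∈ ⁅P, C⁆ ⊔ D, W = Cfsg.conjBy U x} := by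
      rw [hset]
      exact ⟨1, one_mem _, (conjBy_one _).symm⟩
    rw [hK] at hxe
    rw [hxe]
    exact hconj U ⟨h1, h2, P, hP, hUP, hPR⟩ x ((sup_le hFR (h2 D hDl) : ⁅P, C⁆ ⊔ D ≤ R) hx)
  rw [eq_top_iff, ← hS.1.generates]
  refine iSup₂_le fun U hU => ?_
  have h := line_connected hS hnd A hA U hU
  have : Good U := by
    clear hU
    induction h with
    | refl => exact hgoodA
    | tail _ h2 ih => exact hstep _ _ h2.1 h2.2.2 ih
  exact this.1

/-- A weak TI-subset is abelian. -/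
theorem weakTI_abelian (hS : Cfsg.IsRootSubgroupClass S) (hnd : Cfsg.IsNondegenerateRootSet S)
    {Δ : Set (Subgroup G)} (hΔ : Cfsg.IsWeakTISubset S Δ) : Cfsg.IsAbelianFamily Δ := by
  have hnon := nonIso_all hS hnd
  obtain ⟨hsub, -, hne, hTI⟩ := hΔ
  -- members commuting with a member of `Δ` stabilize `Δ`
  have hstab : ∀ A ∈ Δ, ∀ C ∈ S, ⁅A, C⁆ = ⊥ → ∀ c ∈ C, ∀ D ∈ Δ, Cfsg.conjBy D c ∈ Δ := by
    intro A hA C hC hAC c hc D hD
    rcases eq_or_ne c 1 with rfl | hc1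
    · rwa [conjBy_one]
    have hfix : Cfsg.conjBy A c = A := conjBy_eq_self_iff.2 (centralizer_le_normalizer _
      (mem_centralizer_iff.2 fun a ha => commute_of_commutator_eq_bot hAC ha hc))
    rcases hTI c ⟨hc1, C, hC, hc⟩ with h | h
    · exact h ▸ ⟨D, hD, rfl⟩
    · exact absurd rfl (Set.disjoint_iff_forall_ne.1 h ⟨A, hA, hfix⟩ hA)
  have hselfstab : ∀ A ∈ Δ, ∀ a ∈ A, ∀ D ∈ Δ, Cfsg.conjBy D a ∈ Δ := fun A hA =>
    hstab A hA A (hsub hA) (commutator_eq_bot_of_commute fun x hx y hy => comm_of_mem hS.1 (hsub hA) hx hy)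
  have hpair : ∀ A ∈ Δ, ∀ B ∈ Δ, ¬ Cfsg.IsRankOnePair A B := by
    intro A hA B hB hAB
    have hgen := generated_by_line_partners hS hnd (hsub hA) (hsub hB) hAB
    have hall : ∀ g ∈ (⊤ : Subgroup G), ∀ D ∈ Δ, Cfsg.conjBy D g ∈ Δ := by
      intro g hg
      let M : Subgroup G :=
        { carrier := {g | (∀ D ∈ Δ, Cfsg.conjBy D g ∈ Δ) ∧ ∀ D ∈ Δ, Cfsg.conjBy D g⁻¹ ∈ Δ}
          one_mem' := ⟨fun D hD => by rwa [conjBy_one], fun D hD => by rwa [inv_one, conjBy_one]⟩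
          mul_mem' := fun {x y} hx hy => ⟨fun D hD => by rw [← conjBy_conjBy]; exact hx.1 _ (hy.1 D hD),
            fun D hD => by rw [mul_inv_rev, ← conjBy_conjBy]; exact hy.2 _ (hx.2 D hD)⟩
          inv_mem' := fun {x} hx => ⟨hx.2, by rw [inv_inv]; exact hx.1⟩ }
      have hle : (⨆ C ∈ Cfsg.linePartners S A, C) ⊔ B ≤ M := sup_le (iSup₂_le fun C hC c hc =>
          ⟨hstab A hA C hC.1.1 hC.1.2.2 c hc, hstab A hA C hC.1.1 hC.1.2.2 _ (inv_mem hc)⟩)
        (fun b hb => ⟨hselfstab B hB b hb, hselfstab B hB _ (inv_mem hb)⟩)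
      exact (hle (by rw [hgen]; exact hg)).1
    refine hne (Set.Subset.antisymm hsub fun D hD => ?_)
    obtain ⟨g, rfl⟩ := hS.2.2 A (hsub hA) D hD
    exact hall g (mem_top g) A hA
  intro A hA B hB a ha b hb
  rcases hS.1.pair A (hsub hA) B (hsub hB) with h | h | h
  · exact commute_of_commutator_eq_bot h ha hb
  · exact absurd h (hpair A hA B hB)
  · exfalso
    obtain ⟨D, hD, hDJ⟩ := opposite hS.1 hnon (hsub hA) (hsub hB) h
    have hrk := (Cfsg.Agent.S5036.result hS.1 (hsub hA) (hsub hB) h.1 hD hDJ).1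
    have hAD : ⁅A, D⁆ = ⊥ := by
      have hc := comm_case hS.1 hD h.1 (by rw [hDJ]; exact hsub hA)
      exact commutator_eq_bot_of_commute fun x hx d hd => case_central hc (hDJ.symm ▸ hx) (mem_sup_left hd)
    obtain ⟨d, hd, hd1⟩ := (exists_ne_one hrk).2
    have hne' : B ≠ Cfsg.conjBy B d := fun e =>
      hd1 (eq_one_of_mem_normalizer hrk hd (conjBy_eq_self_iff.1 e.symm))
    exact hpair B hB _ (hstab A hA D hD hAD d hd B hB)
      (pair_of_unipotent hrk (left_mem hrk) ⟨d, mem_sup_right hd, rfl⟩ hne')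

end CfsgLib.RootSub
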