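import Mathlib

/-!
# Siegel transvections and singular lines of a quadratic space
-/

set_option autoImplicit false

namespace CfsgLib.Siegel

variable {F V : Type*} [Field F] [AddCommGroup V] [Module F V]

/-- A regular quadratic form with polar form `B`. -/
structure Quad (q : V → F) (B : V →ₗ[F] V →ₗ[F] F) : Prop where
  add : ∀ v w, q (v + w) = q v + q w + B v w
  smul : ∀ (c : F) v, q (c • v) = c * c * q v
  nondeg : ∀ v, (∀ w, B v w = 0) → v = 0

/-- `v ↦ B(v, r) p - B(v, p) r` -/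
def Sg (B : V →ₗ[F] V →ₗ[F] F) (p r : V) : Module.End F V := (B.flip r).smulRight p - (B.flip p).smulRight r

theorem Sg_apply (B : V →ₗ[F] V →ₗ[F] F) (p r v : V) : Sg B p r v = B v r • p - B v p • r := rfl

/-- A singular line. -/
def Ln (q : V → F) (ℓ : V × V) : Prop :=
  LinearIndependent F ![ℓ.1, ℓ.2] ∧ q ℓ.1 = 0 ∧ q ℓ.2 = 0 ∧ q (ℓ.1 + ℓ.2) = 0

/-- the determinant of the pairing of two lines, negated -/
def gam (B : V →ₗ[F] V →ₗ[F] F) (ℓ m : V × V) : F := B ℓ.1 m.2 * B ℓ.2 m.1 - B ℓ.1 m.1 * B ℓ.2 m.2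

/-- A totally singular subspace. -/
def TS (q : V → F) (E : Submodule F V) : Prop := ∀ x ∈ E, q x = 0

variable {q : V → F} {B : V →ₗ[F] V →ₗ[F] F} (hq : Quad q B)
include hq

theorem symm (v w : V) : B v w = B w v := by
  have h := hq.add v w
  rw [add_comm v w, hq.add w v] at h
  linear_combination -h

theorem zero : q 0 = 0 := by simpa using hq.smul 0 0

theorem self {v : V} (h : q v = 0) : B v v = 0 := by
  have h1 := hq.add v v
  rw [← two_smul F v, hq.smul, h] at h1
  simpa using h1.symm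

theorem line_perp {p r : V} (h : Ln q (p, r)) : B p r = 0 := by
  have := h.2.2.2
  rw [hq.add, h.2.1, h.2.2.1] at this
  simpa using this

theorem Sg_sq {p r : V} (h : Ln q (p, r)) : Sg B p r * Sg B p r = 0 := LinearMap.ext fun v => by
  have h1 := line_perp hq h
  have h2 := self hq h.2.1
  have h3 := self hq h.2.2.1
  simp [Module.End.mul_apply, Sg_apply, h1, h2, h3, symm hq r p]

theorem Sg_preserves {p r : V} (h : Ln q (p, r)) (c : F) (v : V) : q (v + c • Sg B p r v) = q v := by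
  have h1 := line_perp hq h
  rw [Sg_apply, smul_sub, smul_smul, smul_smul, sub_eq_add_neg, ← neg_smul, hq.add, hq.add, hq.smul, hq.smul,
    h.2.1, h.2.2.1]
  simp only [map_add, map_smul, smul_eq_mul, LinearMap.smul_apply, h1, mul_zero, add_zero, zero_add]
  ring

theorem exists_pair {p r : V} (h : LinearIndependent F ![p, r]) [FiniteDimensional F V] :
    ∃ u w, B u p = 1 ∧ B u r = 0 ∧ B w p = 0 ∧ B w r = 1 := by
  obtain ⟨L, hL⟩ : ∃ L : V →ₗ[F] F × F, ∀ v, L v = (B v p, B v r) := ⟨(B.flip p).prod (B.flip r), fun v => rfl⟩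
  have hsurj : Function.Surjective L := by
    rw [← LinearMap.range_eq_top]
    by_contra hne
    obtain ⟨θ, hθ, hker⟩ := Submodule.exists_le_ker_of_lt_top _ (lt_top_iff_ne_top.2 hne)
    have hθ' : ∀ z : F × F, θ z = z.1 * θ (1, 0) + z.2 * θ (0, 1) := fun z => by
      rw [← smul_eq_mul, ← smul_eq_mul, ← map_smul, ← map_smul, ← map_add]
      simp
    have hz : θ (1, 0) • p + θ (0, 1) • r = 0 := hq.nondeg _ fun v => by
      have h1 : θ (L v) = 0 := LinearMap.mem_ker.1 (hker (LinearMap.mem_range_self L v))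
      rw [hθ', hL] at h1
      simp only [map_add, map_smul, LinearMap.add_apply, LinearMap.smul_apply, smul_eq_mul, symm hq p v, symm hq r v]
      linear_combination h1
    obtain ⟨h1, h2⟩ := LinearIndependent.pair_iff.1 h _ _ hz
    exact hθ (LinearMap.ext fun z => by rw [hθ', h1, h2]; simp)
  obtain ⟨u, hu⟩ := hsurj (1, 0)
  obtain ⟨w, hw⟩ := hsurj (0, 1)
  rw [hL, Prod.ext_iff] at hu hw
  exact ⟨u, w, hu.1, hu.2, hw.1, hw.2⟩

theorem Sg_ne_zero [FiniteDimensional F V] {p r : V} (h : Ln q (p, r)) : Sg B p r ≠ 0 := fun e => by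
  obtain ⟨u, w, -, -, hwp, hwr⟩ := exists_pair hq h.1
  have h2 := LinearMap.congr_fun e w
  rw [Sg_apply, hwp, hwr] at h2
  exact h.1.ne_zero 0 (by simpa using h2)

/-- An isometry fixing the orthogonal space of a singular line is a Siegel transvection. -/
theorem eq_siegel [FiniteDimensional F V] {p r : V} (h : Ln q (p, r)) {σ : Module.End F V}
    (hσ : ∀ v, q (σ v) = q v) (hfix : ∀ v, B v p = 0 → B v r = 0 → σ v = v) :
    ∃ c : F, σ = 1 + c • Sg B p r := by
  obtain ⟨u, w, hup, hur, hwp, hwr⟩ := exists_pair hq h.1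
  have hBσ : ∀ x y, B (σ x) (σ y) = B x y := fun x y => by
    have h1 := hq.add (σ x) (σ y)
    rw [← map_add, hσ, hσ, hσ, hq.add] at h1
    linear_combination -h1
  obtain ⟨π, hπ⟩ : ∃ π : V → V, ∀ v, π v = v - B v p • u - B v r • w := ⟨_, fun v => rfl⟩
  have hπp : ∀ v, B (π v) p = 0 ∧ B (π v) r = 0 := fun v => by
    constructor <;> simp [hπ, hup, hur, hwp, hwr]
  have hdec : ∀ v, σ v = v + B v p • (σ u - u) + B v r • (σ w - w) := fun v => by
    have h1 := hfix _ (hπp v).1 (hπp v).2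
    rw [hπ, map_sub, map_sub, map_smul, map_smul, sub_eq_iff_eq_add, sub_eq_iff_eq_add] at h1
    rw [h1]; module
  have hin : ∀ a, (∀ v, B v p = 0 → B v r = 0 → B v a = 0) → ∃ α β : F, a = α • p + β • r := fun a ha => by
    refine ⟨B u a, B w a, sub_eq_zero.1 (hq.nondeg _ fun v => ?_)⟩
    have h1 := ha _ (hπp v).1 (hπp v).2
    simp only [hπ, map_sub, map_smul, LinearMap.sub_apply, LinearMap.smul_apply, smul_eq_mul] at h1
    simp only [map_sub, map_add, map_smul, LinearMap.sub_apply, LinearMap.add_apply, LinearMap.smul_apply,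
      smul_eq_mul, symm hq a v, symm hq p v, symm hq r v]
    linear_combination h1
  have hperp : ∀ x v, B v p = 0 → B v r = 0 → B v (σ x - x) = 0 := fun x v h1 h2 => by
    rw [map_sub, sub_eq_zero]
    have := hBσ v x
    rwa [hfix v h1 h2] at this
  obtain ⟨α, β, ha⟩ := hin _ (hperp u)
  obtain ⟨γ, δ, hb⟩ := hin _ (hperp w)
  have hpr := line_perp hq h
  have hqv : ∀ v, α * (B v p * B v p) + (β + γ) * (B v p * B v r) + δ * (B v r * B v r) = 0 := fun v => by
    have h1 := hσ v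
    rw [hdec, ha, hb, show v + B v p • (α • p + β • r) + B v r • (γ • p + δ • r) =
      v + ((B v p * α + B v r * γ) • p + (B v p * β + B v r * δ) • r) by module,
      hq.add, hq.add, hq.smul, hq.smul, h.2.1, h.2.2.1] at h1
    simp only [map_add, map_smul, smul_eq_mul, LinearMap.smul_apply, hpr, mul_zero, add_zero] at h1
    linear_combination h1
  have hα : α = 0 := by simpa [hup, hur] using hqv u
  have hδ : δ = 0 := by simpa [hwp, hwr] using hqv w
  have hβ : β + γ = 0 := by simpa [hup, hur, hwp, hwr, hα, hδ] using hqv (u + w)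
  refine ⟨γ, LinearMap.ext fun v => ?_⟩
  rw [hdec, ha, hb, hα, hδ, eq_neg_of_add_eq_zero_left hβ]
  show _ = v + γ • Sg B p r v
  rw [Sg_apply]
  module

omit hq in
theorem fix_apply {p r v : V} (h1 : B v p = 0) (h2 : B v r = 0) (c : F) :
    ((1 : Module.End F V) + c • Sg B p r) v = v := by
  simp [Sg_apply, h1, h2]

theorem Sg_conj {g g' : Module.End F V} (hg : ∀ v, q (g v) = q v) (hinv : ∀ v, g (g' v) = v) (p r : V) :
    g * Sg B p r * g' = Sg B (g p) (g r) := LinearMap.ext fun v => by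
  have hB : ∀ x y, B (g x) (g y) = B x y := fun x y => by
    have h1 := hq.add (g x) (g y)
    rw [← map_add, hg, hg, hg, hq.add] at h1
    linear_combination -h1
  have h1 := hB (g' v) r
  have h2 := hB (g' v) p
  rw [hinv] at h1 h2
  simp [Module.End.mul_apply, Sg_apply, h1, h2]

theorem Sg_triple {ℓ m : V × V} (hℓ : Ln q ℓ) (hm : Ln q m) :
    Sg B ℓ.1 ℓ.2 * Sg B m.1 m.2 * Sg B ℓ.1 ℓ.2 = gam B ℓ m • Sg B ℓ.1 ℓ.2 := LinearMap.ext fun v => by
  simp only [Module.End.mul_apply, Sg_apply, map_sub, map_smul, LinearMap.smul_apply, LinearMap.sub_apply,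
    smul_eq_mul, gam, symm hq m.1 ℓ.1, symm hq m.1 ℓ.2, symm hq m.2 ℓ.1, symm hq m.2 ℓ.2]
  module

theorem gam_comm (ℓ m : V × V) : gam B ℓ m = gam B m ℓ := by
  simp only [gam, symm hq m.1 ℓ.1, symm hq m.1 ℓ.2, symm hq m.2 ℓ.1, symm hq m.2 ℓ.2]
  ring

/-- Lines with degenerate pairing. -/
theorem degenerate {p r p' r' : V} (hℓ : Ln q (p, r)) (hm : Ln q (p', r')) (h : gam B (p, r) (p', r') = 0) :
    ∃ x y, Sg B p r * Sg B p' r' - Sg B p' r' * Sg B p r = Sg B y x ∧
      Sg B y x * Sg B p r = 0 ∧ Sg B y x * Sg B p' r' = 0 ∧ Sg B p r * Sg B y x = 0 ∧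
      Sg B p' r' * Sg B y x = 0 ∧ (Sg B y x = 0 ∨ Ln q (y, x)) := by
  obtain ⟨a1, a2, b1, b2, e11, e12, e21, e22⟩ : ∃ a1 a2 b1 b2 : F,
      B p p' = a1 * b1 ∧ B p r' = a1 * b2 ∧ B r p' = a2 * b1 ∧ B r r' = a2 * b2 := by
    have h0 : B p r' * B r p' = B p p' * B r r' := sub_eq_zero.1 h
    by_cases h1 : B p p' = 0
    · by_cases h2 : B p r' = 0
      · exact ⟨0, 1, B r p', B r r', by simp [h1], by simp [h2], by simp, by simp⟩
      · refine ⟨1, B r r' / B p r', 0, B p r', by simp [h1], by simp, ?_, by rw [div_mul_cancel₀ _ h2]⟩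
        rw [h1, zero_mul, mul_eq_zero] at h0
        simpa using h0.resolve_left h2
    · refine ⟨1, B r p' / B p p', B p p', B p r', by simp, by simp, by rw [div_mul_cancel₀ _ h1], ?_⟩
      rw [div_mul_eq_mul_div, eq_div_iff h1]
      linear_combination -h0
  obtain ⟨x, hx⟩ : ∃ x, x = a2 • p - a1 • r := ⟨_, rfl⟩
  obtain ⟨y, hy⟩ : ∃ y, y = b2 • p' - b1 • r' := ⟨_, rfl⟩
  have hpr := line_perp hq hℓ
  have hpr' := line_perp hq hm
  have pp := self hq hℓ.2.1
  have rr := self hq hℓ.2.2.1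
  have pp' := self hq hm.2.1
  have rr' := self hq hm.2.2.1
  have hxp : B x p = 0 ∧ B x r = 0 ∧ B x p' = 0 ∧ B x r' = 0 := by
    refine ⟨?_, ?_, ?_, ?_⟩ <;> simp [hx, pp, rr, hpr, symm hq r p, e11, e12, e21, e22] <;> ring
  have hyp : B y p = 0 ∧ B y r = 0 ∧ B y p' = 0 ∧ B y r' = 0 := by
    refine ⟨?_, ?_, ?_, ?_⟩ <;>
      simp [hy, pp', rr', hpr', symm hq r' p', symm hq p' p, symm hq r' p, symm hq p' r, symm hq r' r, e11, e12, e21,
        e22] <;> ring
  obtain ⟨hx1, hx2, hx3, hx4⟩ := hxp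
  obtain ⟨hy1, hy2, hy3, hy4⟩ := hyp
  refine ⟨x, y, LinearMap.ext fun v => ?_, ?_, ?_, ?_, ?_, ?_⟩
  · simp only [LinearMap.sub_apply, Module.End.mul_apply, Sg_apply, map_sub, map_smul, LinearMap.smul_apply,
      smul_eq_mul, symm hq p' p, symm hq r' p, symm hq p' r, symm hq r' r, e11, e12, e21, e22, hx, hy]
    module
  · exact LinearMap.ext fun v => by simp [Module.End.mul_apply, Sg_apply, symm hq p, symm hq r, hx1, hx2, hy1, hy2]
  · exact LinearMap.ext fun v => by
      simp [Module.End.mul_apply, Sg_apply, symm hq p', symm hq r', hx3, hx4, hy3, hy4]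
  · exact LinearMap.ext fun v => by simp [Module.End.mul_apply, Sg_apply, hx1, hx2, hy1, hy2]
  · exact LinearMap.ext fun v => by simp [Module.End.mul_apply, Sg_apply, hx3, hx4, hy3, hy4]
  · by_cases hli : LinearIndependent F ![y, x]
    · have qx : q x = 0 := by
        rw [hx, sub_eq_add_neg, ← neg_smul, hq.add, hq.smul, hq.smul, hℓ.2.1, hℓ.2.2.1]; simp [hpr]
      have qy : q y = 0 := by
        rw [hy, sub_eq_add_neg, ← neg_smul, hq.add, hq.smul, hq.smul, hm.2.1, hm.2.2.1]; simp [hpr']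
      refine Or.inr ⟨hli, qy, qx, ?_⟩
      rw [hq.add, qy, qx, hx]
      simp [hy1, hy2]
    · left
      rw [LinearIndependent.pair_iff] at hli
      push Not at hli
      obtain ⟨s, t, hst, hne⟩ := hli
      refine LinearMap.ext fun v => ?_
      rw [Sg_apply, LinearMap.zero_apply]
      by_cases hs : s = 0
      · have ht : t ≠ 0 := hne hs
        rw [hs, zero_smul, zero_add, smul_eq_zero] at hst
        simp [hst.resolve_left ht]
      · have : y = (-t / s) • x := by
          refine smul_right_injective V hs ?_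
          show s • y = s • ((-t / s) • x)
          rw [smul_smul, mul_div_cancel₀ _ hs, neg_smul]
          exact eq_neg_of_add_eq_zero_left hst
        rw [this, smul_smul, map_smul, smul_eq_mul, mul_comm, sub_self]

/-- Two lines joined by a chain of opposite lines. -/
abbrev Reach (q : V → F) (B : V →ₗ[F] V →ₗ[F] F) : V × V → V × V → Prop :=
  Relation.ReflTransGen fun ℓ m => Ln q ℓ ∧ Ln q m ∧ gam B ℓ m ≠ 0

theorem share₀ [FiniteDimensional F V] {p a c : V} (hpa : Ln q (p, a)) (hpc : Ln q (p, c)) (hac : B a c = 0) :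
    ∃ w, Ln q w ∧ gam B (p, a) w ≠ 0 ∧ gam B w (p, c) ≠ 0 := by
  have hBpa := line_perp hq hpa
  have hBpc := line_perp hq hpc
  have pp := self hq hpa.2.1
  obtain ⟨u0, -, hu0, -, -, -⟩ := exists_pair hq hpa.1
  obtain ⟨P, hP⟩ : ∃ P, P = u0 - q u0 • p := ⟨_, rfl⟩
  have hPp : B P p = 1 := by simp [hP, hu0, pp]
  have qP : q P = 0 := by
    rw [hP, sub_eq_add_neg, ← neg_smul, hq.add, hq.smul, hpa.2.1]
    simp [hu0]
  have key : ∀ x, Ln q (p, x) → ∃ s, q s = 0 ∧ B s p = 0 ∧ B s P = 0 ∧ B x s = 1 := by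
    intro x hx
    obtain ⟨-, w, -, -, hwp, hwx⟩ := exists_pair hq hx.1
    obtain ⟨u, hu⟩ : ∃ u, u = w - B w P • p := ⟨_, rfl⟩
    obtain ⟨x', hx'⟩ : ∃ x', x' = x - B x P • p := ⟨_, rfl⟩
    have hup : B u p = 0 := by simp [hu, hwp, pp]
    have huP : B u P = 0 := by simp [hu, symm hq p P, hPp]
    have hux : B u x = 1 := by simp [hu, hwx, line_perp hq hx]
    have hx'p : B x' p = 0 := by simp [hx', symm hq x p, line_perp hq hx, pp]
    have hx'P : B x' P = 0 := by simp [hx', symm hq p P, hPp]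
    have hux' : B u x' = 1 := by simp [hx', hux, hup]
    have qx' : q x' = 0 := by
      rw [hx', sub_eq_add_neg, ← neg_smul, hq.add, hq.smul, hx.2.1, hx.2.2.1]
      simp [symm hq x p, line_perp hq hx]
    refine ⟨u - q u • x', ?_, by simp [hup, hx'p], by simp [huP, hx'P], ?_⟩
    · rw [sub_eq_add_neg, ← neg_smul, hq.add, hq.smul, qx']
      simp [hux']
    · have : B x x' = 0 := by
        simp [hx', self hq hx.2.2.1, symm hq x p, line_perp hq hx]
      simp [symm hq x u, hux, this]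
  obtain ⟨s, qs, hsp, hsP, hsa⟩ := key a hpa
  obtain ⟨t, qt, htp, htP, htc⟩ := key c hpc
  obtain ⟨z, qz, hzp, hzP, hza, hzc⟩ : ∃ z, q z = 0 ∧ B z p = 0 ∧ B z P = 0 ∧ B a z ≠ 0 ∧ B c z ≠ 0 := by
    by_cases h1 : B c s = 0
    swap
    · exact ⟨s, qs, hsp, hsP, by rw [hsa]; exact one_ne_zero, h1⟩
    by_cases h2 : B a t = 0
    swap
    · exact ⟨t, qt, htp, htP, h2, by rw [htc]; exact one_ne_zero⟩
    obtain ⟨a', ha'⟩ : ∃ a', a' = a - B a P • p := ⟨_, rfl⟩
    have ha'p : B a' p = 0 := by simp [ha', symm hq a p, hBpa, pp]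
    have ha'P : B a' P = 0 := by simp [ha', symm hq p P, hPp]
    have qa' : q a' = 0 := by
      rw [ha', sub_eq_add_neg, ← neg_smul, hq.add, hq.smul, hpa.2.1, hpa.2.2.1]
      simp [symm hq a p, hBpa]
    have hsa' : B (s + t) a' = 1 := by
      simp [ha', symm hq s a, symm hq t a, hsa, h2, hsp, htp]
    refine ⟨s + t - B s t • a', ?_, by simp [hsp, htp, ha'p], by simp [hsP, htP, ha'P], ?_, ?_⟩
    · rw [sub_eq_add_neg, ← neg_smul, hq.add, hq.add, hq.smul, qs, qt, qa', map_smul, smul_eq_mul, hsa']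
      ring
    · have : B a a' = 0 := by simp [ha', self hq hpa.2.2.1, symm hq a p, hBpa]
      simp [hsa, h2, this]
    · have : B c a' = 0 := by simp [ha', symm hq c a, hac, symm hq c p, hBpc]
      simp [htc, h1, this]
  have hLn : Ln q (P, z) := by
    refine ⟨LinearIndependent.pair_iff.2 fun α β h => ?_, qP, qz, ?_⟩
    · have h1 := congrArg (fun v => B v p) h
      simp [hPp, hzp] at h1
      subst h1
      have h2 := congrArg (fun v => B a v) h
      simpa [hza] using h2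
    · rw [hq.add, qP, qz, symm hq P z, hzP]; ring
  refine ⟨(P, z), hLn, ?_, ?_⟩
  · simp [gam, symm hq p z, hzp, symm hq p P, hPp, hza]
  · simp [gam, hzp, hPp, symm hq z c, hzc]

omit hq in
theorem inf_ker_finrank [FiniteDimensional F V] (E : Submodule F V) (f : V →ₗ[F] F) :
    Module.finrank F E ≤ Module.finrank F (E ⊓ LinearMap.ker f : Submodule F V) + 1 := by
  have h := LinearMap.finrank_range_add_finrank_ker (f.comp E.subtype)
  have h1 : Module.finrank F (LinearMap.range (f.comp E.subtype)) ≤ 1 :=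
    (Submodule.finrank_le _).trans (by rw [Module.finrank_self])
  have h2 : (LinearMap.ker (f.comp E.subtype)).map E.subtype = E ⊓ LinearMap.ker f := by
    rw [LinearMap.ker_comp, Submodule.map_comap_eq, Submodule.range_subtype]
  rw [← h2, Submodule.finrank_map_subtype_eq]
  omega

theorem extend [FiniteDimensional F V] {E : Submodule F V} (hE : TS q E) {a : V} (ha : q a = 0) :
    ∃ E', TS q E' ∧ a ∈ E' ∧ (∀ x ∈ E, B x a = 0 → x ∈ E') ∧ Module.finrank F E ≤ Module.finrank F E' := by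
  by_cases haE : a ∈ E
  · exact ⟨E, hE, haE, fun x hx _ => hx, le_rfl⟩
  obtain ⟨D, hD⟩ : ∃ D, D = E ⊓ LinearMap.ker (B.flip a) := ⟨_, rfl⟩
  have hDE : D ≤ E := hD ▸ inf_le_left
  refine ⟨D ⊔ Submodule.span F {a}, fun x hx => ?_, Submodule.mem_sup_right (Submodule.mem_span_singleton_self a),
    fun x hx hxa => Submodule.mem_sup_left (hD ▸ ⟨hx, hxa⟩), ?_⟩
  · obtain ⟨d, hd, w, hw, rfl⟩ := Submodule.mem_sup.1 hx
    obtain ⟨c, rfl⟩ := Submodule.mem_span_singleton.1 hw
    have hd' : B d a = 0 := by rw [hD] at hd; exact hd.2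
    rw [hq.add, hq.smul, hE d (hDE hd), ha, map_smul, smul_eq_mul, hd']
    ring
  · have hdisj : D ⊓ Submodule.span F {a} = ⊥ := by
      rw [Submodule.eq_bot_iff]
      rintro x ⟨hx1, hx2⟩
      obtain ⟨c, rfl⟩ := Submodule.mem_span_singleton.1 hx2
      by_cases hc : c = 0
      · rw [hc, zero_smul]
      · exact absurd ((E.smul_mem_iff hc).1 (hDE hx1)) haE
    have h := Submodule.finrank_sup_add_finrank_inf_eq D (Submodule.span F {a})
    rw [hdisj, finrank_bot, finrank_span_singleton (fun h0 : a = 0 => haE (h0 ▸ E.zero_mem)), add_zero] at h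
    rw [h, hD]
    exact inf_ker_finrank E (B.flip a)

omit hq in
theorem exists_notMem [FiniteDimensional F V] {E D : Submodule F V}
    (h : Module.finrank F D < Module.finrank F E) : ∃ x ∈ E, x ∉ D := by
  by_contra hno
  push Not at hno
  exact absurd (Submodule.finrank_mono (fun x hx => hno x hx : E ≤ D)) (not_le.2 h)

theorem line_of_notMem {p d : V} (hp0 : p ≠ 0) (hp : q p = 0) (hd : q d = 0) (hpd : B p d = 0)
    (hn : d ∉ Submodule.span F {p}) : Ln q (p, d) := by
  refine ⟨(LinearIndependent.pair_iff' hp0).2 fun a ha => hn (Submodule.mem_span_singleton.2 ⟨a, ha⟩), hp, hd, ?_⟩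
  rw [hq.add, hp, hd, hpd]; ring

variable [FiniteDimensional F V] {E₀ : Submodule F V} (hE₀ : TS q E₀) (hn : 3 ≤ Module.finrank F E₀)
include hE₀ hn

theorem share {p a c : V} (hpa : Ln q (p, a)) (hpc : Ln q (p, c)) : Reach q B (p, a) (p, c) := by
  have step : ∀ x y, Ln q (p, x) → Ln q (p, y) → B x y = 0 → Reach q B (p, x) (p, y) := fun x y hx hy hxy => by
    obtain ⟨w, hw, h1, h2⟩ := share₀ hq hx hy hxy
    exact (Relation.ReflTransGen.single ⟨hx, hw, h1⟩).tail ⟨hw, hy, h2⟩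
  by_cases hac : B a c = 0
  · exact step a c hpa hpc hac
  obtain ⟨E₁, hE₁, hp₁, -, hn₁⟩ := extend hq hE₀ hpa.2.1
  obtain ⟨E₂, hE₂, ha₂, hkeep, hn₂⟩ := extend hq hE₁ hpa.2.2.1
  have hp₂ : p ∈ E₂ := hkeep p hp₁ (line_perp hq hpa)
  obtain ⟨d, hd, hdn⟩ := exists_notMem (E := E₂ ⊓ LinearMap.ker (B.flip c)) (D := Submodule.span F {p}) (by
    have := inf_ker_finrank E₂ (B.flip c)
    have h1 : Module.finrank F (Submodule.span F {p}) ≤ 1 := by
      have := finrank_span_le_card (R := F) ({p} : Set V); simpa using this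
    omega)
  obtain ⟨hd₂, hdc⟩ := hd
  have hperp : ∀ x ∈ E₂, B x d = 0 := fun x hx => by
    have := hE₂ _ (E₂.add_mem hx hd₂)
    rw [hq.add, hE₂ x hx, hE₂ d hd₂] at this
    simpa using this
  have hpd := line_of_notMem hq (hpa.1.ne_zero 0) hpa.2.1 (hE₂ d hd₂) (hperp p hp₂) hdn
  exact (step a d hpa hpd (hperp a ha₂)).trans (step d c hpd hpc hdc)

theorem swap {p r : V} (h : Ln q (p, r)) : Reach q B (p, r) (r, p) := by
  obtain ⟨w, hw, h1, h2⟩ := share₀ hq h h (self hq h.2.2.1)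
  have h' : Ln q (r, p) := ⟨LinearIndependent.pair_symm_iff.1 h.1, h.2.2.1, h.2.1, by rw [add_comm]; exact h.2.2.2⟩
  refine (Relation.ReflTransGen.single ⟨h, hw, h1⟩).tail ⟨hw, h', fun e => h2 ?_⟩
  simp only [gam] at e ⊢
  linear_combination -e

theorem connected {ℓ m : V × V} (hℓ : Ln q ℓ) (hm : Ln q m) : Reach q B ℓ m := by
  obtain ⟨p, r⟩ := ℓ
  obtain ⟨p', r'⟩ := m
  obtain ⟨z, qz, hzp, hzp', hzn⟩ : ∃ z, q z = 0 ∧ B p z = 0 ∧ B p' z = 0 ∧ z ∉ Submodule.span F {p, p'} := by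
    obtain ⟨E₁, hE₁, hp₁, -, hn₁⟩ := extend hq hE₀ hℓ.2.1
    have hperp : ∀ {E : Submodule F V}, TS q E → ∀ x ∈ E, ∀ y ∈ E, B x y = 0 := fun {E} hE x hx y hy => by
      have := hE _ (E.add_mem hx hy)
      rw [hq.add, hE x hx, hE y hy] at this
      simpa using this
    by_cases hpp : B p p' = 0
    · obtain ⟨E₂, hE₂, hp'₂, hkeep, hn₂⟩ := extend hq hE₁ hm.2.1
      have hp₂ := hkeep p hp₁ hpp
      obtain ⟨z, hz, hzn⟩ := exists_notMem (E := E₂) (D := Submodule.span F {p, p'}) (by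
        have h1 : Module.finrank F (Submodule.span F {p, p'}) ≤ 2 := by
          classical
          exact (finrank_span_le_card (R := F) ({p, p'} : Set V)).trans (by
            rw [Set.toFinset_insert, Set.toFinset_singleton]; exact Finset.card_le_two)
        omega)
      exact ⟨z, hE₂ z hz, hperp hE₂ p hp₂ z hz, hperp hE₂ p' hp'₂ z hz, hzn⟩
    · obtain ⟨z, hz, hzn⟩ := exists_notMem (E := E₁ ⊓ LinearMap.ker (B.flip p')) (D := Submodule.span F {p}) (by
        have := inf_ker_finrank E₁ (B.flip p')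
        have h1 : Module.finrank F (Submodule.span F {p}) ≤ 1 := by
          have := finrank_span_le_card (R := F) ({p} : Set V); simpa using this
        omega)
      refine ⟨z, hE₁ z hz.1, hperp hE₁ p hp₁ z hz.1, by rw [symm hq]; exact hz.2, fun hmem => hzn ?_⟩
      obtain ⟨a, b, rfl⟩ := Submodule.mem_span_pair.1 hmem
      have h1 := hperp hE₁ p hp₁ _ hz.1
      simp only [map_add, map_smul, smul_eq_mul, self hq hℓ.2.1, mul_zero, zero_add, mul_eq_zero] at h1
      rw [h1.resolve_right hpp, zero_smul, add_zero]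
      exact Submodule.smul_mem _ _ (Submodule.mem_span_singleton_self p)
  have l1 := line_of_notMem hq (hℓ.1.ne_zero 0) hℓ.2.1 qz hzp fun h => hzn (Submodule.span_mono (by simp) h)
  have l2 := line_of_notMem hq (hm.1.ne_zero 0) hm.2.1 qz hzp' fun h => hzn (Submodule.span_mono (by simp) h)
  have l1' : Ln q (z, p) := ⟨LinearIndependent.pair_symm_iff.1 l1.1, qz, hℓ.2.1, by rw [add_comm]; exact l1.2.2.2⟩
  have l2' : Ln q (z, p') := ⟨LinearIndependent.pair_symm_iff.1 l2.1, qz, hm.2.1, by rw [add_comm]; exact l2.2.2.2⟩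
  exact ((((share hq hE₀ hn hℓ l1).trans (swap hq hE₀ hn l1)).trans (share hq hE₀ hn l1' l2')).trans
    (swap hq hE₀ hn l2')).trans (share hq hE₀ hn l2 hm)

end CfsgLib.Siegel
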