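import Cfsg.Agent.Lib.RootSub.SameOdd
import Cfsg.Prelude.Def_QuasithinSetup

/-!
# Root involutions with a triangle: the normal subgroups

If the odd graph is connected and some product of two commuting members is a member, a proper
normal subgroup is central modulo the 2-core.
-/

set_option autoImplicit false

namespace CfsgLib.RootInvol

variable {G : Type*} [Group G] {D : Set G}

theorem exists_triangle (hD : Cfsg.IsRootInvolutionSet D)
    (hc : Cfsg.IsConnectedSet (Cfsg.OddAdj D) D) (hDD : (D ∩ Cfsg.commutingProducts D).Nonempty)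
    {c : G} (hcD : c ∈ D) : ∃ a ∈ D, ∃ b ∈ D, a * b = b * a ∧ c = a * b := by
  obtain ⟨z, hzD, a, ha, b, hb, hab, -, rfl⟩ := hDD
  obtain ⟨g, hg⟩ := exists_conj_of_connected hD hc hzD hcD
  refine ⟨g * a * g⁻¹, hD.conj_mem a ha g, g * b * g⁻¹, hD.conj_mem b hb g, ?_, by rw [hg]; group⟩
  calc g * a * g⁻¹ * (g * b * g⁻¹) = g * (a * b) * g⁻¹ := by group
    _ = g * (b * a) * g⁻¹ := by rw [hab]
    _ = g * b * g⁻¹ * (g * a * g⁻¹) := by group

theorem eq_top_of_mem (hD : Cfsg.IsRootInvolutionSet D)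
    (hc : Cfsg.IsConnectedSet (Cfsg.OddAdj D) D) {N : Subgroup G} [hN : N.Normal] {d : G}
    (hd : d ∈ D) (hdN : d ∈ N) : N = ⊤ := by
  rw [eq_top_iff, ← hD.generates, Subgroup.closure_le]
  intro e he
  obtain ⟨g, rfl⟩ := exists_conj_of_connected hD hc hd he
  exact hN.conj_mem d hdN g

/-- two members congruent modulo a proper normal subgroup commute -/
theorem commute_of_mul_mem (hD : Cfsg.IsRootInvolutionSet D)
    (hc : Cfsg.IsConnectedSet (Cfsg.OddAdj D) D) (hDD : (D ∩ Cfsg.commutingProducts D).Nonempty)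
    {N : Subgroup G} [hN : N.Normal] (hne : N ≠ ⊤) {c x : G} (hcD : c ∈ D) (hxD : x ∈ D)
    (h : c * x ∈ N) : c * x = x * c := by
  have key : ∀ {u v : G}, u ∈ D → v ∈ D → c = u * v → u * v = v * u → x * u = u * x := by
    intro u v hu hv hc' huv
    -- modulo `N`, the product of `x` and `u` is `v`
    let π := QuotientGroup.mk' N
    have hxc : π x = π c := by
      have h1 : π (c * x) = 1 := (QuotientGroup.eq_one_iff _).2 h
      rw [map_mul, mul_eq_one_iff_eq_inv, ← map_inv, inv_eq hD hxD] at h1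
      exact h1.symm
    have hπ : π (x * u) = π v := by
      rw [map_mul, hxc, ← map_mul, hc', huv, mul_assoc, mul_self hD hu, mul_one]
    have hv2 : π v * π v = 1 := by rw [← map_mul, mul_self hD hv, map_one]
    rcases hD.pair x hxD u hu with h1 | h1 | ⟨h1, h2⟩
    · exact h1
    · obtain ⟨k, hk⟩ := h1
      have e : π ((x * u) ^ orderOf (x * u)) = π v := by
        rw [map_pow, hπ, hk, pow_succ, pow_mul, pow_two, hv2, one_pow, one_mul]
      rw [pow_orderOf_eq_one, map_one] at e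
      exact absurd (eq_top_of_mem hD hc hv ((QuotientGroup.eq_one_iff _).1 e.symm)) hne
    · have e : π ((x * u) ^ 2) = 1 := by rw [map_pow, hπ, pow_two, hv2]
      exact absurd (eq_top_of_mem hD hc h2 ((QuotientGroup.eq_one_iff _).1 e)) hne
  obtain ⟨a, ha, b, hb, hab, rfl⟩ := exists_triangle hD hc hDD hcD
  have e1 : Commute x a := key ha hb rfl hab
  have e2 : Commute x b := key hb ha hab hab.symm
  exact (e1.mul_right e2).symm

theorem map_subtype_pCore_normal (p : ℕ) (N : Subgroup G) [hN : N.Normal] :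
    ((Cfsg.pCore p ↥N).map N.subtype).Normal := by
  refine ⟨fun x hx g => ?_⟩
  obtain ⟨y, hy, rfl⟩ := Subgroup.mem_map.1 hx
  let φ : ↥N ≃* ↥N := MulAut.conjNormal g
  have hle : (Cfsg.pCore p ↥N).map φ.toMonoidHom ≤ Cfsg.pCore p ↥N := by
    rw [Cfsg.pCore, (Subgroup.gc_map_comap _).l_sSup]
    refine iSup₂_le fun M hM => le_sSup ⟨?_, hM.2.map _⟩
    exact hM.1.map _ φ.surjective
  refine Subgroup.mem_map.2 ⟨φ y, hle (Subgroup.mem_map_of_mem _ hy), ?_⟩
  simp [φ]

theorem isPGroup_pCore' (p : ℕ) (H : Type*) [Group H] [Finite H] [Fact p.Prime] :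
    IsPGroup p (Cfsg.pCore p H) := by
  obtain ⟨P⟩ : Nonempty (Sylow p H) := inferInstance
  refine P.isPGroup'.to_le (sSup_le fun M hM => ?_)
  obtain ⟨hn, hp⟩ := hM
  obtain ⟨Q, hQ⟩ := hp.exists_le_sylow
  haveI := hn
  obtain ⟨g, rfl⟩ := MulAction.exists_smul_eq H Q P
  intro m hm
  rw [Sylow.coe_subgroup_smul, Subgroup.mem_pointwise_smul_iff_inv_smul_mem, MulAut.smul_def]
  refine hQ ?_
  have := hn.conj_mem m hm g⁻¹
  simpa [MulAut.conj_inv_apply, mul_assoc] using this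

/-- a proper normal subgroup centralises every member modulo the 2-core -/
theorem conj_mul_mem_pCore [Finite G] (hD : Cfsg.IsRootInvolutionSet D)
    (hc : Cfsg.IsConnectedSet (Cfsg.OddAdj D) D) (hDD : (D ∩ Cfsg.commutingProducts D).Nonempty)
    {N : Subgroup G} [hN : N.Normal] (hne : N ≠ ⊤) {a n : G} (ha : a ∈ D) (hn : n ∈ N) :
    n * a * n⁻¹ * a ∈ Cfsg.pCore 2 G := by
  haveI : Fact (Nat.Prime 2) := ⟨Nat.prime_two⟩
  set C : Set G := {x | ∃ m ∈ N, x = m * a * m⁻¹} with hC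
  have hmul : ∀ {m : G}, m ∈ N → m * a * m⁻¹ * a ∈ N := fun {m} hm => by
    rw [show m * a * m⁻¹ * a = m * (a * m⁻¹ * a) by group]
    refine mul_mem hm ?_
    have := hN.conj_mem m⁻¹ (inv_mem hm) a
    rwa [inv_eq hD ha] at this
  have hcomm : ∀ x ∈ C, ∀ y ∈ C, x * y = y * x := by
    rintro _ ⟨m, hm, rfl⟩ _ ⟨k, hk, rfl⟩
    refine commute_of_mul_mem hD hc hDD hne (hD.conj_mem a ha m) (hD.conj_mem a ha k) ?_
    have e : m * a * m⁻¹ * (k * a * k⁻¹) = (m * a * m⁻¹ * a) * (k * a * k⁻¹ * a)⁻¹ := by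
      simp only [mul_inv_rev, inv_inv, inv_eq hD ha, mul_assoc]
      rw [← mul_assoc a a, mul_self hD ha, one_mul]
    rw [e]
    exact mul_mem (hmul hm) (inv_mem (hmul hk))
  set W := Subgroup.closure C
  haveI hWcomm : IsMulCommutative ↥W := Subgroup.isMulCommutative_closure hcomm
  set P := W.subgroupOf N
  have hP2 : IsPGroup 2 P := by
    intro x
    refine ⟨1, Subtype.ext (Subtype.ext ?_)⟩
    have hx : ((x : ↥N) : G) ∈ W := x.2
    show ((x : ↥N) : G) ^ 2 ^ 1 = 1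
    rw [pow_one]
    generalize ((x : ↥N) : G) = z at hx
    induction hx using Subgroup.closure_induction with
    | mem y hy =>
      obtain ⟨m, -, rfl⟩ := hy
      rw [pow_two, show m * a * m⁻¹ * (m * a * m⁻¹) = m * (a * a) * m⁻¹ by group, mul_self hD ha]
      group
    | one => simp
    | mul y w hy hw e1 e2 =>
      have : Commute y w := congrArg Subtype.val (hWcomm.is_comm.comm ⟨y, hy⟩ ⟨w, hw⟩)
      rw [this.mul_pow, e1, e2, one_mul]
    | inv y _ e => rw [inv_pow, e, inv_one]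
  have hPn : P.Normal := by
    refine ⟨fun x hx g => ?_⟩
    rw [Subgroup.mem_subgroupOf] at hx ⊢
    have hmap : W.map (MulAut.conj (g : G)).toMonoidHom ≤ W := by
      rw [MonoidHom.map_closure, Subgroup.closure_le]
      rintro _ ⟨_, ⟨m, hm, rfl⟩, rfl⟩
      refine Subgroup.subset_closure ⟨g * m, mul_mem g.2 hm, ?_⟩
      simp [MulAut.conj_apply, mul_assoc]
    exact hmap ⟨_, hx, by simp [MulAut.conj_apply]⟩
  have hle : (Cfsg.pCore 2 ↥N).map N.subtype ≤ Cfsg.pCore 2 G :=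
    le_sSup ⟨map_subtype_pCore_normal 2 N, (isPGroup_pCore' 2 ↥N).map _⟩
  have hPle : P ≤ Cfsg.pCore 2 ↥N := le_sSup ⟨hPn, hP2⟩
  refine hle ⟨⟨_, hmul hn⟩, hPle ?_, rfl⟩
  show n * a * n⁻¹ * a ∈ W
  exact mul_mem (Subgroup.subset_closure ⟨n, hn, rfl⟩) (Subgroup.subset_closure ⟨1, one_mem _, by simp⟩)

theorem le_twoZCore_of_ne_top [Finite G] (hD : Cfsg.IsRootInvolutionSet D)
    (hc : Cfsg.IsConnectedSet (Cfsg.OddAdj D) D) (hDD : (D ∩ Cfsg.commutingProducts D).Nonempty)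
    {N : Subgroup G} [N.Normal] (hne : N ≠ ⊤) : N ≤ Cfsg.twoZCore G := by
  haveI : (Cfsg.pCore 2 G).Normal := Cfsg.pCore_normal 2 G
  intro n hn
  rw [Cfsg.twoZCore, Subgroup.mem_comap, Subgroup.mem_center_iff]
  intro q
  obtain ⟨g, rfl⟩ := QuotientGroup.mk'_surjective (Cfsg.pCore 2 G) q
  have hg : g ∈ Subgroup.closure D := hD.generates ▸ Subgroup.mem_top g
  induction hg using Subgroup.closure_induction with
  | mem a ha =>
    have h1 := (QuotientGroup.eq_one_iff _).2 (conj_mul_mem_pCore hD hc hDD hne ha hn)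
    rw [← QuotientGroup.mk'_apply] at h1
    have h1' : QuotientGroup.mk' (Cfsg.pCore 2 G) (n * a * n⁻¹ * a⁻¹) = 1 := by rwa [inv_eq hD ha]
    simp only [map_mul, map_inv] at h1'
    exact (commutatorElement_eq_one_iff_commute.1 h1').symm
  | one => simp
  | mul x y _ _ e1 e2 => rw [map_mul, mul_assoc, e2, ← mul_assoc, e1, mul_assoc]
  | inv x _ e =>
    rw [map_inv]
    exact (show Commute (QuotientGroup.mk' _ x) (QuotientGroup.mk' _ n) from e).inv_left

theorem commutator_not_le [Finite G] (hD : Cfsg.IsRootInvolutionSet D)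
    (hc : Cfsg.IsConnectedSet (Cfsg.OddAdj D) D) (hDD : (D ∩ Cfsg.commutingProducts D).Nonempty) :
    ¬ commutator G ≤ Cfsg.twoZCore G := by
  intro hle
  haveI : Fact (Nat.Prime 2) := ⟨Nat.prime_two⟩
  haveI : (Cfsg.pCore 2 G).Normal := Cfsg.pCore_normal 2 G
  obtain ⟨z, hzD, a, ha, b, hb, hab, hne, rfl⟩ := hDD
  have hab' : a ≠ b := fun e => hne (by rw [e, mul_self hD hb])
  rcases (hc a ha b hb).cases_head with e | ⟨x, hx, -⟩
  · exact hab' e
  obtain ⟨-, hxD, hax, hodd⟩ := hx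
  let π := QuotientGroup.mk' (Cfsg.pCore 2 G)
  set c := a * x with hcdef
  have hcomm : Commute (π a) (π (a * c * a⁻¹ * c⁻¹)) := by
    have h1 : a * c * a⁻¹ * c⁻¹ ∈ Cfsg.twoZCore G :=
      hle (Subgroup.commutator_mem_commutator (Subgroup.mem_top a) (Subgroup.mem_top c))
    rw [Cfsg.twoZCore, Subgroup.mem_comap, Subgroup.mem_center_iff] at h1
    exact h1 (π a)
  have e : a * c * a⁻¹ = c⁻¹ := by
    rw [hcdef, mul_inv_rev, inv_eq hD ha, inv_eq hD hxD,
      show a * (a * x) * a = a * a * x * a by group, mul_self hD ha, one_mul]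
  rw [e] at hcomm
  set u := π c with hu
  have hinv : π a * u * (π a)⁻¹ = u⁻¹ := by rw [hu, ← map_inv, ← map_mul, ← map_mul, e, map_inv]
  have h4 : u ^ 4 = 1 := by
    rw [map_mul, map_inv, ← hu] at hcomm
    have e1 : π a * (u⁻¹ * u⁻¹) * (π a)⁻¹ = u⁻¹ * u⁻¹ := by rw [hcomm.eq]; group
    have e2 : π a * (u⁻¹ * u⁻¹) * (π a)⁻¹ = (π a * u * (π a)⁻¹)⁻¹ * (π a * u * (π a)⁻¹)⁻¹ := by group
    rw [e1, hinv, inv_inv] at e2
    rw [show u ^ 4 = (u * u) * (u * u) by rw [← pow_two, ← pow_two, ← pow_mul]]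
    calc (u * u) * (u * u) = (u⁻¹ * u⁻¹) * (u * u) := by rw [e2]
      _ = 1 := by group
  have hk : u ^ orderOf c = 1 := by rw [hu, ← map_pow, pow_orderOf_eq_one, map_one]
  have hcop : Nat.Coprime 4 (orderOf c) := by
    rw [show 4 = 2 ^ 2 by norm_num]
    exact (Nat.coprime_two_left.2 hodd).pow_left 2
  have hu1 : u = 1 := orderOf_eq_one_iff.1 (Nat.eq_one_of_dvd_coprimes hcop
    (orderOf_dvd_of_pow_eq_one h4) (orderOf_dvd_of_pow_eq_one hk))
  have hcP : c ∈ Cfsg.pCore 2 G := (QuotientGroup.eq_one_iff _).1 hu1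
  obtain ⟨j, hj⟩ := isPGroup_pCore' 2 G ⟨c, hcP⟩
  have hj' : c ^ 2 ^ j = 1 := congrArg Subtype.val hj
  have hc1 : c = 1 := orderOf_eq_one_iff.1 (Nat.eq_one_of_dvd_coprimes
    ((Nat.coprime_two_left.2 hodd).pow_left j) (orderOf_dvd_of_pow_eq_one hj') dvd_rfl)
  exact hax (by rw [← inv_eq hD ha]; exact inv_eq_of_mul_eq_one_right hc1)

theorem twoZCore_solvable [Finite G] : Group.IsSolvable ↥(Cfsg.twoZCore G) := by
  haveI : Fact (Nat.Prime 2) := ⟨Nat.prime_two⟩
  haveI : (Cfsg.pCore 2 G).Normal := Cfsg.pCore_normal 2 G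
  haveI := (isPGroup_pCore' 2 G).isNilpotent
  let f : ↥(Cfsg.pCore 2 G) →* ↥(Cfsg.twoZCore G) := Subgroup.inclusion (by
    intro x hx
    rw [Cfsg.twoZCore, Subgroup.mem_comap, QuotientGroup.mk'_apply, (QuotientGroup.eq_one_iff x).2 hx]
    exact one_mem _)
  let g : ↥(Cfsg.twoZCore G) →* ↥(Subgroup.center (G ⧸ Cfsg.pCore 2 G)) :=
    ((QuotientGroup.mk' _).comp (Cfsg.twoZCore G).subtype).codRestrict _ fun x => x.2
  haveI : Group.IsSolvable ↥(Subgroup.center (G ⧸ Cfsg.pCore 2 G)) := Group.isSolvable_of_comm fun a b =>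
    Subtype.ext (Subgroup.mem_center_iff.1 b.2 a)
  refine Group.isSolvable_of_ker_le_range f g fun x hx => ?_
  exact ⟨⟨x, (QuotientGroup.eq_one_iff _).1 (congrArg Subtype.val hx)⟩, rfl⟩

theorem radical_and_simple [Finite G] (hD : Cfsg.IsRootInvolutionSet D)
    (hc : Cfsg.IsConnectedSet (Cfsg.OddAdj D) D) (hDD : (D ∩ Cfsg.commutingProducts D).Nonempty) :
    Cfsg.solvableRadical G = Cfsg.twoZCore G ∧ IsSimpleGroup (G ⧸ Cfsg.twoZCore G) := by
  have hmax : ∀ N : Subgroup G, N.Normal → N ≠ ⊤ → N ≤ Cfsg.twoZCore G := fun N hN hne => by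
    haveI := hN
    exact le_twoZCore_of_ne_top hD hc hDD hne
  have hcore := commutator_not_le hD hc hDD
  have htop : Cfsg.twoZCore G ≠ ⊤ := fun e => hcore (e ▸ le_top)
  refine ⟨le_antisymm (sSup_le fun N hN => ?_) (le_sSup ⟨inferInstance, twoZCore_solvable⟩), ?_⟩
  · obtain ⟨hn, hs⟩ := hN
    refine hmax N hn fun e => ?_
    subst e
    haveI := hs
    haveI : Group.IsSolvable G := Group.isSolvable_of_surjective (f := (Subgroup.topEquiv : (⊤ : Subgroup G) ≃* G).toMonoidHom) Subgroup.topEquiv.surjective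
    obtain ⟨d, hd, -⟩ := hDD
    haveI : Nontrivial G := ⟨⟨d, 1, fun e => by
      have := hD.orderOf_eq d hd
      rw [e, orderOf_one] at this
      omega⟩⟩
    exact hcore (hmax (commutator G) inferInstance (Group.IsSolvable.commutator_lt_top_of_nontrivial G).ne)
  · haveI : Nontrivial (G ⧸ Cfsg.twoZCore G) := QuotientGroup.nontrivial_iff.2 htop
    refine ⟨fun M hM => ?_⟩
    by_cases h : M = ⊤
    · exact Or.inr h
    left
    have hne : M.comap (QuotientGroup.mk' (Cfsg.twoZCore G)) ≠ ⊤ := fun e => h (by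
      rw [← Subgroup.map_comap_eq_self_of_surjective (QuotientGroup.mk'_surjective _) M, e,
        Subgroup.map_top_of_surjective _ (QuotientGroup.mk'_surjective _)])
    rw [eq_bot_iff]
    intro x hx
    obtain ⟨g, rfl⟩ := QuotientGroup.mk'_surjective _ x
    exact Subgroup.mem_bot.2 ((QuotientGroup.eq_one_iff g).2 (hmax _ (hM.comap _) hne hx))

end CfsgLib.RootInvol
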