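import Cfsg.Agent.Lib.RootSub.Special
import Cfsg.Agent.Lib.Coprime.Component
import Cfsg.Agent.S5022

/-!
# Structure of special rank one groups with abelian unipotent subgroups

If the unipotent subgroup has more than three elements then it is the commutator with the diagonal
subgroup, and the group is quasisimple; otherwise the group is one of the three small ones.
-/

set_option autoImplicit false
set_option linter.style.haveILetI false

namespace CfsgLib.RootSub

open Subgroup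
open scoped commutatorElement

variable {G : Type*} [Group G]

theorem conjBy_inv_eq {A B : Subgroup G} {g : G} (h : Cfsg.conjBy A g = B) : Cfsg.conjBy B g⁻¹ = A := by
  rw [← h, conjBy_conjBy, inv_mul_cancel, conjBy_one]

theorem mem_diagonal {A B : Subgroup G} {m n : G} (hm : m ∈ A ⊔ B) (hn : n ∈ A ⊔ B)
    (hm1 : Cfsg.conjBy A m = B) (hm2 : Cfsg.conjBy B m = A)
    (hn1 : Cfsg.conjBy A n = B) (hn2 : Cfsg.conjBy B n = A) : m * n ∈ Cfsg.rankOneDiagonal A B :=
  ⟨⟨mul_mem hm hn, conjBy_eq_self_iff.1 (by rw [← conjBy_conjBy, hn1, hm2])⟩,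
    conjBy_eq_self_iff.1 (by rw [← conjBy_conjBy, hn2, hm1])⟩

theorem commutator_diagonal_le (A B : Subgroup G) : ⁅A, Cfsg.rankOneDiagonal A B⁆ ≤ A := by
  rw [commutator_le]
  intro a ha h hh
  rw [commutatorElement_def, mul_assoc a h, mul_assoc a]
  exact mul_mem ha ((Subgroup.mem_normalizer_iff.1 hh.1.2 a⁻¹).1 (inv_mem ha))

/-- the commutator with the diagonal subgroup is all of `A` -/
theorem special_le_commutator_diagonal {A B : Subgroup G} (h : Cfsg.IsSpecialRankOnePair A B)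
    (hA : ∀ x ∈ A, ∀ y ∈ A, x * y = y * x) (hB : ∀ x ∈ B, ∀ y ∈ B, x * y = y * x)
    (hcard : ∀ a ∈ A, ∃ w ∈ A, w ≠ 1 ∧ a * w ≠ 1 ∧ a * (a * w) ≠ 1) :
    A ≤ ⁅A, Cfsg.rankOneDiagonal A B⁆ := by
  set H := Cfsg.rankOneDiagonal A B with hH
  set C := ⁅A, H⁆ with hC
  haveI : IsMulCommutative ↥A := ⟨⟨fun a b => Subtype.ext (hA a a.2 b b.2)⟩⟩
  haveI : (C.subgroupOf A).Normal := ⟨fun x hx g => by
    rwa [show g * x * g⁻¹ = x from by
      rw [Subtype.ext_iff]; simp only [Subgroup.coe_mul, Subgroup.coe_inv]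
      rw [hA g g.2 x x.2, mul_inv_cancel_right]]⟩
  letI : CommGroup (↥A ⧸ C.subgroupOf A) :=
    { (inferInstance : Group (↥A ⧸ C.subgroupOf A)) with
      mul_comm := fun u v => by
        induction u using QuotientGroup.induction_on
        induction v using QuotientGroup.induction_on
        rw [← QuotientGroup.mk_mul, ← QuotientGroup.mk_mul, IsMulCommutative.is_comm.comm] }
  let π : ↥A →* ↥A ⧸ C.subgroupOf A := QuotientGroup.mk' _
  let c : ∀ x : G, x ∈ A → ↥A ⧸ C.subgroupOf A := fun x hx => π ⟨x, hx⟩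
  have cmul : ∀ {x y : G} (hx : x ∈ A) (hy : y ∈ A), c (x * y) (mul_mem hx hy) = c x hx * c y hy :=
    fun hx hy => map_mul π ⟨_, hx⟩ ⟨_, hy⟩
  have cH : ∀ {x z k : G} (hx : x ∈ A) (hz : z ∈ A), k ∈ H → k * x * k⁻¹ = z → c x hx = c z hz := by
    intro x z k hx hz hk e
    refine (QuotientGroup.eq).2 ?_
    show x⁻¹ * z ∈ C
    rw [hA x⁻¹ (inv_mem hx) z hz, ← e, hC, Subgroup.commutator_comm]
    exact commutator_mem_commutator hk hx
  intro a₀ ha₀
  rcases eq_or_ne a₀ 1 with rfl | ha₀1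
  · exact one_mem _
  obtain ⟨F₀, hF₀, -, -, -, hn₀A, hn₀B, -⟩ := special_element h hB ha₀ ha₀1
  set n₀ := a₀ * F₀ * a₀ with hn₀
  have hX : ∀ {a F : G}, a ∈ A → F ∈ B → a * F * a ∈ A ⊔ B := fun ha hF =>
    mul_mem (mul_mem (mem_sup_left ha) (mem_sup_right hF)) (mem_sup_left ha)
  have hdm : ∀ {y : G}, y ∈ B → n₀⁻¹ * y * n₀ ∈ A := fun {y} hy => by
    have h1 := conjBy_inv_eq hn₀A
    have h2 : n₀⁻¹ * y * n₀⁻¹⁻¹ ∈ Cfsg.conjBy B n₀⁻¹ := conj_mem_conjBy hy
    rwa [h1, inv_inv] at h2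
  let d : ∀ y : G, y ∈ B → ↥A ⧸ C.subgroupOf A := fun y hy => c _ (hdm hy)
  have hbrid : ∀ {a F : G}, a * F * a = F * a * F → a * F * a * a * (a * F * a)⁻¹ = F := by
    intro a F hbr
    calc a * F * a * a * (a * F * a)⁻¹ = a * F * a * (F⁻¹ * a⁻¹) := by group
      _ = F * a * F * (F⁻¹ * a⁻¹) := by rw [hbr]
      _ = F := by group
  have dF : ∀ {a F : G} (ha : a ∈ A) (hF : F ∈ B), a * F * a = F * a * F →
      Cfsg.conjBy A (a * F * a) = B → Cfsg.conjBy B (a * F * a) = A → d F hF = c a ha := by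
    intro a F ha hF hbr h1 h2
    refine (cH ha _ (mem_diagonal (inv_mem (hX ha₀ hF₀)) (hX ha hF) (conjBy_inv_eq hn₀B)
      (conjBy_inv_eq hn₀A) h1 h2) ?_).symm
    conv_rhs => rw [← hbrid hbr]
    rw [hn₀]
    group
  have key : ∀ a ∈ A, ∀ w ∈ A, a ≠ 1 → w ≠ 1 → a * w ≠ 1 → ∀ (ha' : a ∈ A) (hw' : w ∈ A),
      c a ha' * c w hw' * c w hw' = 1 := by
    intro a ha w hw ha1 hw1 haw ha' hw'
    obtain ⟨F, hF, -, -, hbrF, hAn, hBn, -⟩ := special_element h hB ha ha1
    obtain ⟨W, hW, -, -, hbrw, hAm, hBm, heW⟩ := special_element h hB hw hw1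
    obtain ⟨U, hU, -, -, hbrU, hAu, hBu, heU⟩ := special_element h hB (mul_mem ha hw) haw
    set n := a * F * a with hn
    set m := w * W * w with hm
    have ht : n * W * n⁻¹ ∈ A := hBn ▸ conj_mem_conjBy hW
    set t := n * W * n⁻¹ with htdef
    have hnF : n * F⁻¹ * n⁻¹ = a⁻¹ := by
      calc n * F⁻¹ * n⁻¹ = (a * F * a) * F⁻¹ * a⁻¹ * F⁻¹ * a⁻¹ := by rw [hn]; group
        _ = (F * a * F) * F⁻¹ * a⁻¹ * F⁻¹ * a⁻¹ := by rw [← hbrF, hn]
        _ = a⁻¹ := by group
    have hWF : F⁻¹ * W⁻¹ = W⁻¹ * F⁻¹ := hB _ (inv_mem hF) _ (inv_mem hW)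
    have hpt : Cfsg.conjBy A (F * U⁻¹) = Cfsg.conjBy B (a * t)⁻¹ := by
      rw [← conjBy_conjBy, heU, conjBy_conjBy,
        show F * (a * w) = (F * a * F) * F⁻¹ * w by group, ← hbrF, ← conjBy_conjBy, ← heW,
        conjBy_conjBy, mul_assoc n, hWF,
        show n * (W⁻¹ * F⁻¹) = (n * W * n⁻¹)⁻¹ * (n * F⁻¹ * n⁻¹) * n by group,
        hnF, ← conjBy_conjBy, hAn, ← htdef, mul_inv_rev a t]
    have hat : a * t ≠ 1 := by
      intro e
      rw [e, inv_one, conjBy_one] at hpt
      have h1 := congrArg (fun V => Cfsg.conjBy V (F * U⁻¹)⁻¹) hpt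
      simp only [conjBy_conjBy, inv_mul_cancel, conjBy_one] at h1
      rw [conjBy_eq_self_of_mem (inv_mem (mul_mem hF (inv_mem hU)))] at h1
      exact h.1.ne h1
    obtain ⟨V, hV, -, heV, hbrV, hAv, hBv, -⟩ := special_element h hB (mul_mem ha ht) hat
    have hVU : V = F * U⁻¹ := by
      have h1 := conjBy_eq_iff.1 (hpt.trans heV.symm)
      exact inv_mul_eq_one.1
        (eq_one_of_mem_normalizer h.1 (mul_mem (inv_mem hV) (mul_mem hF (inv_mem hU))) h1)
    have hct : c t ht = c w hw := by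
      refine (cH hw ht (mem_diagonal (hX ha hF) (hX hw hW) hAn hBn hAm hBm) ?_).symm
      calc n * m * w * (n * m)⁻¹ = n * (m * w * m⁻¹) * n⁻¹ := by group
        _ = t := by rw [hm, hbrid hbrw]
    have e1 := dF (mul_mem ha ht) hV hbrV hAv hBv
    rw [cmul ha ht, hct] at e1
    have e2 : d V hV = d F hF * (d U hU)⁻¹ := by
      subst hVU
      show c _ _ = _
      refine Eq.trans (congrArg π ?_) ((map_mul π ⟨_, hdm hF⟩ ⟨_, hdm hU⟩⁻¹).trans
        (congrArg _ (map_inv π _)))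
      refine Subtype.ext ?_
      simp only [Subgroup.coe_mul, Subgroup.coe_inv]
      group
    rw [e1, dF ha hF hbrF hAn hBn, dF (mul_mem ha hw) hU hbrU hAu hBu, cmul ha hw, mul_inv,
      mul_inv_cancel_left] at e2
    show c a ha * c w hw * c w hw = 1
    rw [e2, inv_mul_cancel]
  obtain ⟨w, hw, hw1, haw, haaw⟩ := hcard a₀ ha₀
  have e1 := key w hw a₀ ha₀ hw1 ha₀1 (by rwa [hA w hw a₀ ha₀]) hw ha₀
  have e2 := key (a₀ * w) (mul_mem ha₀ hw) a₀ ha₀ haw ha₀1
    (by rwa [hA (a₀ * w) (mul_mem ha₀ hw) a₀ ha₀]) (mul_mem ha₀ hw) ha₀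
  rw [cmul ha₀ hw, mul_assoc (c a₀ ha₀) (c w hw), mul_assoc (c a₀ ha₀), e1, mul_one] at e2
  exact (QuotientGroup.eq_one_iff (N := C.subgroupOf A) (⟨a₀, ha₀⟩ : ↥A)).1 e2

variable {A B : Subgroup G}

theorem exists_third (hcard : 3 < ENat.card A) :
    ∀ a ∈ A, ∃ w ∈ A, w ≠ 1 ∧ a * w ≠ 1 ∧ a * (a * w) ≠ 1 := by
  classical
  intro a ha
  by_contra hn
  push Not at hn
  refine absurd hcard (not_lt.2 ?_)
  have hsub : (A : Set G) ⊆ ({1, a⁻¹, a⁻¹ * a⁻¹} : Finset G) := by
    intro w hw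
    simp only [Finset.coe_insert, Finset.coe_singleton, Set.mem_insert_iff, Set.mem_singleton_iff]
    by_contra hc
    push Not at hc
    exact hc.2.2 (by
      have := hn w hw hc.1 (fun e => hc.2.1 (eq_inv_of_mul_eq_one_right e))
      rw [← mul_assoc] at this
      rw [eq_inv_of_mul_eq_one_right this, mul_inv_rev])
  calc ENat.card A = (A : Set G).encard := (Set.toENat_cardinalMk _)
    _ ≤ (({1, a⁻¹, a⁻¹ * a⁻¹} : Finset G) : Set G).encard := Set.encard_le_encard hsub
    _ ≤ 3 := by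
      rw [Set.encard_coe_eq_coe_finsetCard]
      exact_mod_cast Finset.card_le_three

theorem normal_le_center (h : Cfsg.IsRankOneGroup G A B) (hab : IsMulCommutative A)
    (hperf : commutator G = ⊤) {N : Subgroup G} [hN : N.Normal] (hne : N ≠ ⊤) : N ≤ center G := by
  intro n hn
  rw [Subgroup.mem_center_iff]
  intro x
  refine central_of_normalizes_all h.2 (h.1 ▸ mem_top n) (fun C hC => ?_) x (h.1 ▸ mem_top x)
  by_contra hnot
  apply hne
  have hmove : Cfsg.conjBy C n ≠ C := fun e => hnot (conjBy_eq_self_iff.1 e)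
  have htrans : ∀ D ∈ Cfsg.unipotentSubgroups A B, D ≠ A → ∃ k ∈ N, D = Cfsg.conjBy A k := by
    intro D hD hDA
    obtain ⟨y, -, e1, e2⟩ := two_transitive h.2 hC
      (conjBy_mem_unipotent h.2 hC (h.1 ▸ mem_top n)) hmove.symm
    obtain ⟨z, -, f1, f2⟩ := two_transitive h.2 (left_mem h.2) hD (Ne.symm hDA)
    refine ⟨z * y⁻¹ * n * (z * y⁻¹)⁻¹, hN.conj_mem n hn _, ?_⟩
    have hB' : B = Cfsg.conjBy (Cfsg.conjBy C n) y⁻¹ := by
      rw [e2, conjBy_conjBy, inv_mul_cancel, conjBy_one]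
    have hA' : Cfsg.conjBy A (y * z⁻¹) = C := by
      have h1 : Cfsg.conjBy A z⁻¹ = A := (conjBy_inv_eq f1.symm)
      rw [← conjBy_conjBy, h1, e1]
    rw [f2, hB', ← hA', conjBy_conjBy, conjBy_conjBy, conjBy_conjBy]
    congr 1
    group
  have hAN : N ⊔ A = ⊤ := by
    rw [eq_top_iff, ← h.1]
    refine sup_le le_sup_right ?_
    obtain ⟨k, hk, e⟩ := htrans B (right_mem h.2) h.2.ne.symm
    rw [e]
    rintro _ ⟨a, ha, rfl⟩
    exact mul_mem (mul_mem (mem_sup_left hk) (mem_sup_right ha)) (inv_mem (mem_sup_left hk))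
  rw [eq_top_iff, ← hperf, commutator_def, commutator_le]
  intro u _ v _
  rw [← QuotientGroup.eq_one_iff, ← QuotientGroup.mk'_apply, map_commutatorElement,
    commutatorElement_eq_one_iff_commute]
  have hrep : ∀ g : G, ∃ a ∈ A, QuotientGroup.mk' N g = QuotientGroup.mk' N a := fun g => by
    obtain ⟨k, hk, a, ha, rfl⟩ := Subgroup.mem_sup_of_normal_left.1 (hAN ▸ mem_top g)
    have hk1 : QuotientGroup.mk' N k = 1 := (QuotientGroup.eq_one_iff k).2 hk
    exact ⟨a, ha, by rw [map_mul, hk1, one_mul]⟩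
  obtain ⟨a, ha, ea⟩ := hrep u
  obtain ⟨b, hb, eb⟩ := hrep v
  rw [ea, eb, Commute, SemiconjBy, ← map_mul, ← map_mul]
  exact congrArg _ (congrArg Subtype.val (hab.is_comm.comm ⟨a, ha⟩ ⟨b, hb⟩))

theorem special_dichotomy {X : Type*} [Group X] {A B : Subgroup X} (h : Cfsg.IsRankOneGroup X A B)
    (hs : Cfsg.IsSpecialRankOnePair A B) (hab : Cfsg.HasAbelianUnipotents A B) :
    (ENat.card A ≤ 3 ∧ (Nonempty (X ≃* Matrix.SpecialLinearGroup (Fin 2) (ZMod 2)) ∨
        Nonempty (X ≃* Matrix.SpecialLinearGroup (Fin 2) (ZMod 3)) ∨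
        Nonempty (X ≃* Matrix.ProjectiveSpecialLinearGroup (Fin 2) (ZMod 3)))) ∨
    (commutator X ⊔ A = ⊤ ∧ Cfsg.IsQuasisimple (commutator X) ∧
      3 < ENat.card ↥(⁅A, Cfsg.rankOneDiagonal A B⁆ : Subgroup X)) := by
  have hA : ∀ x ∈ A, ∀ y ∈ A, x * y = y * x := fun x hx y hy =>
    congrArg Subtype.val (hab.1.is_comm.comm ⟨x, hx⟩ ⟨y, hy⟩)
  have hB : ∀ x ∈ B, ∀ y ∈ B, x * y = y * x := fun x hx y hy =>
    congrArg Subtype.val (hab.2.is_comm.comm ⟨x, hx⟩ ⟨y, hy⟩)
  obtain ⟨a, ha, ha1⟩ := (exists_ne_one hs.1).1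
  obtain ⟨F, hF, hF1, -, hbr, hnA, hnB, -⟩ := special_element hs hB ha ha1
  rcases le_or_gt (ENat.card A) 3 with hsmall | hbig
  · refine Or.inl ⟨hsmall, ?_⟩
    haveI : Finite A := ENat.card_lt_top.1 (lt_of_le_of_lt hsmall (ENat.coe_lt_top 3))
    have hle : Nat.card A ≤ 3 := by
      rw [ENat.card_eq_coe_natCard] at hsmall
      exact_mod_cast hsmall
    have hge : 2 ≤ Nat.card A := by
      haveI : Nontrivial A := ⟨⟨⟨a, ha⟩, 1, fun e => ha1 (congrArg Subtype.val e)⟩⟩
      exact Finite.one_lt_card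
    have hp : (Nat.card A).Prime := by
      rcases Nat.le.dest hge with ⟨k, hk⟩
      have : Nat.card A = 2 ∨ Nat.card A = 3 := by omega
      rcases this with e | e <;> rw [e]
      exacts [Nat.prime_two, Nat.prime_three]
    haveI : Fact (Nat.card A).Prime := ⟨hp⟩
    have hexp : ∀ x ∈ A, x ^ Nat.card A = 1 := fun x hx =>
      congrArg Subtype.val (pow_card_eq_one' (x := (⟨x, hx⟩ : A)))
    obtain ⟨b, hb, hb1, he⟩ := hs.1.cond_left a ha ha1
    have hAz : A ≤ Subgroup.closure ({a, b} : Set X) := by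
      intro x hx
      obtain ⟨j, hj⟩ := Subgroup.mem_zpowers_iff.1 (mem_zpowers_of_prime_card rfl
        (g := (⟨a, ha⟩ : A)) (g' := ⟨x, hx⟩) fun e => ha1 (congrArg Subtype.val e))
      rw [show x = a ^ j from (congrArg Subtype.val hj).symm]
      exact Subgroup.zpow_mem _ (Subgroup.subset_closure (Set.mem_insert _ _)) j
    have hBz : B ≤ Subgroup.closure ({a, b} : Set X) := by
      have hcard : Nat.card B = Nat.card A :=
        hnA ▸ Subgroup.card_map_of_injective (K := A) (f := (MulAut.conj (a * F * a)).toMonoidHom)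
          (MulAut.conj (a * F * a)).injective
      intro x hx
      obtain ⟨j, hj⟩ := Subgroup.mem_zpowers_iff.1 (mem_zpowers_of_prime_card hcard
        (g := (⟨b, hb⟩ : B)) (g' := ⟨x, hx⟩) fun e => hb1 (congrArg Subtype.val e))
      rw [show x = b ^ j from (congrArg Subtype.val hj).symm]
      exact Subgroup.zpow_mem _ (Subgroup.subset_closure (Set.mem_insert_of_mem a (Set.mem_singleton b))) j
    have htop : Subgroup.closure ({a, b} : Set X) = ⊤ := top_le_iff.1 (h.1 ▸ sup_le hAz hBz)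
    let e : ↥(Subgroup.closure ({a, b} : Set X)) ≃* X :=
      (MulEquiv.subgroupCongr htop).trans Subgroup.topEquiv
    have : Nat.card A = 2 ∨ Nat.card A = 3 := by omega
    rcases this with e2 | e3
    · have hiso := Cfsg.Agent.S5022.result h hs hab (p := 2) ⟨hab.1, fun x hx => e2 ▸ hexp x hx⟩
        ha ha1 hb hb1 he
      refine Or.inl ?_
      rcases hiso with hf | hf <;> obtain f := hf.some
      · exact ⟨e.symm.trans f⟩
      · refine ⟨(e.symm.trans f).trans (MulEquiv.ofBijective (QuotientGroup.mk' (center _))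
          ⟨(injective_iff_map_eq_one _).2 fun x hx => ?_, QuotientGroup.mk'_surjective _⟩).symm⟩
        have hx' : x ∈ center _ := (QuotientGroup.eq_one_iff x).1 hx
        obtain ⟨r, hr, hrx⟩ := Matrix.SpecialLinearGroup.mem_center_iff.1 hx'
        have hr1 : r = 1 := by revert hr; generalize r = s; revert s; decide
        ext i j
        rw [← hrx, hr1, map_one]
        rfl
    · have hiso := Cfsg.Agent.S5022.result h hs hab (p := 3) ⟨hab.1, fun x hx => e3 ▸ hexp x hx⟩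
        ha ha1 hb hb1 he
      rcases hiso with hf | hf <;> obtain f := hf.some
      · exact Or.inr (Or.inl ⟨e.symm.trans f⟩)
      · exact Or.inr (Or.inr ⟨e.symm.trans f⟩)
  · refine Or.inr ?_
    have hthird := exists_third hbig
    have hAC := special_le_commutator_diagonal hs hA hB hthird
    have hperf : commutator X = ⊤ := by
      have h1 : A ≤ ⁅A ⊔ B, A ⊔ B⁆ := special_le_derived hs hA hB hthird
      rw [h.1] at h1
      rw [eq_top_iff, ← h.1]
      refine sup_le h1 ?_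
      rw [← hnA]
      rintro _ ⟨x, hx, rfl⟩
      exact (inferInstance : (commutator X).Normal).conj_mem x (h1 hx) _
    refine ⟨by rw [hperf, top_sup_eq], ?_, ?_⟩
    · refine CfsgLib.Coprime.isQuasisimple_congr
        ((MulEquiv.subgroupCongr hperf).trans Subgroup.topEquiv).symm ⟨⟨hperf⟩, ?_⟩
      have hc : center X ≠ ⊤ := fun e => by
        have hbot : commutator X = ⊥ := by
          rw [_root_.commutator_def, commutator_eq_bot_iff_le_centralizer]
          intro x _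
          rw [Subgroup.mem_centralizer_iff]
          intro y _
          exact Subgroup.mem_center_iff.1 (e ▸ mem_top x) y
        rw [hperf] at hbot
        exact ha1 (Subgroup.mem_bot.1 (hbot ▸ mem_top a))
      haveI : Nontrivial (X ⧸ center X) := QuotientGroup.nontrivial_iff.2 hc
      refine ⟨fun M hM => ?_⟩
      by_cases hMt : M = ⊤
      · exact Or.inr hMt
      refine Or.inl (eq_bot_iff.2 fun x hx => ?_)
      obtain ⟨g, rfl⟩ := QuotientGroup.mk'_surjective _ x
      haveI := hM.comap (QuotientGroup.mk' (center X))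
      refine Subgroup.mem_bot.2 ((QuotientGroup.eq_one_iff g).2 (normal_le_center h hab.1 hperf
        (N := M.comap (QuotientGroup.mk' (center X))) (fun e => hMt ?_) hx))
      rw [← map_comap_eq_self_of_surjective (QuotientGroup.mk'_surjective _) M, e,
        map_top_of_surjective _ (QuotientGroup.mk'_surjective _)]
    · rw [show ⁅A, Cfsg.rankOneDiagonal A B⁆ = A from le_antisymm (commutator_diagonal_le A B) hAC]
      exact hbig

end CfsgLib.RootSub
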