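import Cfsg.Agent.Lib.RootSub.Commutator
import Cfsg.Agent.Lib.RootSub.SpecialStructure

/-!
# Degenerate classes of abstract root subgroups with commuting members: rank one pairs are special

For a rank one pair `A`, `B` and a member `C` commuting with `A` and rank one to `B`, an element of
`⟨A, C⟩` supplies the missing symmetry.  If all members commuting with `A` commute with `B`, a third
member `D` shows that `A` has exponent two.
-/

set_option autoImplicit false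

namespace CfsgLib.RootSub

open Subgroup
open scoped commutatorElement

variable {G : Type*} [Group G]

theorem conjBy_of_commute {A : Subgroup G} {g : G} (h : ∀ a ∈ A, g * a = a * g) :
    Cfsg.conjBy A g = A :=
  conjBy_eq_self_iff.2 (centralizer_le_normalizer _ (mem_centralizer_iff.2 fun a ha => (h a ha).symm))

theorem commutator_conjBy_bot' {A B : Subgroup G} (h : ⁅A, B⁆ = ⊥) (g : G) :
    ⁅Cfsg.conjBy A g, Cfsg.conjBy B g⁆ = ⊥ := by
  rw [← case_conjBy, h]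
  exact Subgroup.map_bot _

/-- Symmetric attachment gives the braid relation. -/
theorem special_of_symmetric {A B : Subgroup G} (h : Cfsg.IsRankOnePair A B)
    (hsym : ∀ a ∈ A, a ≠ 1 → ∀ b ∈ B,
      Cfsg.conjBy A b = Cfsg.conjBy B a⁻¹ → Cfsg.conjBy A b⁻¹ = Cfsg.conjBy B a) :
    Cfsg.IsSpecialRankOnePair A B := by
  refine ⟨h, fun a ha ha1 b₀ hb₀ _ he => ?_⟩
  have h2 := hsym a ha ha1 b₀⁻¹ (inv_mem hb₀) he
  set b := b₀⁻¹ with hbdef
  have hb : b ∈ B := inv_mem hb₀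
  set n := a * b * a with hn
  set n' := b * a * b with hn'
  have nA : Cfsg.conjBy A n = B := by
    rw [hn, ← conjBy_conjBy, conjBy_eq_self_of_mem ha, ← conjBy_conjBy, he, conjBy_conjBy,
      mul_inv_cancel, conjBy_one]
  have nB : Cfsg.conjBy B n = A := by
    rw [hn, ← conjBy_conjBy, ← h2, conjBy_conjBy, mul_assoc, mul_inv_cancel, mul_one,
      conjBy_eq_self_of_mem ha]
  have n'B : Cfsg.conjBy B n' = A := by
    rw [hn', ← conjBy_conjBy, conjBy_eq_self_of_mem hb, ← conjBy_conjBy, ← h2, conjBy_conjBy,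
      mul_inv_cancel, conjBy_one]
  have hmem : n' * n⁻¹ ∈ B := by
    rw [hn', hn, show b * a * b * (a * b * a)⁻¹ = b * (a * b * a * a⁻¹ * (a * b * a)⁻¹) by group]
    refine mul_mem hb (nA ▸ conj_mem_conjBy (inv_mem ha))
  have hnorm : Cfsg.conjBy A (n' * n⁻¹) = A := by
    rw [← conjBy_conjBy, conjBy_inv_eq nB, n'B]
  have heq : n' = n :=
    mul_inv_eq_one.1 (eq_one_of_mem_normalizer h hmem (conjBy_eq_self_iff.1 hnorm))
  rw [hn, hn'] at heq
  have h3 : b * a * b⁻¹ = a⁻¹ * b * a := by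
    calc b * a * b⁻¹ = a⁻¹ * (a * b * a) * b⁻¹ := by group
      _ = a⁻¹ * (b * a * b) * b⁻¹ := by rw [heq]
      _ = a⁻¹ * b * a := by group
  rwa [hbdef, inv_inv] at h3

variable {S : Set (Subgroup G)} (hS : Cfsg.IsRootSubgroupSet S)

include hS

/-- The elements attached to `a ∈ A` for a member `C` commuting with `A` and rank one to `B`. -/
theorem companion {A B C : Subgroup G} (hA : A ∈ S) (hB : B ∈ S)
    (hAB : Cfsg.IsRankOnePair A B) (hCB : Cfsg.IsRankOnePair C B) (hAC : ⁅A, C⁆ = ⊥) (hne : C ≠ A)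
    {a b : G} (ha : a ∈ A) (hb : b ∈ B) (hb1 : b ≠ 1)
    (he : Cfsg.conjBy A b = Cfsg.conjBy B a⁻¹) :
    ∃ c ∈ C, ∃ k l : G, (∀ x ∈ B, k * x = x * k) ∧ (∀ x ∈ B, l * (a * c⁻¹) * x = x * (l * (a * c⁻¹))) ∧
      (∀ x ∈ A, l * x = x * l) ∧ (∀ x ∈ A, a * c⁻¹ * x = x * (a * c⁻¹)) ∧
      ⁅A, Cfsg.conjBy A k⁆ = ⊥ ∧ Cfsg.conjBy A k ≠ A ∧ l = a * (k * a⁻¹ * k⁻¹) ∧
      Cfsg.conjBy B (a * c⁻¹) ≠ B ∧ k * (a * c⁻¹) = b * (a * c⁻¹) * b⁻¹ := by
  obtain ⟨c, hc, -, hec⟩ := hCB.cond_right b⁻¹ (inv_mem hb) (inv_ne_one.2 hb1)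
  rw [inv_inv] at hec
  refine ⟨c, hc, ?_⟩
  have cAC : ∀ {x y : G}, x ∈ A → y ∈ C → x * y = y * x :=
    fun hx hy => commute_of_commutator_eq_bot hAC hx hy
  set m := a * c⁻¹ with hm
  have cmA : ∀ x ∈ A, m * x = x * m := fun x hx => by
    rw [hm, mul_assoc, ← cAC hx (inv_mem hc), ← mul_assoc, comm_of_mem hS hA ha hx, mul_assoc]
  set E := Cfsg.conjBy B m with hE
  have hBE : ⁅B, E⁆ = ⊥ := by
    have h1 := commutator_conjBy_bot' (commutator_conjBy_bot' hAC b) a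
    rw [he, ← hec, conjBy_conjBy, conjBy_conjBy, mul_inv_cancel, conjBy_one] at h1
    exact h1
  have hEB : E ≠ B := by
    intro h1
    have h2 : Cfsg.conjBy B c⁻¹ = Cfsg.conjBy B a⁻¹ := by
      have := congrArg (fun X => Cfsg.conjBy X a⁻¹) h1
      simp only [hE, conjBy_conjBy] at this
      rwa [hm, inv_mul_cancel_left] at this
    rw [hec, ← he] at h2
    exact hne (conjBy_inj b h2)
  have cBE : ∀ {x y : G}, x ∈ B → y ∈ E → x * y = y * x :=
    fun hx hy => commute_of_commutator_eq_bot hBE hx hy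
  set k := b * m * b⁻¹ * m⁻¹ with hk
  have hkE : m * b⁻¹ * m⁻¹ ∈ E := conj_mem_conjBy (inv_mem hb)
  have hk' : k = b * (m * b⁻¹ * m⁻¹) := by rw [hk]; group
  have ckB : ∀ x ∈ B, k * x = x * k := fun x hx => by
    rw [hk', mul_assoc, ← cBE hx hkE, ← mul_assoc, comm_of_mem hS hB hb hx, mul_assoc]
  have hBm : ⁅Cfsg.conjBy B m⁻¹, B⁆ = ⊥ := by
    have := commutator_conjBy_bot' hBE m⁻¹
    rwa [hE, conjBy_conjBy, inv_mul_cancel, conjBy_one] at this
  have cmkB : ∀ x ∈ B, m⁻¹ * k * m * x = x * (m⁻¹ * k * m) := fun x hx => by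
    have h1 : m⁻¹ * b * m ∈ Cfsg.conjBy B m⁻¹ := by
      have := conj_mem_conjBy (g := m⁻¹) hb
      rwa [inv_inv] at this
    rw [show m⁻¹ * k * m = m⁻¹ * b * m * b⁻¹ by rw [hk]; group, mul_assoc,
      comm_of_mem hS hB (inv_mem hb) hx, ← mul_assoc, commute_of_commutator_eq_bot hBm h1 hx,
      mul_assoc]
  -- `A` commutes with its conjugate by `k`
  obtain ⟨a', ha', -, hea⟩ := hAB.cond_right b hb hb1
  have hmfix : Cfsg.conjBy A m⁻¹ = A := conjBy_of_commute fun x hx => by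
    calc m⁻¹ * x = m⁻¹ * (x * m) * m⁻¹ := by group
      _ = m⁻¹ * (m * x) * m⁻¹ := by rw [cmA x hx]
      _ = x * m⁻¹ := by group
  have hAk : Cfsg.conjBy A k = Cfsg.conjBy (Cfsg.conjBy E a'⁻¹) b := by
    have hAm : Cfsg.conjBy A m = A := conjBy_of_commute cmA
    rw [hk, show b * m * b⁻¹ * m⁻¹ = (b * (m * b⁻¹)) * m⁻¹ by group, ← conjBy_conjBy A m⁻¹,
      hmfix, ← conjBy_conjBy A (m * b⁻¹) b, ← conjBy_conjBy A b⁻¹ m, ← hea, conjBy_conjBy B a'⁻¹ m,
      cmA _ (inv_mem ha'), ← conjBy_conjBy B m a'⁻¹]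
  have hA' : A = Cfsg.conjBy (Cfsg.conjBy B a'⁻¹) b := by
    rw [hea, conjBy_conjBy, mul_inv_cancel, conjBy_one]
  have hAkA : ⁅A, Cfsg.conjBy A k⁆ = ⊥ := by
    have h1 := commutator_conjBy_bot' (commutator_conjBy_bot' hBE a'⁻¹) b
    rwa [← hAk, ← hA'] at h1
  have hAkne : Cfsg.conjBy A k ≠ A := fun h1 => hEB (by
    have h2 : Cfsg.conjBy (Cfsg.conjBy E a'⁻¹) b = Cfsg.conjBy (Cfsg.conjBy B a'⁻¹) b :=
      hAk.symm.trans (h1.trans hA')
    exact conjBy_inj _ (conjBy_inj _ h2))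
  set l := a * (k * a⁻¹ * k⁻¹) with hl
  have clA : ∀ x ∈ A, l * x = x * l := fun x hx => by
    rw [hl, mul_assoc, ← commute_of_commutator_eq_bot hAkA hx (conj_mem_conjBy (inv_mem ha)),
      ← mul_assoc, comm_of_mem hS hA ha hx, mul_assoc]
  have hkm : k * m = b * m * b⁻¹ := by rw [hk]; group
  -- `a b m b⁻¹ a⁻¹` centralizes `B`
  have clmB : ∀ x ∈ B, l * m * x = x * (l * m) := by
    intro x hx
    set w := a * (b * m * b⁻¹) * a⁻¹ with hw
    have hwB : w * x = x * w := by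
      have hx' : x ∈ Cfsg.conjBy (Cfsg.conjBy A b) a := by
        rw [he, conjBy_conjBy, mul_inv_cancel, conjBy_one]
        exact hx
      rw [conjBy_conjBy] at hx'
      obtain ⟨y, hy, rfl⟩ := hx'
      show w * (a * b * y * (a * b)⁻¹) = a * b * y * (a * b)⁻¹ * w
      rw [hw]
      calc a * (b * m * b⁻¹) * a⁻¹ * (a * b * y * (a * b)⁻¹) = a * b * (m * y) * (a * b)⁻¹ := by group
        _ = a * b * (y * m) * (a * b)⁻¹ := by rw [cmA y hy]
        _ = a * b * y * (a * b)⁻¹ * (a * (b * m * b⁻¹) * a⁻¹) := by group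
    have hsplit : l * m = w * (m⁻¹ * k * m)⁻¹ := by
      have hma : m * a⁻¹ = a⁻¹ * m := cmA _ (inv_mem ha)
      rw [hw, ← hkm, hl]
      calc a * (k * a⁻¹ * k⁻¹) * m = a * k * (a⁻¹ * m) * (m⁻¹ * k * m)⁻¹ := by group
        _ = a * k * (m * a⁻¹) * (m⁻¹ * k * m)⁻¹ := by rw [hma]
        _ = a * (k * m) * a⁻¹ * (m⁻¹ * k * m)⁻¹ := by group
    rw [hsplit]
    have h2 := cmkB x hx
    calc w * (m⁻¹ * k * m)⁻¹ * x
        = w * (m⁻¹ * k * m)⁻¹ * (x * (m⁻¹ * k * m)) * (m⁻¹ * k * m)⁻¹ := by group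
      _ = w * (m⁻¹ * k * m)⁻¹ * (m⁻¹ * k * m * x) * (m⁻¹ * k * m)⁻¹ := by rw [h2]
      _ = w * x * (m⁻¹ * k * m)⁻¹ := by group
      _ = x * (w * (m⁻¹ * k * m)⁻¹) := by rw [hwB, mul_assoc]
  exact ⟨k, l, ckB, clmB, clA, cmA, hAkA, hAkne, rfl, hEB, hkm⟩

/-- A member commuting with `A` and rank one to `B` makes the pair special. -/
theorem special_of_companion {A B C : Subgroup G} (hA : A ∈ S) (hB : B ∈ S)
    (hAB : Cfsg.IsRankOnePair A B) (hCB : Cfsg.IsRankOnePair C B) (hAC : ⁅A, C⁆ = ⊥) (hne : C ≠ A) :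
    Cfsg.IsSpecialRankOnePair A B := by
  refine special_of_symmetric hAB fun a ha ha1 b hb he => ?_
  have hb1 : b ≠ 1 := by
    rintro rfl
    refine hAB.ne ?_
    have := congrArg (fun X => Cfsg.conjBy X a) he
    simp only [conjBy_conjBy, mul_inv_cancel, conjBy_one] at this
    rwa [conjBy_eq_self_of_mem ha] at this
  obtain ⟨c, -, k, l, ckB, clmB, clA, cmA, -, -, hl, hEB, hkm⟩ :=
    companion hS hA hB hAB hCB hAC hne ha hb hb1 he
  set m := a * c⁻¹
  set y := a⁻¹ * b⁻¹ with hy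
  set n := y * m * y⁻¹ with hn
  -- `n` centralizes `B` and `y A y⁻¹`
  have hn' : n = k⁻¹ * (l * m) := by
    have hb' : b⁻¹ * m * b = k⁻¹ * m := by
      have h1 : k⁻¹ * b * k = b := by rw [mul_assoc, ← ckB b hb, inv_mul_cancel_left]
      calc b⁻¹ * m * b = b⁻¹ * (k⁻¹ * (k * m)) * b := by group
        _ = b⁻¹ * (k⁻¹ * (b * m * b⁻¹)) * b := by rw [hkm]
        _ = b⁻¹ * (k⁻¹ * b * k) * k⁻¹ * m := by group
        _ = k⁻¹ * m := by rw [h1]; group
    have hl' : a⁻¹ * k⁻¹ * a = k⁻¹ * l := by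
      have h1 : a * (k * a⁻¹ * k⁻¹) * a⁻¹ = k * a⁻¹ * k⁻¹ := by
        have := clA a⁻¹ (inv_mem ha)
        rw [hl] at this
        rw [this]; group
      calc a⁻¹ * k⁻¹ * a = k⁻¹ * (k * a⁻¹ * k⁻¹) * a := by group
        _ = k⁻¹ * (a * (k * a⁻¹ * k⁻¹) * a⁻¹) * a := by rw [h1]
        _ = k⁻¹ * l := by rw [hl]; group
    calc n = a⁻¹ * (b⁻¹ * m * b) * a := by rw [hn, hy]; group
      _ = a⁻¹ * k⁻¹ * (m * a) := by rw [hb']; group
      _ = a⁻¹ * k⁻¹ * (a * m) := by rw [cmA a ha]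
      _ = a⁻¹ * k⁻¹ * a * m := by group
      _ = k⁻¹ * (l * m) := by rw [hl', mul_assoc]
  have hnB : ∀ x ∈ B, n * x = x * n := fun x hx => by
    have h1 : k⁻¹ * x = x * k⁻¹ := by
      calc k⁻¹ * x = k⁻¹ * (x * k) * k⁻¹ := by group
        _ = k⁻¹ * (k * x) * k⁻¹ := by rw [ckB x hx]
        _ = x * k⁻¹ := by group
    rw [hn', mul_assoc, clmB x hx, ← mul_assoc, h1, mul_assoc]
  have hnU : ∀ x ∈ Cfsg.conjBy A y, n * x = x * n := by
    rintro _ ⟨x, hx, rfl⟩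
    show n * (y * x * y⁻¹) = y * x * y⁻¹ * n
    rw [hn]
    calc y * m * y⁻¹ * (y * x * y⁻¹) = y * (m * x) * y⁻¹ := by group
      _ = y * (x * m) * y⁻¹ := by rw [cmA x hx]
      _ = y * x * y⁻¹ * (y * m * y⁻¹) := by group
  have hyX : y ∈ A ⊔ B := mul_mem (inv_mem (mem_sup_left ha)) (inv_mem (mem_sup_right hb))
  by_cases hU : Cfsg.conjBy A y = B
  · have := congrArg (fun X => Cfsg.conjBy X a) hU
    simp only [conjBy_conjBy] at this
    rwa [hy, mul_inv_cancel_left] at this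
  exfalso
  -- otherwise `n` centralizes `A ⊔ B`
  have hBA : Cfsg.conjBy A y ∈ Cfsg.unipotentSubgroups B A := by
    obtain ⟨z, hz, hzA⟩ := right_mem (Cfsg.RankOnePair_symm hAB)
    refine ⟨y * z, mul_mem (by rwa [sup_comm]) hz, ?_⟩
    rw [← conjBy_conjBy B z y, ← hzA]
  obtain h1 | ⟨b', hb', h1⟩ := unipotent_cases (Cfsg.RankOnePair_symm hAB) hBA
  · exact hU h1
  have hnA : ∀ x ∈ A, n * x = x * n := fun x hx => by
    have h2 := hnU (b' * x * b'⁻¹) (h1 ▸ conj_mem_conjBy hx)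
    calc n * x = b'⁻¹ * (b' * n) * x := by group
      _ = b'⁻¹ * (n * b') * x := by rw [hnB b' hb']
      _ = b'⁻¹ * (n * (b' * x * b'⁻¹)) * b' := by group
      _ = b'⁻¹ * (b' * x * b'⁻¹ * n) * b' := by rw [h2]
      _ = x * (b'⁻¹ * (n * b')) := by group
      _ = x * n := by rw [hnB b' hb', inv_mul_cancel_left]
  have hle : A ⊔ B ≤ centralizer ({n} : Set G) := sup_le
    (fun x hx => mem_centralizer_singleton_iff.2 (hnA x hx).symm)
    (fun x hx => mem_centralizer_singleton_iff.2 (hnB x hx).symm)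
  have hmn : m = n := by
    have h2 : y⁻¹ * n = n * y⁻¹ := mem_centralizer_singleton_iff.1 (hle (inv_mem hyX))
    calc m = y⁻¹ * n * y := by rw [hn]; group
      _ = n := by rw [h2, inv_mul_cancel_right]
  exact hEB (conjBy_of_commute fun x hx => by rw [hmn]; exact hnB x hx)

/-- When the members commuting with `A` commute with `B`, the group `A` has exponent two or at most
three elements. -/
theorem small_of_twins {A B C D : Subgroup G} (hA : A ∈ S) (hC : C ∈ S) (hD : D ∈ S)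
    (hAB : Cfsg.IsRankOnePair A B) (hAD : Cfsg.IsRankOnePair A D) (hCD : Cfsg.IsRankOnePair C D)
    (hAC : ⁅A, C⁆ = ⊥) (hne : C ≠ A)
    (htwin : ∀ Z ∈ S, Z ≠ A → ⁅A, Z⁆ = ⊥ → ⁅B, Z⁆ = ⊥) :
    (∀ a ∈ A, a * a = 1) ∨
      ∀ a ∈ A, a ≠ 1 → ∀ x ∈ A, x ≠ 1 → x = a ∨ x = a⁻¹ := by
  have hspec := special_of_companion hS hA hD hAD hCD hAC hne
  have hAcomm : ∀ x ∈ A, ∀ y ∈ A, x * y = y * x := fun x hx y hy => comm_of_mem hS hA hx hy
  -- the diagonal subgroup centralizes the squares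
  have hsq : ∀ a ∈ A, ∀ h ∈ Cfsg.rankOneDiagonal A D, h * (a * a) * h⁻¹ = a * a := by
    intro a ha h hh
    rcases eq_or_ne a 1 with rfl | ha1
    · group
    obtain ⟨d₀, hd₀, hd1, hed⟩ := hAD.cond_left a ha ha1
    obtain ⟨c, hc, k, l, -, clmD, clA, cmA, hAk, hAkne, hl, -, -⟩ :=
      companion hS hA hD hAD hCD hAC hne ha (inv_mem hd₀) (inv_ne_one.2 hd1) hed
    set g := l * (a * c⁻¹) with hg
    have hgX : A ⊔ D ≤ centralizer ({g} : Set G) := sup_le
      (fun x hx => mem_centralizer_singleton_iff.2 (by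
        rw [hg, mul_assoc, cmA x hx, ← mul_assoc l x, clA x hx, mul_assoc]))
      (fun x hx => mem_centralizer_singleton_iff.2 (clmD x hx).symm)
    -- the action of `g` on a twin of `A`
    have hact : ∀ Z : Subgroup G, (∀ Y ∈ S, Y ≠ A → ⁅A, Y⁆ = ⊥ → ⁅Z, Y⁆ = ⊥) →
        Cfsg.conjBy Z g = Cfsg.conjBy Z (a * a) := by
      intro Z hZ
      have h1 : Cfsg.conjBy Z c⁻¹ = Z := conjBy_of_commute fun z hz =>
        (commute_of_commutator_eq_bot (hZ C hC hne hAC) hz (inv_mem hc)).symm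
      have h2 : Cfsg.conjBy Z (k * a⁻¹ * k⁻¹) = Z := conjBy_of_commute fun z hz =>
        (commute_of_commutator_eq_bot (hZ _ (hS.conj_mem A hA k) hAkne hAk) hz
          (conj_mem_conjBy (inv_mem ha))).symm
      have h3 : k * a⁻¹ * k⁻¹ * a = a * (k * a⁻¹ * k⁻¹) :=
        (commute_of_commutator_eq_bot hAk ha (conj_mem_conjBy (inv_mem ha))).symm
      rw [hg, hl, show a * (k * a⁻¹ * k⁻¹) * (a * c⁻¹) = a * (k * a⁻¹ * k⁻¹ * a) * c⁻¹ by group,
        h3, ← conjBy_conjBy, h1, show a * (a * (k * a⁻¹ * k⁻¹)) = a * a * (k * a⁻¹ * k⁻¹) by group,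
        ← conjBy_conjBy, h2]
    obtain ⟨⟨hhX, hhA⟩, -⟩ := hh
    have hfix : Cfsg.conjBy A h⁻¹ = A := conjBy_eq_self_iff.2 (inv_mem hhA)
    have hfix' : Cfsg.conjBy A h = A := conjBy_eq_self_iff.2 hhA
    have hZ : ∀ Y ∈ S, Y ≠ A → ⁅A, Y⁆ = ⊥ → ⁅Cfsg.conjBy B h⁻¹, Y⁆ = ⊥ := by
      intro Y hY hYA hAY
      have h1 := commutator_conjBy_bot' (htwin _ (hS.conj_mem Y hY h)
        (fun e => hYA (conjBy_inj h (e.trans hfix'.symm)))
        (by have := commutator_conjBy_bot' hAY h; rwa [hfix'] at this)) h⁻¹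
      rwa [conjBy_conjBy Y, inv_mul_cancel, conjBy_one] at h1
    have hgh : h * g * h⁻¹ = g := by
      rw [mem_centralizer_singleton_iff.1 (hgX hhX), mul_inv_cancel_right]
    have heB : Cfsg.conjBy B (h * (a * a) * h⁻¹) = Cfsg.conjBy B (a * a) := by
      rw [← hact B htwin, ← hgh, ← conjBy_conjBy B h⁻¹, ← conjBy_conjBy B h⁻¹,
        ← conjBy_conjBy _ (a * a), ← conjBy_conjBy _ g, hact _ hZ]
    have hmem : h * (a * a) * h⁻¹ ∈ A :=
      (Subgroup.mem_normalizer_iff.1 hhA _).1 (mul_mem ha ha)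
    have h0 := eq_one_of_mem_normalizer (Cfsg.RankOnePair_symm hAB)
      (mul_mem (inv_mem (mul_mem ha ha)) hmem) (conjBy_eq_iff.1 heB)
    exact (inv_mul_eq_one.1 h0).symm
  by_cases h3 : ∀ a ∈ A, ∃ w ∈ A, w ≠ 1 ∧ a * w ≠ 1 ∧ a * (a * w) ≠ 1
  · refine Or.inl fun a₀ ha₀ => ?_
    have hle := special_le_commutator_diagonal hspec hAcomm
      (fun x hx y hy => comm_of_mem hS hD hx hy) h3
    have hinv : ⁅A, Cfsg.rankOneDiagonal A D⁆ ≤ A := commutator_diagonal_le A D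
    have key : ∀ x ∈ ⁅A, Cfsg.rankOneDiagonal A D⁆, x ∈ A ∧ x * x = 1 := by
      intro x hx
      induction hx using Subgroup.closure_induction with
      | mem x hx =>
        obtain ⟨a, ha, h, hh, rfl⟩ := hx
        refine ⟨hinv (commutator_mem_commutator ha hh), ?_⟩
        have hmem : h * a⁻¹ * h⁻¹ ∈ A :=
          (Subgroup.mem_normalizer_iff.1 hh.1.2 a⁻¹).1 (inv_mem ha)
        rw [show ⁅a, h⁆ = a * (h * a⁻¹ * h⁻¹) by rw [commutatorElement_def]; group,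
          show a * (h * a⁻¹ * h⁻¹) * (a * (h * a⁻¹ * h⁻¹)) =
            a * (h * a⁻¹ * h⁻¹ * a) * (h * a⁻¹ * h⁻¹) by group,
          hAcomm _ hmem a ha,
          show a * (a * (h * a⁻¹ * h⁻¹)) * (h * a⁻¹ * h⁻¹) = a * a * (h * (a * a) * h⁻¹)⁻¹ by group,
          hsq a ha h hh, mul_inv_cancel]
      | one => exact ⟨one_mem _, one_mul 1⟩
      | mul x y _ _ hx hy =>
        exact ⟨mul_mem hx.1 hy.1, by
          rw [show x * y * (x * y) = x * (y * x) * y by group, hAcomm y hy.1 x hx.1,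
            show x * (x * y) * y = x * x * (y * y) by group, hx.2, hy.2, one_mul]⟩
      | inv x _ hx =>
        exact ⟨inv_mem hx.1, by rw [← mul_inv_rev, hx.2, inv_one]⟩
    exact (key a₀ (hle ha₀)).2
  · right
    push Not at h3
    obtain ⟨a₀, -, h3⟩ := h3
    have hthree : ∀ w ∈ A, w = 1 ∨ w = a₀⁻¹ ∨ w = a₀⁻¹ * a₀⁻¹ := by
      intro w hw
      by_contra hn
      push Not at hn
      have h4 := h3 w hw hn.1 fun e => hn.2.1 (eq_inv_of_mul_eq_one_right e)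
      rw [← mul_assoc] at h4
      exact hn.2.2 (by rw [eq_inv_of_mul_eq_one_right h4, mul_inv_rev])
    intro a ha ha1 x hx hx1
    by_contra hn
    push Not at hn
    obtain h | h | h := hthree (a * x) (mul_mem ha hx)
    · exact hn.2 (eq_inv_of_mul_eq_one_right h)
    all_goals
      obtain e | e | e := hthree a ha
      · exact ha1 e
      all_goals
        obtain e' | e' | e' := hthree x hx
        · exact hx1 e'
        all_goals
          first
            | exact hn.1 (e'.trans e.symm)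
            | exact ha1 (mul_eq_right.1 (h.trans e'.symm))
            | exact hx1 (mul_eq_left.1 (h.trans e.symm))

omit hS in
/-- Exponent two or at most three elements gives symmetric attachment. -/
theorem special_of_small {A B : Subgroup G} (hAB : Cfsg.IsRankOnePair A B)
    (h : (∀ a ∈ A, a * a = 1) ∨ ∀ a ∈ A, a ≠ 1 → ∀ x ∈ A, x ≠ 1 → x = a ∨ x = a⁻¹) :
    Cfsg.IsSpecialRankOnePair A B := by
  refine special_of_symmetric hAB fun a ha ha1 b hb he => ?_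
  have hb1 : b ≠ 1 := by
    rintro rfl
    refine hAB.ne ?_
    have := congrArg (fun X => Cfsg.conjBy X a) he
    simp only [conjBy_conjBy, mul_inv_cancel, conjBy_one] at this
    rwa [conjBy_eq_self_of_mem ha] at this
  obtain ⟨z, -, hz⟩ := right_mem hAB
  by_cases ha2 : a * a = 1
  · -- both elements are involutions
    have hall : ∀ x ∈ A, x * x = 1 := by
      rcases h with h | h
      · exact h
      · intro x hx
        rcases eq_or_ne x 1 with rfl | hx1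
        · exact one_mul 1
        · rcases h a ha ha1 x hx hx1 with rfl | rfl
          · exact ha2
          · rw [← mul_inv_rev, ha2, inv_one]
    have hb2 : b * b = 1 := by
      obtain ⟨x, hx, rfl⟩ := (hz ▸ hb : b ∈ Cfsg.conjBy A z)
      rw [← map_mul, hall x hx, map_one]
    rw [inv_eq_of_mul_eq_one_right hb2, he, inv_eq_of_mul_eq_one_right ha2]
  · have hsmall : ∀ x ∈ A, x ≠ 1 → x = a ∨ x = a⁻¹ := by
      rcases h with h | h
      · exact absurd (h a ha) ha2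
      · exact h a ha ha1
    obtain ⟨a', ha', ha'1, he'⟩ := hAB.cond_right b hb hb1
    rcases hsmall a' ha' ha'1 with rfl | rfl
    · -- then `b * b` normalizes `A`
      exfalso
      have h1 : b * b ∈ normalizer (A : Set G) := by
        have := conjBy_eq_iff.1 (he.trans he')
        rwa [inv_inv] at this
      have hb2 := eq_one_of_mem_normalizer hAB (mul_mem hb hb) h1
      obtain ⟨x, hx, rfl⟩ := (hz ▸ hb : b ∈ Cfsg.conjBy A z)
      rw [← map_mul] at hb2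
      replace hb2 : x * x = 1 := (MulAut.conj z).injective (hb2.trans (map_one (MulAut.conj z)).symm)
      have hx1 : x ≠ 1 := fun e => hb1 (by rw [e, map_one])
      rcases hsmall x hx hx1 with rfl | rfl
      · exact ha2 hb2
      · rw [← mul_inv_rev, inv_eq_one] at hb2
        exact ha2 hb2
    · rwa [inv_inv, eq_comm] at he'

/-- In a degenerate class with commuting members every rank one pair is special. -/
theorem special_degenerate {A B : Subgroup G}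
    (hcl : Cfsg.IsConjClassOfSubgroups S) (hdeg : Cfsg.IsDegenerateRootSet S)
    (hcomm : ∃ A ∈ S, ∃ C ∈ S, A ≠ C ∧ ⁅A, C⁆ = ⊥) (hA : A ∈ S) (hB : B ∈ S)
    (hAB : Cfsg.IsRankOnePair A B) : Cfsg.IsSpecialRankOnePair A B := by
  have hpair : ∀ {X Y : Subgroup G}, X ∈ S → Y ∈ S → ⁅X, Y⁆ ≠ ⊥ → Cfsg.IsRankOnePair X Y :=
    fun {X Y} hX hY h => ((hS.pair X hX Y hY).resolve_left h).resolve_right (hdeg X hX Y hY)
  by_cases hex : ∃ C ∈ S, C ≠ A ∧ ⁅A, C⁆ = ⊥ ∧ ⁅B, C⁆ ≠ ⊥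
  · obtain ⟨C, hC, hne, hAC, hBC⟩ := hex
    exact special_of_companion hS hA hB hAB (Cfsg.RankOnePair_symm (hpair hB hC hBC)) hAC hne
  push Not at hex
  -- a member commuting with `A`
  obtain ⟨C, hC, hne, hAC⟩ : ∃ C ∈ S, C ≠ A ∧ ⁅A, C⁆ = ⊥ := by
    obtain ⟨X, hX, Y, hY, hXY, hc⟩ := hcomm
    obtain ⟨g, hg⟩ := hcl.2 X hX A hA
    subst hg
    exact ⟨_, hS.conj_mem Y hY g, fun e => hXY (conjBy_inj g e).symm, commutator_conjBy_bot' hc g⟩
  obtain ⟨g, hg⟩ := hcl.2 C hC A hA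
  obtain ⟨g', hg'⟩ := hcl.2 A hA C hC
  have hCn : NonIso S C := hg' ▸ nonIso_conjBy hS ⟨B, hB, hAB⟩ g'
  have hpath : Relation.ReflTransGen (Cfsg.FAdj S) C A := hg ▸ reach_conj hS hC hCn g
  -- a step leaving the members commuting with `A`
  obtain ⟨Y, hY, hYA, hAY, D, hD, hYD, hAD⟩ : ∃ Y ∈ S, Y ≠ A ∧ ⁅A, Y⁆ = ⊥ ∧
      ∃ D ∈ S, Cfsg.IsRankOnePair Y D ∧ ⁅A, D⁆ ≠ ⊥ := by
    suffices hgen : ∀ Z, Relation.ReflTransGen (Cfsg.FAdj S) C Z →
        (Z ≠ A ∧ ⁅A, Z⁆ = ⊥) ∨ ∃ Y ∈ S, Y ≠ A ∧ ⁅A, Y⁆ = ⊥ ∧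
          ∃ D ∈ S, Cfsg.IsRankOnePair Y D ∧ ⁅A, D⁆ ≠ ⊥ by
      rcases hgen A hpath with h | h
      · exact absurd rfl h.1
      · exact h
    intro Z hZ
    induction hZ with
    | refl => exact Or.inl ⟨hne, hAC⟩
    | @tail Z W _ hZW ih =>
      rcases ih with ⟨hZA, hAZ⟩ | h
      · by_cases hAW : ⁅A, W⁆ = ⊥
        · refine Or.inl ⟨fun e => not_commutator_bot hZW.2.2 ?_, hAW⟩
          rw [e, Subgroup.commutator_comm, hAZ]
        · exact Or.inr ⟨Z, hZW.1, hZA, hAZ, W, hZW.2.1, hZW.2.2, hAW⟩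
      · exact Or.inr h
  exact special_of_small hAB (small_of_twins hS hA hY hD hAB (hpair hA hD hAD) hYD hAY hYA
    fun Z hZ hZA hAZ => hex Z hZ hZA hAZ)

end CfsgLib.RootSub
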