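import Cfsg.Agent.Lib.RootSub.Transvection

/-!
# One parameter groups `1 + c S` with `S * S = 0`
-/

set_option autoImplicit false

namespace CfsgLib.SqZero

open scoped MatrixGroups commutatorElement
open CfsgLib.QuadPair (upper lower upper_val lower_val ext_two eq_top_of_elementary)
open CfsgLib.RootSub (mem_conjBy)

variable {F : Type*} [Field F] {R : Type*} [Ring R] [Algebra F R] {G : Type*} [Group G]
variable (ι : G →* R)

/-- `A` is the group of the elements `1 + c S`. -/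
structure SG (S : R) (A : Subgroup G) : Prop where
  ne : S ≠ 0
  sq : S * S = 0
  mem : ∀ g, g ∈ A ↔ ∃ c : F, ι g = 1 + c • S
  surj : ∀ c : F, ∃ g, ι g = 1 + c • S

theorem mul_one_add {S : R} (h : S * S = 0) (c d : F) :
    (1 + c • S) * (1 + d • S) = 1 + (c + d) • S := by
  simp only [mul_add, add_mul, one_mul, mul_one, smul_mul_smul_comm, h, smul_zero, add_smul, add_zero]
  abel

theorem inj_coeff {S : R} (h : S ≠ 0) {c d : F} (e : (1 : R) + c • S = 1 + d • S) : c = d :=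
  smul_left_injective F h (add_left_cancel e)

theorem SG.closure (hι : Function.Injective ι) {S : R} (hS : S ≠ 0) (hsq : S * S = 0)
    (hs : ∀ c : F, ∃ g, ι g = 1 + c • S) {T : Set G} (hT : ∀ g, g ∈ T ↔ ∃ c : F, ι g = 1 + c • S) :
    SG (F := F) ι S (Subgroup.closure T) := by
  refine ⟨hS, hsq, fun g => ⟨fun hg => ?_, fun hg => Subgroup.subset_closure ((hT g).2 hg)⟩, hs⟩
  induction hg using Subgroup.closure_induction with
  | mem z hz => exact (hT z).1 hz
  | one => exact ⟨0, by rw [map_one, zero_smul, add_zero]⟩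
  | mul a b _ _ iha ihb =>
    obtain ⟨c, hc⟩ := iha
    obtain ⟨d, hd⟩ := ihb
    exact ⟨c + d, by rw [map_mul, hc, hd, mul_one_add hsq]⟩
  | inv a _ iha =>
    obtain ⟨c, hc⟩ := iha
    obtain ⟨g, hg⟩ := hs (-c)
    refine ⟨-c, ?_⟩
    have h1 : a⁻¹ = g := inv_eq_of_mul_eq_one_right (hι (by
      rw [map_mul, hc, hg, mul_one_add hsq, add_neg_cancel, zero_smul, add_zero, map_one]))
    rw [h1, hg]

variable {ι}

theorem SG.subgroupOf {S : R} {A X : Subgroup G} (h : SG (F := F) ι S A) (hle : A ≤ X) :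
    SG (F := F) (ι.comp X.subtype) S (A.subgroupOf X) :=
  ⟨h.ne, h.sq, fun g => by rw [Subgroup.mem_subgroupOf, h.mem]; rfl, fun c => by
    obtain ⟨g, hg⟩ := h.surj c
    exact ⟨⟨g, hle ((h.mem g).2 ⟨c, hg⟩)⟩, hg⟩⟩

theorem SG.unique {S S' : R} {a : F} {A B : Subgroup G} (h : SG (F := F) ι S A) (h' : SG (F := F) ι S' B)
    (ha : a ≠ 0) (he : S' = a • S) : A = B := by
  ext g
  rw [h.mem, h'.mem]
  constructor
  · rintro ⟨c, hc⟩; exact ⟨c / a, by rw [hc, he, smul_smul, div_mul_cancel₀ _ ha]⟩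
  · rintro ⟨c, hc⟩; exact ⟨c * a, by rw [hc, he, smul_smul]⟩

theorem SG.comm (hι : Function.Injective ι) {S : R} {A : Subgroup G} (h : SG (F := F) ι S A) :
    IsMulCommutative A := ⟨⟨fun a b => by
  obtain ⟨c, hc⟩ := (h.mem a).1 a.2
  obtain ⟨d, hd⟩ := (h.mem b).1 b.2
  exact Subtype.ext (hι (by simp only [Subgroup.coe_mul, map_mul, hc, hd, mul_one_add h.sq, add_comm c d]))⟩⟩

theorem SG.exists_ne_one {S : R} {A : Subgroup G} (h : SG (F := F) ι S A) : ∃ a ∈ A, a ≠ 1 := by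
  obtain ⟨g, hg⟩ := h.surj 1
  refine ⟨g, (h.mem g).2 ⟨1, hg⟩, fun e => one_ne_zero (inj_coeff h.ne (c := (1 : F)) (d := 0) ?_)⟩
  rw [← hg, e, map_one, zero_smul, add_zero]

theorem SG.ne_bot {S : R} {A : Subgroup G} (h : SG (F := F) ι S A) : A ≠ ⊥ := by
  obtain ⟨a, ha, ha1⟩ := h.exists_ne_one
  exact fun e => ha1 (Subgroup.mem_bot.1 (e ▸ ha))

theorem SG.conj {S : R} {A : Subgroup G} (h : SG (F := F) ι S A) (g : G) :
    SG (F := F) ι (ι g * S * ι g⁻¹) (Cfsg.conjBy A g) := by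
  have h1 : ι g * ι g⁻¹ = 1 := by rw [← map_mul, mul_inv_cancel, map_one]
  have h2 : ι g⁻¹ * ι g = 1 := by rw [← map_mul, inv_mul_cancel, map_one]
  refine ⟨fun e => h.ne ?_, ?_, fun k => ?_, fun c => ?_⟩
  · have := congrArg (fun z => ι g⁻¹ * z * ι g) e
    simpa [mul_assoc, h2, ← mul_assoc (ι g⁻¹) (ι g)] using this
  · calc ι g * S * ι g⁻¹ * (ι g * S * ι g⁻¹) = ι g * (S * (ι g⁻¹ * ι g) * S) * ι g⁻¹ := by noncomm_ring
      _ = 0 := by rw [h2, mul_one, h.sq, mul_zero, zero_mul]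
  · rw [mem_conjBy, h.mem]
    refine exists_congr fun c => ⟨fun hc => ?_, fun hc => ?_⟩
    · have e : ι k = ι g * (1 + c • S) * ι g⁻¹ := by rw [← hc, ← map_mul, ← map_mul]; congr 1; group
      rw [e, mul_add, add_mul, mul_one, h1, mul_smul_comm, smul_mul_assoc]
    · rw [map_mul, map_mul, hc, mul_add, add_mul, mul_one, h2, mul_smul_comm, smul_mul_assoc, mul_assoc (ι g⁻¹),
        mul_assoc (ι g * S), h2, mul_one, ← mul_assoc, h2, one_mul]
  · obtain ⟨k, hk⟩ := h.surj c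
    exact ⟨g * k * g⁻¹, by rw [map_mul, map_mul, hk, mul_add, add_mul, mul_one, h1, mul_smul_comm,
      smul_mul_assoc]⟩

theorem commute_elts (hι : Function.Injective ι) {S T : R} {a b : G} {c d : F} (ha : ι a = 1 + c • S)
    (hb : ι b = 1 + d • T) (h : S * T = T * S) : a * b = b * a := by
  refine hι ?_
  rw [map_mul, map_mul, ha, hb]
  simp only [mul_add, add_mul, one_mul, mul_one, smul_mul_smul_comm, h, mul_comm c d]
  abel

theorem commutator_eq_bot (hι : Function.Injective ι) {S T : R} {A B : Subgroup G} (hA : SG (F := F) ι S A)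
    (hB : SG (F := F) ι T B) (h : S * T = T * S) : ⁅A, B⁆ = ⊥ :=
  CfsgLib.RootSub.commutator_eq_bot_of_commute fun a ha b hb => by
    obtain ⟨c, hc⟩ := (hA.mem a).1 ha
    obtain ⟨d, hd⟩ := (hB.mem b).1 hb
    exact commute_elts hι hc hd h

/-- The commutator case. -/
theorem commutatorCase (hι : Function.Injective ι) {Fam : Set (Subgroup G)} {S T U : R} {A B C : Subgroup G}
    (hA : SG (F := F) ι S A) (hB : SG (F := F) ι T B) (hC : SG (F := F) ι U C) (he : S * T - T * S = U)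
    (h1 : U * S = 0) (h2 : U * T = 0) (h3 : S * U = 0) (h4 : T * U = 0) (hCS : C ∈ Fam) :
    Cfsg.RootCommutatorCase Fam A B := by
  have key : ∀ (a b z : G) (c d : F), ι a = 1 + c • S → ι b = 1 + d • T → ι z = 1 + (c * d) • U →
      a * b * a⁻¹ * b⁻¹ = z := by
    intro a b z c d ha hb hz
    have hT : T * S + U = S * T := by rw [← he]; abel
    have h : a * b = z * (b * a) := hι (by
      have h5 : U * (T * S) = 0 := by rw [← mul_assoc, h2, zero_mul]
      rw [map_mul, map_mul, map_mul, ha, hb, hz]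
      simp only [mul_add, add_mul, one_mul, mul_one, smul_mul_smul_comm, h1, h2, h5, smul_zero, add_zero,
        ← hT, smul_add, mul_comm d c]
      abel)
    rw [h]; group
  have hval : ∀ a ∈ A, ∀ b ∈ B, a * b * a⁻¹ * b⁻¹ ∈ C := by
    intro a ha b hb
    obtain ⟨c, hc⟩ := (hA.mem a).1 ha
    obtain ⟨d, hd⟩ := (hB.mem b).1 hb
    obtain ⟨z, hz⟩ := hC.surj (c * d)
    rw [key a b z c d hc hd hz]
    exact (hC.mem z).2 ⟨c * d, hz⟩
  have hnz : ∀ {W : R} {D : Subgroup G}, SG (F := F) ι W D → ∀ a, a ≠ 1 → ∀ c : F, ι a = 1 + c • W → c ≠ 0 :=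
    fun _ a ha1 c hc e => ha1 (hι (by rw [hc, e, zero_smul, add_zero, map_one]))
  have hleft : ∀ a ∈ A, a ≠ 1 →
      Subgroup.closure ((fun b : G => a * b * a⁻¹ * b⁻¹) '' (B : Set G)) = C := by
    intro a ha ha1
    obtain ⟨c, hc⟩ := (hA.mem a).1 ha
    refine le_antisymm ((Subgroup.closure_le _).2 ?_) fun z hz => ?_
    · rintro _ ⟨b, hb, rfl⟩; exact hval a ha b hb
    · obtain ⟨e, he'⟩ := (hC.mem z).1 hz
      obtain ⟨b, hb⟩ := hB.surj (e / c)
      refine Subgroup.subset_closure ⟨b, (hB.mem b).2 ⟨_, hb⟩, key a b z c _ hc hb ?_⟩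
      rw [he', mul_div_cancel₀ _ (hnz hA a ha1 c hc)]
  have hright : ∀ b ∈ B, b ≠ 1 →
      Subgroup.closure ((fun a : G => a * b * a⁻¹ * b⁻¹) '' (A : Set G)) = C := by
    intro b hb hb1
    obtain ⟨d, hd⟩ := (hB.mem b).1 hb
    refine le_antisymm ((Subgroup.closure_le _).2 ?_) fun z hz => ?_
    · rintro _ ⟨a, ha, rfl⟩; exact hval a ha b hb
    · obtain ⟨e, he'⟩ := (hC.mem z).1 hz
      obtain ⟨a, ha⟩ := hA.surj (e / d)
      refine Subgroup.subset_closure ⟨a, (hA.mem a).2 ⟨_, ha⟩, key a b z _ d ha hd ?_⟩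
      rw [he', div_mul_cancel₀ _ (hnz hB b hb1 d hd)]
  have hAB : ⁅A, B⁆ = C := by
    refine le_antisymm (Subgroup.commutator_le.2 fun a ha b hb => ?_) ?_
    · rw [commutatorElement_def]; exact hval a ha b hb
    · obtain ⟨a, ha, ha1⟩ := hA.exists_ne_one
      rw [← hleft a ha ha1, Subgroup.closure_le]
      rintro _ ⟨b, hb, rfl⟩
      have := Subgroup.commutator_mem_commutator ha hb
      rwa [commutatorElement_def] at this
  refine ⟨hAB ▸ hCS, fun z hz w hw => ?_, fun a ha ha1 => by rw [hAB, hleft a ha ha1],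
    fun b hb hb1 => by rw [hAB, hright b hb hb1]⟩
  rw [hAB] at hz
  obtain ⟨e, he'⟩ := (hC.mem z).1 hz
  have h : A ⊔ B ≤ Subgroup.centralizer ({z} : Set G) := sup_le
    (fun a ha => Subgroup.mem_centralizer_singleton_iff.2 (by
      obtain ⟨c, hc⟩ := (hA.mem a).1 ha
      exact commute_elts hι hc he' (by rw [h1, h3])))
    (fun b hb => Subgroup.mem_centralizer_singleton_iff.2 (by
      obtain ⟨d, hd⟩ := (hB.mem b).1 hb
      exact commute_elts hι hd he' (by rw [h2, h4])))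
  exact (Subgroup.mem_centralizer_singleton_iff.1 (h hw)).symm

/-- The non-unital image of `2 × 2` matrices given by two opposite square zero elements. -/
def mat (e f : R) (M : Matrix (Fin 2) (Fin 2) F) : R :=
  M 0 0 • (e * f) + M 0 1 • e + M 1 0 • f + M 1 1 • (f * e)

theorem mat_mul {e f : R} (he : e * e = 0) (hf : f * f = 0) (hefe : e * f * e = e) (hfef : f * e * f = f)
    (M N : Matrix (Fin 2) (Fin 2) F) : mat e f M * mat e f N = mat e f (M * N) := by
  have a1 : e * (f * e) = e := by rw [← mul_assoc, hefe]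
  have a2 : f * (e * f) = f := by rw [← mul_assoc, hfef]
  have a3 : e * f * (e * f) = e * f := by rw [← mul_assoc, hefe]
  have a4 : f * e * (f * e) = f * e := by rw [← mul_assoc, hfef]
  have a5 : e * f * f = 0 := by rw [mul_assoc, hf, mul_zero]
  have a6 : e * (e * f) = 0 := by rw [← mul_assoc, he, zero_mul]
  have a7 : f * e * e = 0 := by rw [mul_assoc, he, mul_zero]
  have a8 : f * (f * e) = 0 := by rw [← mul_assoc, hf, zero_mul]
  have a9 : e * f * (f * e) = 0 := by rw [← mul_assoc, a5, zero_mul]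
  have a10 : f * e * (e * f) = 0 := by rw [← mul_assoc, a7, zero_mul]
  simp only [mat, mul_add, add_mul, smul_mul_smul_comm, a1, a2, a3, a4, a5, a6, a7, a8, a9, a10, he, hf, hefe,
    hfef, Matrix.mul_apply, Fin.sum_univ_two, add_smul, smul_zero, add_zero, zero_add]
  abel

/-- The opposite case. -/
theorem opposite (hι : Function.Injective ι) {S T : R} {A B : Subgroup G} (hA : SG (F := F) ι S A)
    (hB : SG (F := F) ι T B) {γ : F} (hγ : γ ≠ 0) (hSTS : S * T * S = γ • S) (hTST : T * S * T = γ • T) :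
    Cfsg.IsRankOnePair A B ∧ Cfsg.IsPSL2PairOver F A B := by
  classical
  obtain ⟨f, hfdef⟩ : ∃ f, f = γ⁻¹ • T := ⟨_, rfl⟩
  have hSf : S * f * S = S := by
    rw [hfdef, mul_smul_comm, smul_mul_assoc, hSTS, smul_smul, inv_mul_cancel₀ hγ, one_smul]
  have hfS : f * S * f = f := by
    rw [hfdef, smul_mul_assoc, smul_mul_assoc, mul_smul_comm, smul_smul, hTST, smul_smul, mul_assoc,
      inv_mul_cancel₀ hγ, mul_one]
  have hff : f * f = 0 := by rw [hfdef, smul_mul_smul_comm, hB.sq, smul_zero]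
  obtain ⟨E, hE'⟩ : ∃ E : SL(2, F) → R, ∀ M, E M = 1 + mat S f ((M : Matrix (Fin 2) (Fin 2) F) - 1) :=
    ⟨fun M => 1 + mat S f ((M : Matrix (Fin 2) (Fin 2) F) - 1), fun M => rfl⟩
  have hadd : ∀ M N : Matrix (Fin 2) (Fin 2) F, mat S f (M + N) = mat S f M + mat S f N := fun M N => by
    simp only [mat, Matrix.add_apply, add_smul]; abel
  have hE : ∀ M N : SL(2, F), E M * E N = E (M * N) := fun M N => by
    rw [hE', hE', hE', mul_add, add_mul, add_mul, one_mul, one_mul, mul_one, mat_mul hA.sq hff hSf hfS,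
      Matrix.SpecialLinearGroup.coe_mul]
    rw [show (M : Matrix (Fin 2) (Fin 2) F) * (N : Matrix (Fin 2) (Fin 2) F) - 1 =
      ((M : Matrix (Fin 2) (Fin 2) F) - 1) + (((N : Matrix (Fin 2) (Fin 2) F) - 1) +
        ((M : Matrix (Fin 2) (Fin 2) F) - 1) * ((N : Matrix (Fin 2) (Fin 2) F) - 1)) by noncomm_ring,
      hadd, hadd]
    abel
  have hE1 : E 1 = 1 := by rw [hE']; simp [mat]
  have hup : ∀ a : F, E (upper a) = 1 + a • S := fun a => by rw [hE']; simp [mat, upper_val]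
  have hlow : ∀ a : F, E (lower a) = 1 + (a / γ) • T := fun a => by
    rw [hE']; simp [mat, lower_val, hfdef, smul_smul, div_eq_mul_inv]
  let H : Subgroup SL(2, F) :=
    { carrier := {M | ∃ g, ι g = E M}
      one_mem' := ⟨1, by rw [map_one, hE1]⟩
      mul_mem' := fun {M N} ⟨g, hg⟩ ⟨k, hk⟩ => ⟨g * k, by rw [map_mul, hg, hk, hE]⟩
      inv_mem' := fun {M} ⟨g, hg⟩ => ⟨g⁻¹, by
        calc ι g⁻¹ = ι g⁻¹ * (E M * E M⁻¹) := by rw [hE, mul_inv_cancel, hE1, mul_one]
          _ = E M⁻¹ := by rw [← hg, ← mul_assoc, ← map_mul, inv_mul_cancel, map_one, one_mul]⟩ }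
  have htop : H = ⊤ := eq_top_of_elementary H
    (fun a => by obtain ⟨g, hg⟩ := hA.surj a; exact ⟨g, by rw [hg, hup]⟩)
    (fun a => by obtain ⟨g, hg⟩ := hB.surj (a / γ); exact ⟨g, by rw [hg, hlow]⟩)
  have hall : ∀ M, ∃ g, ι g = E M := fun M => (htop ▸ Subgroup.mem_top M : M ∈ H)
  choose φ hφ using hall
  obtain ⟨Φ, hΦ⟩ : ∃ Φ : SL(2, F) →* G, ∀ M, ι (Φ M) = E M :=
    ⟨MonoidHom.mk' φ fun M N => hι (by rw [map_mul, hφ, hφ, hφ, hE]), fun M => hφ M⟩
  have hinj : Function.Injective Φ := fun M N e => by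
    have e1 := congrArg ι e
    rw [hΦ, hΦ, hE', hE', add_right_inj] at e1
    have hP : ∀ (i j : Fin 2) (X : Matrix (Fin 2) (Fin 2) F),
        mat S f (Matrix.single (0 : Fin 2) i (1 : F)) * mat S f X * mat S f (Matrix.single j (0 : Fin 2) (1 : F)) =
          X i j • (S * f) := fun i j X => by
      rw [mat_mul hA.sq hff hSf hfS, mat_mul hA.sq hff hSf hfS,
        show Matrix.single (0 : Fin 2) i (1 : F) * X * Matrix.single j (0 : Fin 2) (1 : F) =
          Matrix.single 0 0 (X i j) by simp [Matrix.single_mul_mul_single]]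
      simp [mat]
    have hne : S * f ≠ 0 := fun h0 => hA.ne (by rw [← hSf, h0, zero_mul])
    refine Subtype.ext (Matrix.ext fun i j => ?_)
    have e2 := congrArg (fun z => mat S f (Matrix.single 0 i (1 : F)) * z * mat S f (Matrix.single j 0 (1 : F))) e1
    simp only [hP] at e2
    simpa using smul_left_injective F hne e2
  have hmapU : (Cfsg.upperUnipotentSL2 F).map Φ = A := by
    refine le_antisymm ?_ fun a ha => ?_
    · rw [Cfsg.upperUnipotentSL2, MonoidHom.map_closure, Subgroup.closure_le]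
      rintro _ ⟨g, ⟨g10, g00, g11⟩, rfl⟩
      have : g = upper ((g : Matrix (Fin 2) (Fin 2) F) 0 1) := by
        refine ext_two ?_ ?_ ?_ ?_ <;> simp [upper_val, g10, g00, g11]
      rw [this]
      exact (hA.mem _).2 ⟨_, by rw [hΦ, hup]⟩
    · obtain ⟨c, hc⟩ := (hA.mem a).1 ha
      exact ⟨upper c, Subgroup.subset_closure ⟨by simp [upper_val], by simp [upper_val],
        by simp [upper_val]⟩, hι (by rw [hΦ, hup, hc])⟩
  have hmapL : (Cfsg.lowerUnipotentSL2 F).map Φ = B := by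
    refine le_antisymm ?_ fun b hb => ?_
    · rw [Cfsg.lowerUnipotentSL2, MonoidHom.map_closure, Subgroup.closure_le]
      rintro _ ⟨g, ⟨g01, g00, g11⟩, rfl⟩
      have : g = lower ((g : Matrix (Fin 2) (Fin 2) F) 1 0) := by
        refine ext_two ?_ ?_ ?_ ?_ <;> simp [lower_val, g01, g00, g11]
      rw [this]
      exact (hB.mem _).2 ⟨_, by rw [hΦ, hlow]⟩
    · obtain ⟨c, hc⟩ := (hB.mem b).1 hb
      exact ⟨lower (c * γ), Subgroup.subset_closure ⟨by simp [lower_val], by simp [lower_val],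
        by simp [lower_val]⟩, hι (by rw [hΦ, hlow, hc, mul_div_cancel_right₀ _ hγ])⟩
  have hpair := CfsgLib.Transv.rankOnePair_map hinj (Cfsg.RankOnePair_symm (Cfsg.Agent.S5016.pair (k := F)))
  rw [hmapU, hmapL] at hpair
  refine ⟨hpair, Φ, ?_, ?_, hmapU, hmapL⟩
  · rw [← hmapU, ← hmapL, ← Subgroup.map_sup, sup_comm, Cfsg.Agent.S5016.generated,
      MonoidHom.range_eq_map]
  · rw [(MonoidHom.ker_eq_bot_iff _).2 hinj]; exact bot_le

end CfsgLib.SqZero
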