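import Cfsg.Prelude.Def_RootSubgroups
import Cfsg.Agent.Lib.QuadPair.SLTwo
import Cfsg.Agent.Lib.RootSub.RankOne
import Cfsg.Agent.Lib.RootSub.Commutator
import Cfsg.Agent.S5016

/-!
# Groups of transvections as abstract root subgroups

`G` acts faithfully on a vector space `V` over `F` through `ι`; the scalars of a transvection group
range over a field `K` mapped to `F` by `κ`.
-/

set_option autoImplicit false

namespace CfsgLib.Transv

open scoped MatrixGroups commutatorElement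
open CfsgLib.QuadPair (upper lower upper_val lower_val ext_two eq_top_of_elementary upper_mul)
open CfsgLib.RootSub (conjBy_conjBy conjBy_one mem_conjBy)

variable {F K : Type*} [Field F] [Field K] {V : Type*} [AddCommGroup V] [Module F V]
  {G : Type*} [Group G]

/-- The transvection `v ↦ v + c φ(v) x`. -/
def tv (x : V) (φ : V →ₗ[F] F) (c : F) : Module.End F V := 1 + c • φ.smulRight x

theorem tv_apply (x : V) (φ : V →ₗ[F] F) (c : F) (v : V) :
    tv x φ c v = v + (c * φ v) • x := by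
  simp [tv, mul_smul]

theorem tv_mul {x : V} {φ : V →ₗ[F] F} (h : φ x = 0) (c d : F) :
    tv x φ c * tv x φ d = tv x φ (c + d) := by
  refine LinearMap.ext fun v => ?_
  simp [Module.End.mul_apply, tv_apply, h, add_mul, add_smul, add_comm, add_left_comm]

theorem tv_zero (x : V) (φ : V →ₗ[F] F) : tv x φ 0 = 1 := by
  simp [tv]

theorem tv_inj {x : V} {φ : V →ₗ[F] F} (hx : x ≠ 0) (hφ : φ ≠ 0) {c d : F}
    (h : tv x φ c = tv x φ d) : c = d := by
  obtain ⟨v, hv⟩ : ∃ v, φ v ≠ 0 := by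
    by_contra hall
    push Not at hall
    exact hφ (LinearMap.ext hall)
  have h1 := LinearMap.congr_fun h v
  rw [tv_apply, tv_apply, add_right_inj] at h1
  exact mul_right_cancel₀ hv (smul_left_injective F hx h1)

variable (ι : G →* Module.End F V) (κ : K →+* F)

/-- `A` is the group of transvections with centre `x` and axis `ker φ` over `κ K`. -/
structure TG (x : V) (φ : V →ₗ[F] F) (A : Subgroup G) : Prop where
  ne_x : x ≠ 0
  ne_φ : φ ≠ 0
  inc : φ x = 0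
  mem : ∀ g, g ∈ A ↔ ∃ c : K, ι g = tv x φ (κ c)
  surj : ∀ c : K, ∃ g, ι g = tv x φ (κ c)

/-- A set of elements with the right images makes a transvection group. -/
theorem TG.closure (hι : Function.Injective ι) {x : V} {φ : V →ₗ[F] F} (hx : x ≠ 0) (hφ : φ ≠ 0)
    (hi : φ x = 0) (hs : ∀ c : K, ∃ g, ι g = tv x φ (κ c)) {T : Set G}
    (hT : ∀ g, g ∈ T ↔ ∃ c : K, ι g = tv x φ (κ c)) : TG ι κ x φ (Subgroup.closure T) := by
  refine ⟨hx, hφ, hi, fun g => ⟨fun hg => ?_, fun hg => Subgroup.subset_closure ((hT g).2 hg)⟩, hs⟩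
  induction hg using Subgroup.closure_induction with
  | mem z hz => exact (hT z).1 hz
  | one => exact ⟨0, by rw [map_one, map_zero, tv_zero]⟩
  | mul a b _ _ iha ihb =>
    obtain ⟨c, hc⟩ := iha
    obtain ⟨d, hd⟩ := ihb
    exact ⟨c + d, by rw [map_mul, hc, hd, tv_mul hi, map_add]⟩
  | inv a _ iha =>
    obtain ⟨c, hc⟩ := iha
    obtain ⟨g, hg⟩ := hs (-c)
    refine ⟨-c, ?_⟩
    have h1 : a⁻¹ = g := inv_eq_of_mul_eq_one_right (hι (by
      rw [map_mul, hc, hg, tv_mul hi, ← map_add, add_neg_cancel, map_zero, tv_zero, map_one]))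
    rw [h1, hg]

variable {ι κ} (hι : Function.Injective ι)

include hι

theorem TG.comm {x : V} {φ : V →ₗ[F] F} {A : Subgroup G} (h : TG ι κ x φ A) :
    IsMulCommutative A := ⟨⟨fun a b => by
  obtain ⟨c, hc⟩ := (h.mem a).1 a.2
  obtain ⟨d, hd⟩ := (h.mem b).1 b.2
  exact Subtype.ext (hι (by simp only [Subgroup.coe_mul, map_mul, hc, hd, tv_mul h.inc, add_comm]))⟩⟩

omit hι in
theorem TG.exists_ne_one {x : V} {φ : V →ₗ[F] F} {A : Subgroup G} (h : TG ι κ x φ A) :
    ∃ a ∈ A, a ≠ 1 := by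
  obtain ⟨g, hg⟩ := h.surj 1
  refine ⟨g, (h.mem g).2 ⟨1, hg⟩, fun e => ?_⟩
  rw [e, map_one, ← tv_zero x φ, map_one] at hg
  exact zero_ne_one (tv_inj h.ne_x h.ne_φ hg)

omit hι in
theorem TG.ne_bot {x : V} {φ : V →ₗ[F] F} {A : Subgroup G} (h : TG ι κ x φ A) : A ≠ ⊥ := by
  obtain ⟨a, ha, ha1⟩ := h.exists_ne_one
  exact fun e => ha1 (Subgroup.mem_bot.1 (e ▸ ha))

omit hι in
theorem TG.unique {x : V} {φ : V →ₗ[F] F} {A B : Subgroup G} (h : TG ι κ x φ A)
    (h' : TG ι κ x φ B) : A = B := by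
  ext g
  rw [h.mem, h'.mem]

omit hι in
theorem conj_tv (g : G) (x : V) (φ : V →ₗ[F] F) (c : F) :
    ι g * tv x φ c * ι g⁻¹ = tv (ι g x) (φ ∘ₗ ι g⁻¹) c := by
  refine LinearMap.ext fun v => ?_
  have h1 : ι g (ι g⁻¹ v) = v := by
    rw [← Module.End.mul_apply, ← map_mul, mul_inv_cancel, map_one, Module.End.one_apply]
  simp [Module.End.mul_apply, tv_apply, h1]

omit hι in
theorem TG.conj {x : V} {φ : V →ₗ[F] F} {A : Subgroup G} (h : TG ι κ x φ A) (g : G) :
    TG ι κ (ι g x) (φ ∘ₗ ι g⁻¹) (Cfsg.conjBy A g) := by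
  have hinv : ∀ (k : G) (v : V), ι k⁻¹ (ι k v) = v := fun k v => by
    rw [← Module.End.mul_apply, ← map_mul, inv_mul_cancel, map_one, Module.End.one_apply]
  refine ⟨fun e => h.ne_x ?_, fun e => h.ne_φ ?_, by simp [hinv, h.inc], fun k => ?_, fun c => ?_⟩
  · rw [← hinv g x, e, map_zero]
  · refine LinearMap.ext fun v => ?_
    have := LinearMap.congr_fun e (ι g v)
    simpa [hinv] using this
  · rw [mem_conjBy, h.mem]
    refine exists_congr fun c => ⟨fun hc => ?_, fun hc => ?_⟩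
    · rw [← conj_tv, ← hc, ← map_mul, ← map_mul]; congr 1; group
    · rw [map_mul, map_mul, hc, ← conj_tv, mul_assoc, mul_assoc (ι g * _), ← map_mul,
        inv_mul_cancel, map_one, mul_one, ← mul_assoc, ← map_mul, inv_mul_cancel, map_one, one_mul]
  · obtain ⟨k, hk⟩ := h.surj c
    exact ⟨g * k * g⁻¹, by rw [map_mul, map_mul, hk, conj_tv]⟩

/-- Commuting case. -/
theorem commute_of_incident {x y : V} {φ ψ : V →ₗ[F] F} {a b : G} {c d : F}
    (ha : ι a = tv x φ c) (hb : ι b = tv y ψ d) (h1 : φ y = 0) (h2 : ψ x = 0) : a * b = b * a := by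
  refine hι ?_
  rw [map_mul, map_mul, ha, hb]
  refine LinearMap.ext fun v => ?_
  simp [Module.End.mul_apply, tv_apply, h1, h2]
  module

theorem commutator_eq_bot {x y : V} {φ ψ : V →ₗ[F] F} {A B : Subgroup G} (hA : TG ι κ x φ A)
    (hB : TG ι κ y ψ B) (h1 : φ y = 0) (h2 : ψ x = 0) : ⁅A, B⁆ = ⊥ :=
  CfsgLib.RootSub.commutator_eq_bot_of_commute fun a ha b hb => by
    obtain ⟨c, hc⟩ := (hA.mem a).1 ha
    obtain ⟨d, hd⟩ := (hB.mem b).1 hb
    exact commute_of_incident hι hc hd h1 h2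

omit hι in
/-- The commutator of two transvections, one centre lying on the other axis. -/
theorem tv_commutator {x y : V} {φ ψ : V →ₗ[F] F} (c d : F) (h0 : ψ x = 0) (hψ : ψ y = 0) :
    tv x φ c * tv y ψ d = tv (φ y • x) ψ (c * d) * (tv y ψ d * tv x φ c) := by
  refine LinearMap.ext fun v => ?_
  simp [Module.End.mul_apply, tv_apply, h0, hψ]
  module

theorem commutator_eq {x y : V} {φ ψ : V →ₗ[F] F} {a b z : G} {c d : F} (h0 : ψ x = 0)
    (hψ : ψ y = 0) (ha : ι a = tv x φ c) (hb : ι b = tv y ψ d)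
    (hz : ι z = tv (φ y • x) ψ (c * d)) : a * b * a⁻¹ * b⁻¹ = z := by
  have h : a * b = z * (b * a) := hι (by
    rw [map_mul, map_mul, map_mul, ha, hb, hz, tv_commutator c d h0 hψ])
  rw [h]; group

/-- Commutator case. -/
theorem commutatorCase {S : Set (Subgroup G)} {x y : V} {φ ψ : V →ₗ[F] F} {A B C : Subgroup G}
    (hA : TG ι κ x φ A) (hB : TG ι κ y ψ B) (h0 : ψ x = 0) (hC : TG ι κ (φ y • x) ψ C)
    (hCS : C ∈ S) : Cfsg.RootCommutatorCase S A B := by
  have hval : ∀ a ∈ A, ∀ b ∈ B, a * b * a⁻¹ * b⁻¹ ∈ C := by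
    intro a ha b hb
    obtain ⟨c, hc⟩ := (hA.mem a).1 ha
    obtain ⟨d, hd⟩ := (hB.mem b).1 hb
    obtain ⟨z, hz⟩ := hC.surj (c * d)
    rw [map_mul] at hz
    rw [commutator_eq hι h0 hB.inc hc hd hz]
    exact (hC.mem z).2 ⟨c * d, by rw [hz, map_mul]⟩
  have hleft : ∀ a ∈ A, a ≠ 1 →
      Subgroup.closure ((fun b : G => a * b * a⁻¹ * b⁻¹) '' (B : Set G)) = C := by
    intro a ha ha1
    obtain ⟨c, hc⟩ := (hA.mem a).1 ha
    have hc0 : c ≠ 0 := fun e => ha1 (hι (by rw [hc, e, map_zero, tv_zero, map_one]))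
    refine le_antisymm ((Subgroup.closure_le _).2 ?_) fun z hz => ?_
    · rintro _ ⟨b, hb, rfl⟩; exact hval a ha b hb
    · obtain ⟨e, he⟩ := (hC.mem z).1 hz
      obtain ⟨b, hb⟩ := hB.surj (e / c)
      refine Subgroup.subset_closure ⟨b, (hB.mem b).2 ⟨_, hb⟩, commutator_eq hι h0 hB.inc hc hb ?_⟩
      rw [he, ← map_mul, mul_div_cancel₀ _ hc0]
  have hright : ∀ b ∈ B, b ≠ 1 →
      Subgroup.closure ((fun a : G => a * b * a⁻¹ * b⁻¹) '' (A : Set G)) = C := by
    intro b hb hb1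
    obtain ⟨d, hd⟩ := (hB.mem b).1 hb
    have hd0 : d ≠ 0 := fun e => hb1 (hι (by rw [hd, e, map_zero, tv_zero, map_one]))
    refine le_antisymm ((Subgroup.closure_le _).2 ?_) fun z hz => ?_
    · rintro _ ⟨a, ha, rfl⟩; exact hval a ha b hb
    · obtain ⟨e, he⟩ := (hC.mem z).1 hz
      obtain ⟨a, ha⟩ := hA.surj (e / d)
      refine Subgroup.subset_closure ⟨a, (hA.mem a).2 ⟨_, ha⟩, commutator_eq hι h0 hB.inc ha hd ?_⟩
      rw [he, ← map_mul, div_mul_cancel₀ _ hd0]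
  have hAB : ⁅A, B⁆ = C := by
    refine le_antisymm (Subgroup.commutator_le.2 fun a ha b hb => ?_) ?_
    · rw [commutatorElement_def]; exact hval a ha b hb
    · obtain ⟨a, ha, ha1⟩ := hA.exists_ne_one
      rw [← hleft a ha ha1, Subgroup.closure_le]
      rintro _ ⟨b, hb, rfl⟩
      have := Subgroup.commutator_mem_commutator ha hb
      rwa [commutatorElement_def] at this
  refine ⟨hAB ▸ hCS, fun z hz w hw => ?_, fun a ha ha1 => by rw [hAB, hleft a ha ha1],
    fun b hb hb1 => by rw [hAB, hright b hb hb1]⟩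
  rw [hAB] at hz
  obtain ⟨e, he⟩ := (hC.mem z).1 hz
  have h1 : A ⊔ B ≤ Subgroup.centralizer ({z} : Set G) := sup_le
    (fun a ha => Subgroup.mem_centralizer_singleton_iff.2 (by
      obtain ⟨c, hc⟩ := (hA.mem a).1 ha
      exact commute_of_incident hι hc he (by simp [hA.inc]) h0))
    (fun b hb => Subgroup.mem_centralizer_singleton_iff.2 (by
      obtain ⟨d, hd⟩ := (hB.mem b).1 hb
      exact commute_of_incident hι hd he (by simp [h0]) hB.inc))
  exact (Subgroup.mem_centralizer_singleton_iff.1 (h1 hw)).symm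

omit hι in
/-- The action of a two by two matrix on a hyperbolic plane. -/
def emb (e₁ e₂ : V) (f₁ f₂ : V →ₗ[F] F) (M : Matrix (Fin 2) (Fin 2) F) : Module.End F V :=
  1 + ((M 0 0 - 1) • f₁ + M 0 1 • f₂).smulRight e₁ + (M 1 0 • f₁ + (M 1 1 - 1) • f₂).smulRight e₂

omit hι in
theorem emb_apply (e₁ e₂ : V) (f₁ f₂ : V →ₗ[F] F) (M : Matrix (Fin 2) (Fin 2) F) (v : V) :
    emb e₁ e₂ f₁ f₂ M v = v + ((M 0 0 - 1) * f₁ v + M 0 1 * f₂ v) • e₁ +
      (M 1 0 * f₁ v + (M 1 1 - 1) * f₂ v) • e₂ := by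
  simp [emb]

section Frame

variable {e₁ e₂ : V} {f₁ f₂ : V →ₗ[F] F} (h11 : f₁ e₁ = 1) (h12 : f₁ e₂ = 0) (h21 : f₂ e₁ = 0)
  (h22 : f₂ e₂ = 1)

include h11 h12 h21 h22
omit hι

theorem emb_mul (M N : Matrix (Fin 2) (Fin 2) F) :
    emb e₁ e₂ f₁ f₂ M * emb e₁ e₂ f₁ f₂ N = emb e₁ e₂ f₁ f₂ (M * N) := by
  refine LinearMap.ext fun v => ?_
  simp only [Module.End.mul_apply, emb_apply, map_add, map_smul, smul_eq_mul, h11, h12, h21, h22,
    Matrix.mul_apply, Fin.sum_univ_two, mul_zero, mul_one, add_zero, zero_add]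
  module

theorem emb_injective {M N : Matrix (Fin 2) (Fin 2) F}
    (h : emb e₁ e₂ f₁ f₂ M = emb e₁ e₂ f₁ f₂ N) : M = N := by
  have key : ∀ (f : V →ₗ[F] F) (v : V),
      f (emb e₁ e₂ f₁ f₂ M v) = f (emb e₁ e₂ f₁ f₂ N v) := fun f v => by rw [h]
  have a00 := key f₁ e₁
  have a01 := key f₁ e₂
  have a10 := key f₂ e₁
  have a11 := key f₂ e₂
  simp [emb_apply, h11, h12, h21, h22] at a00 a01 a10 a11
  ext i j
  fin_cases i <;> fin_cases j <;> assumption

omit h11 h12 h21 h22 in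
theorem emb_one : emb e₁ e₂ f₁ f₂ (1 : Matrix (Fin 2) (Fin 2) F) = 1 := by
  simp [emb]

end Frame

omit hι in
theorem rankOnePair_map {H : Type*} [Group H] {f : H →* G} (hf : Function.Injective f)
    {A B : Subgroup H} (h : Cfsg.IsRankOnePair A B) : Cfsg.IsRankOnePair (A.map f) (B.map f) := by
  have hconj : ∀ (C : Subgroup H) (k : H), Cfsg.conjBy (C.map f) (f k) = (Cfsg.conjBy C k).map f := by
    intro C k
    rw [Cfsg.conjBy, Cfsg.conjBy, Subgroup.map_map, Subgroup.map_map]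
    congr 1
    ext z
    simp
  have hcond : ∀ {U W : Subgroup H}, Cfsg.RankOneCondition U W →
      Cfsg.RankOneCondition (U.map f) (W.map f) := by
    rintro U W hc _ ⟨a, ha, rfl⟩ ha1
    obtain ⟨b, hb, hb1, he⟩ := hc a ha fun e => ha1 (by rw [e, map_one])
    refine ⟨f b, ⟨b, hb, rfl⟩, fun e => hb1 (hf (by rw [e, map_one])), ?_⟩
    rw [← map_inv, ← map_inv, hconj, hconj, he]
  haveI := h.nilpotent_left
  haveI := h.nilpotent_right
  exact ⟨fun e => h.ne (Subgroup.map_injective hf e),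
    Group.nilpotent_of_mulEquiv (A.equivMapOfInjective f hf),
    Group.nilpotent_of_mulEquiv (B.equivMapOfInjective f hf), hcond h.cond_left, hcond h.cond_right⟩

/-- The embedding of `SL₂` through an opposite pair of transvection groups. -/
theorem exists_hom {x y : V} {φ ψ : V →ₗ[F] F} {A B : Subgroup G} (hA : TG ι κ x φ A)
    (hB : TG ι κ y ψ B) (h1 : φ y ≠ 0) (h2 : ψ x ≠ 0) {γ : K} (hγ : κ γ = φ y * ψ x) :
    ∃ Φ : SL(2, K) →* G, Function.Injective Φ ∧ (∀ a : K, ι (Φ (upper a)) = tv x φ (κ a)) ∧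
      (∀ a : K, ι (Φ (lower a)) = tv y ψ (κ (a / γ))) := by
  classical
  set e₂ := (φ y)⁻¹ • y with he₂
  set f₁ := (ψ x)⁻¹ • ψ with hf₁
  have h11 : f₁ x = 1 := by simp [hf₁, h2]
  have h12 : f₁ e₂ = 0 := by simp [hf₁, he₂, hB.inc]
  have h21 : φ x = 0 := hA.inc
  have h22 : φ e₂ = 1 := by simp [he₂, h1]
  let E : SL(2, K) → Module.End F V := fun M =>
    emb x e₂ f₁ φ ((M : Matrix (Fin 2) (Fin 2) K).map κ)
  have hE : ∀ M N : SL(2, K), E M * E N = E (M * N) := fun M N => by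
    simp only [E, emb_mul h11 h12 h21 h22, Matrix.SpecialLinearGroup.coe_mul, Matrix.map_mul]
  have hE1 : E 1 = 1 := by
    simp only [E, Matrix.SpecialLinearGroup.coe_one]
    rw [Matrix.map_one _ (map_zero κ) (map_one κ), emb_one]
  have hup : ∀ a : K, E (upper a) = tv x φ (κ a) := fun a => by
    refine LinearMap.ext fun v => ?_
    simp [E, emb_apply, tv_apply, upper_val]
  have hlow : ∀ a : K, E (lower a) = tv y ψ (κ (a / γ)) := fun a => by
    refine LinearMap.ext fun v => ?_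
    have e : κ a * ((ψ x)⁻¹ * ψ v) * (φ y)⁻¹ = κ (a / γ) * ψ v := by
      rw [map_div₀, hγ]; field_simp
    simp [E, emb_apply, tv_apply, lower_val, hf₁, he₂, smul_smul, e]
  let H : Subgroup SL(2, K) :=
    { carrier := {M | ∃ g, ι g = E M}
      one_mem' := ⟨1, by rw [map_one, hE1]⟩
      mul_mem' := fun {M N} ⟨g, hg⟩ ⟨k, hk⟩ => ⟨g * k, by rw [map_mul, hg, hk, hE]⟩
      inv_mem' := fun {M} ⟨g, hg⟩ => ⟨g⁻¹, by
        calc ι g⁻¹ = ι g⁻¹ * (E M * E M⁻¹) := by rw [hE, mul_inv_cancel, hE1, mul_one]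
          _ = E M⁻¹ := by rw [← hg, ← mul_assoc, ← map_mul, inv_mul_cancel, map_one, one_mul]⟩ }
  have htop : H = ⊤ := eq_top_of_elementary H
    (fun a => by obtain ⟨g, hg⟩ := hA.surj a; exact ⟨g, by rw [hg, hup]⟩)
    (fun a => by obtain ⟨g, hg⟩ := hB.surj (a / γ); exact ⟨g, by rw [hg, hlow]⟩)
  have hall : ∀ M, ∃ g, ι g = E M := fun M => (htop ▸ Subgroup.mem_top M : M ∈ H)
  choose f hf using hall
  refine ⟨MonoidHom.mk' f fun M N => hι (by rw [map_mul, hf, hf, hf, hE]), fun M N e => ?_,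
    fun a => by rw [← hup]; exact hf _, fun a => by rw [← hlow]; exact hf _⟩
  have e1 : E M = E N := by
    rw [← hf M, ← hf N]
    exact congrArg ι e
  exact Subtype.ext (Matrix.map_injective κ.injective (emb_injective h11 h12 h21 h22 e1))

/-- Opposite case. -/
theorem opposite {x y : V} {φ ψ : V →ₗ[F] F} {A B : Subgroup G} (hA : TG ι κ x φ A)
    (hB : TG ι κ y ψ B) (h1 : φ y ≠ 0) (h2 : ψ x ≠ 0) {γ : K} (hγ : κ γ = φ y * ψ x) :
    Cfsg.IsRankOnePair A B ∧ Cfsg.IsPSL2PairOver K A B := by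
  have hγ0 : γ ≠ 0 := fun e => mul_ne_zero h1 h2 (by rw [← hγ, e, map_zero])
  obtain ⟨Φ, hinj, hu, hl⟩ := exists_hom hι hA hB h1 h2 hγ
  have hmapU : (Cfsg.upperUnipotentSL2 K).map Φ = A := by
    refine le_antisymm ?_ fun a ha => ?_
    · rw [Cfsg.upperUnipotentSL2, MonoidHom.map_closure, Subgroup.closure_le]
      rintro _ ⟨g, ⟨g10, g00, g11⟩, rfl⟩
      have : g = upper ((g : Matrix (Fin 2) (Fin 2) K) 0 1) := by
        refine ext_two ?_ ?_ ?_ ?_ <;> simp [upper_val, g10, g00, g11]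
      rw [this]
      exact (hA.mem _).2 ⟨_, hu _⟩
    · obtain ⟨c, hc⟩ := (hA.mem a).1 ha
      exact ⟨upper c, Subgroup.subset_closure ⟨by simp [upper_val], by simp [upper_val],
        by simp [upper_val]⟩, hι (by rw [hu, hc])⟩
  have hmapL : (Cfsg.lowerUnipotentSL2 K).map Φ = B := by
    refine le_antisymm ?_ fun b hb => ?_
    · rw [Cfsg.lowerUnipotentSL2, MonoidHom.map_closure, Subgroup.closure_le]
      rintro _ ⟨g, ⟨g01, g00, g11⟩, rfl⟩
      have : g = lower ((g : Matrix (Fin 2) (Fin 2) K) 1 0) := by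
        refine ext_two ?_ ?_ ?_ ?_ <;> simp [lower_val, g01, g00, g11]
      rw [this]
      exact (hB.mem _).2 ⟨_, hl _⟩
    · obtain ⟨c, hc⟩ := (hB.mem b).1 hb
      exact ⟨lower (c * γ), Subgroup.subset_closure ⟨by simp [lower_val], by simp [lower_val],
        by simp [lower_val]⟩, hι (by rw [hl, hc, mul_div_cancel_right₀ _ hγ0])⟩
  have hpair := rankOnePair_map hinj (Cfsg.RankOnePair_symm (Cfsg.Agent.S5016.pair (k := K)))
  rw [hmapU, hmapL] at hpair
  refine ⟨hpair, Φ, ?_, ?_, hmapU, hmapL⟩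
  · rw [← hmapU, ← hmapL, ← Subgroup.map_sup, sup_comm, Cfsg.Agent.S5016.generated,
      MonoidHom.range_eq_map]
  · rw [(MonoidHom.ker_eq_bot_iff _).2 hinj]; exact bot_le

omit hι

theorem pair_conj {A B : Subgroup G} (h : Cfsg.IsRankOnePair A B) : ∃ g, B = Cfsg.conjBy A g := by
  obtain ⟨a, ha, ha1⟩ := (CfsgLib.RootSub.exists_ne_one h).1
  obtain ⟨b, -, -, he⟩ := h.cond_left a ha ha1
  exact ⟨a * b⁻¹, by rw [← conjBy_conjBy, he, conjBy_conjBy, mul_inv_cancel, conjBy_one]⟩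

theorem conj_of_path {S : Set (Subgroup G)} {A B : Subgroup G}
    (h : Relation.ReflTransGen (Cfsg.FAdj S) A B) : ∃ g, B = Cfsg.conjBy A g := by
  induction h with
  | refl => exact ⟨1, (conjBy_one A).symm⟩
  | tail _ hl ih =>
    obtain ⟨g, rfl⟩ := ih
    obtain ⟨k, hk⟩ := pair_conj hl.2.2
    exact ⟨k * g, by rw [hk, conjBy_conjBy]⟩

/-- Two nonzero functionals have a common non-zero value. -/
theorem exists_common {f g : V →ₗ[F] F} (hf : f ≠ 0) (hg : g ≠ 0) : ∃ v, f v ≠ 0 ∧ g v ≠ 0 := by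
  obtain ⟨u, hu⟩ : ∃ u, f u ≠ 0 := by
    by_contra hall
    push Not at hall
    exact hf (LinearMap.ext hall)
  obtain ⟨w, hw⟩ : ∃ w, g w ≠ 0 := by
    by_contra hall
    push Not at hall
    exact hg (LinearMap.ext hall)
  by_cases h1 : g u = 0
  · by_cases h2 : f w = 0
    · exact ⟨u + w, by simp [h2, hu], by simp [h1, hw]⟩
    · exact ⟨w, h2, hw⟩
  · exact ⟨u, hu, h1⟩

end CfsgLib.Transv
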