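import Cfsg.Agent.Lib.RootSub.Transvection
import Cfsg.Agent.Lib.Classical.SLBasic

/-!
# The transvection groups of the special linear group
-/

set_option autoImplicit false

namespace CfsgLib.Transv.SL

open Matrix
open scoped commutatorElement

variable {F : Type*} [Field F] {N : ℕ}

local notation "W" => (Fin N → F)
local notation "SLN" => Matrix.SpecialLinearGroup (Fin N) F

variable (F N) in
/-- The natural action. -/
def act : SLN →* Module.End F W where
  toFun g := Matrix.mulVecLin g.1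
  map_one' := LinearMap.ext fun v => by simp
  map_mul' g h := LinearMap.ext fun v => by simp [Matrix.mulVec_mulVec]

theorem act_injective : Function.Injective (act F N) := fun g h e =>
  Subtype.ext (Matrix.toLin'.injective e)

theorem act_transvection {i j : Fin N} (hij : i ≠ j) (c : F) :
    act F N (Matrix.SpecialLinearGroup.transvection hij c) =
      tv (Pi.single i (1 : F)) (LinearMap.proj j) c := by
  refine LinearMap.ext fun v => ?_
  rw [tv_apply]
  show Matrix.transvection i j c *ᵥ v = _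
  ext k
  simp only [Matrix.transvection, Matrix.add_mulVec, Matrix.one_mulVec, Matrix.single_mulVec,
    Pi.add_apply, Pi.smul_apply, LinearMap.proj_apply, smul_eq_mul]
  by_cases h : k = i <;> simp [h]

theorem exists_tv {x : W} {φ : W →ₗ[F] F} (h : φ x = 0) (c : F) :
    ∃ g, act F N g = tv x φ c := by
  classical
  set w : Fin N → F := fun j => φ (fun k => if k = j then 1 else 0) with hw
  have hφ : ∀ v : W, φ v = w ⬝ᵥ v := by
    intro v
    rw [LinearMap.pi_apply_eq_sum_univ φ v, dotProduct]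
    refine Finset.sum_congr rfl fun j _ => ?_
    rw [hw, smul_eq_mul, mul_comm]
    simp [eq_comm]
  set M : Matrix (Fin N) (Fin N) F := 1 + replicateCol Unit (c • x) * replicateRow Unit w with hM
  have hdet : M.det = 1 := by
    rw [hM, det_one_add_replicateCol_mul_replicateRow, dotProduct_smul, ← hφ, h, smul_zero, add_zero]
  refine ⟨⟨M, hdet⟩, LinearMap.ext fun v => ?_⟩
  show M *ᵥ v = _
  rw [tv_apply, hφ, hM, Matrix.add_mulVec, Matrix.one_mulVec]
  ext k
  simp [Matrix.mulVec, Matrix.mul_apply, dotProduct, Finset.mul_sum, Finset.sum_mul, mul_comm,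
    mul_left_comm]

/-- The set of all transvection groups. -/
def fam (F : Type*) [Field F] (N : ℕ) : Set (Subgroup (Matrix.SpecialLinearGroup (Fin N) F)) :=
  {A | ∃ (x : Fin N → F) (φ : (Fin N → F) →ₗ[F] F), TG (act F N) (RingHom.id F) x φ A}

theorem fam_exists {x : W} {φ : W →ₗ[F] F} (hx : x ≠ 0) (hφ : φ ≠ 0) (h : φ x = 0) :
    ∃ A, A ∈ fam F N ∧ TG (act F N) (RingHom.id F) x φ A := by
  have hT := TG.closure (act F N) (RingHom.id F) act_injective hx hφ h
    (fun c => exists_tv h c) (T := {g | ∃ c : F, act F N g = tv x φ c}) (fun g => Iff.rfl)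
  exact ⟨_, ⟨x, φ, hT⟩, hT⟩

/-- The three cases. -/
theorem fam_cases {A B : Subgroup SLN} (hA : A ∈ fam F N) (hB : B ∈ fam F N) :
    ⁅A, B⁆ = ⊥ ∨ (Cfsg.IsRankOnePair A B ∧ Cfsg.IsPSL2PairOver F A B) ∨
      Cfsg.RootCommutatorCase (fam F N) A B := by
  obtain ⟨x, φ, hA'⟩ := hA
  obtain ⟨y, ψ, hB'⟩ := hB
  by_cases h1 : φ y = 0 <;> by_cases h2 : ψ x = 0
  · exact Or.inl (commutator_eq_bot act_injective hA' hB' h1 h2)
  · obtain ⟨C, hC, hC'⟩ := fam_exists (x := ψ x • y) (φ := φ) (smul_ne_zero h2 hB'.ne_x) hA'.ne_φ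
      (by rw [map_smul, h1, smul_zero])
    exact Or.inr (Or.inr (CfsgLib.RootSub.case_symm
      (commutatorCase act_injective hB' hA' h1 hC' hC)))
  · obtain ⟨C, hC, hC'⟩ := fam_exists (x := φ y • x) (φ := ψ) (smul_ne_zero h1 hA'.ne_x) hB'.ne_φ
      (by rw [map_smul, h2, smul_zero])
    exact Or.inr (Or.inr (commutatorCase act_injective hA' hB' h2 hC' hC))
  · exact Or.inr (Or.inl (opposite act_injective hA' hB' h1 h2 (γ := φ y * ψ x) rfl))

theorem fam_connected : Cfsg.IsConnectedFamily (Cfsg.FAdj (fam F N)) (fam F N) := by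
  rintro A ⟨x, φ, hA⟩ B ⟨y, ψ, hB⟩
  obtain ⟨z, hz1, hz2⟩ := exists_common hA.ne_φ hB.ne_φ
  set U : Submodule F (Module.Dual F W) := LinearMap.ker (Module.Dual.eval F W z) with hU
  have hout : ∀ u : W, u ≠ 0 → (∀ t : F, t • z ≠ u) → (Module.Dual.eval F W u).domRestrict U ≠ 0 := by
    intro u _ hu e
    have hu' : u ∉ Submodule.span F ({z} : Set W) := fun hm => by
      obtain ⟨t, ht⟩ := Submodule.mem_span_singleton.1 hm
      exact hu t ht
    obtain ⟨θ, hθ1, hθ2⟩ := Submodule.exists_dual_map_eq_bot_of_notMem hu' inferInstance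
    have hθz : θ z = 0 := by
      have : θ z ∈ (Submodule.span F ({z} : Set W)).map θ :=
        ⟨z, Submodule.mem_span_singleton_self z, rfl⟩
      rwa [hθ2, Submodule.mem_bot] at this
    exact hθ1 (LinearMap.congr_fun e ⟨θ, hθz⟩)
  have hx' := (hout x hA.ne_x fun t ht => by
      have h0 := hA.inc
      rw [← ht, map_smul, smul_eq_mul, mul_eq_zero] at h0
      rcases h0 with h0 | h0
      · rw [h0, zero_smul] at ht; exact hA.ne_x ht.symm
      · exact hz1 h0)
  have hy' := (hout y hB.ne_x fun t ht => by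
      have h0 := hB.inc
      rw [← ht, map_smul, smul_eq_mul, mul_eq_zero] at h0
      rcases h0 with h0 | h0
      · rw [h0, zero_smul] at ht; exact hB.ne_x ht.symm
      · exact hz2 h0)
  obtain ⟨⟨θ, hθ⟩, hθ1, hθ2⟩ := exists_common (F := F) (V := ↥U) hx' hy'
  have hθz : θ z = 0 := hθ
  have hθx : θ x ≠ 0 := hθ1
  have hθy : θ y ≠ 0 := hθ2
  obtain ⟨C, hC, hC'⟩ := fam_exists (x := z) (φ := θ) (fun e => hz1 (by rw [e, map_zero]))
    (fun e => hθx (by rw [e, LinearMap.zero_apply])) hθz
  have p1 := (opposite act_injective hA hC' hz1 hθx (γ := φ z * θ x) rfl).1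
  have p2 := (opposite act_injective hC' hB hθy hz2 (γ := θ y * ψ z) rfl).1
  exact (Relation.ReflTransGen.single ⟨⟨x, φ, hA⟩, hC, p1⟩).trans
    (Relation.ReflTransGen.single ⟨hC, ⟨y, ψ, hB⟩, p2⟩)

theorem tg_elementary {i j : Fin N} (hij : i ≠ j) {T : Set SLN}
    (hT : ∀ t, t ∈ T ↔ ∃ c : F, (t : Matrix (Fin N) (Fin N) F) = Matrix.transvection i j c) :
    TG (act F N) (RingHom.id F) (Pi.single i (1 : F)) (LinearMap.proj j) (Subgroup.closure T) := by
  have hx : (Pi.single i (1 : F) : W) ≠ 0 := fun e => by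
    have := congrFun e i
    simp at this
  have hφ : (LinearMap.proj j : W →ₗ[F] F) ≠ 0 := fun e => by
    have := LinearMap.congr_fun e (Pi.single j (1 : F))
    simp at this
  refine TG.closure (act F N) (RingHom.id F) act_injective hx hφ (by simp [hij.symm])
    (fun c => ⟨_, act_transvection hij c⟩) fun t => ?_
  rw [hT]
  refine exists_congr fun c => ⟨fun e => ?_, fun e => ?_⟩
  · have : t = Matrix.SpecialLinearGroup.transvection hij c := Subtype.ext e
    rw [this, act_transvection, RingHom.id_apply]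
  · have : t = Matrix.SpecialLinearGroup.transvection hij c :=
      act_injective (by rw [act_transvection, e, RingHom.id_apply])
    rw [this]
    rfl

theorem fam_eq_conj {A₀ : Subgroup SLN} (h : A₀ ∈ fam F N) :
    fam F N = {A | ∃ g, A = Cfsg.conjBy A₀ g} := by
  ext A
  refine ⟨fun hA => conj_of_path (fam_connected A₀ h A hA), ?_⟩
  rintro ⟨g, rfl⟩
  obtain ⟨x, φ, h'⟩ := h
  exact ⟨_, _, h'.conj g⟩

theorem fam_top : (⨆ A ∈ fam F N, A) = ⊤ := by
  refine CfsgLib.Classical.sl_eq_top _ fun i j hij c => ?_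
  have hT := tg_elementary (T := {t : SLN | ∃ c : F,
    (t : Matrix (Fin N) (Fin N) F) = Matrix.transvection i j c}) hij fun t => Iff.rfl
  have hle : Subgroup.closure {t : SLN | ∃ c : F, (t : Matrix (Fin N) (Fin N) F) =
      Matrix.transvection i j c} ≤ ⨆ A ∈ fam F N, A :=
    le_iSup₂ (f := fun (A : Subgroup SLN) (_ : A ∈ fam F N) => A) _ ⟨_, _, hT⟩
  exact hle (Subgroup.subset_closure ⟨c, rfl⟩)

theorem fam_rootSet : Cfsg.IsRootSubgroupSet (fam F N) := by
  refine ⟨?_, ?_, fam_top, ?_, fun A hA B hB => ?_⟩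
  · rintro A ⟨x, φ, h⟩; exact h.comm act_injective
  · rintro A ⟨x, φ, h⟩; exact h.ne_bot
  · rintro A ⟨x, φ, h⟩ g; exact ⟨_, _, h.conj g⟩
  · rcases fam_cases hA hB with h | h | h
    · exact Or.inl h
    · exact Or.inr (Or.inl h.1)
    · exact Or.inr (Or.inr h)

theorem fam_kRoot : Cfsg.IsKRootSubgroupSet F (fam F N) := by
  refine ⟨fam_rootSet, fun A hA B hB hp => ?_⟩
  rcases fam_cases hA hB with h | h | h
  · exact absurd h (CfsgLib.RootSub.not_commutator_bot hp)
  · exact h.2
  · exact absurd hp (CfsgLib.RootSub.not_pair_of_case fam_rootSet hA h)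

end CfsgLib.Transv.SL
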