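import Cfsg.Prelude.Def_RootSubgroups
import Mathlib

/-!
# Root involutions: three commuting members with product one

If `α, β, αβ` are commuting members of a set of root involutions and `r` has product of odd order
greater than one with `αβ`, then it has such a product with `α` or with `β`.
-/

set_option autoImplicit false

namespace CfsgLib.RootInvol

variable {G : Type*} [Group G] {D : Set G}

theorem mul_self (hD : Cfsg.IsRootInvolutionSet D) {d : G} (hd : d ∈ D) : d * d = 1 := by
  rw [← pow_two, ← hD.orderOf_eq d hd, pow_orderOf_eq_one]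

theorem inv_eq (hD : Cfsg.IsRootInvolutionSet D) {d : G} (hd : d ∈ D) : d⁻¹ = d :=
  inv_eq_of_mul_eq_one_right (mul_self hD hd)

theorem orderOf_mul_comm (hD : Cfsg.IsRootInvolutionSet D) {a b : G} (ha : a ∈ D) (hb : b ∈ D) :
    orderOf (b * a) = orderOf (a * b) := by
  rw [← orderOf_inv (a * b), mul_inv_rev, inv_eq hD ha, inv_eq hD hb]

theorem oddAdj_symm (hD : Cfsg.IsRootInvolutionSet D) {a b : G} (h : Cfsg.OddAdj D a b) :
    Cfsg.OddAdj D b a :=
  ⟨h.2.1, h.1, Ne.symm h.2.2.1, by rw [orderOf_mul_comm hD h.1 h.2.1]; exact h.2.2.2⟩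

theorem commute_not_odd (hD : Cfsg.IsRootInvolutionSet D) {a b : G} (ha : a ∈ D) (hb : b ∈ D)
    (hne : a ≠ b) (hc : a * b = b * a) : ¬ Odd (orderOf (a * b)) := by
  intro hodd
  apply hne
  have h2 : (a * b) ^ 2 = 1 := by
    rw [(show Commute a b from hc).mul_pow, pow_two, pow_two, mul_self hD ha, mul_self hD hb, one_mul]
  have h1 : orderOf (a * b) = 1 := by
    rcases (Nat.dvd_prime Nat.prime_two).1 (orderOf_dvd_of_pow_eq_one h2) with h | h
    · exact h
    · rw [h] at hodd; exact absurd hodd (by decide)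
  rw [orderOf_eq_one_iff] at h1
  rw [← inv_eq hD hb]
  exact eq_inv_of_mul_eq_one_left h1

/-- Two members joined by a product of odd order are conjugate. -/
theorem conj_of_odd (hD : Cfsg.IsRootInvolutionSet D) {a b : G} (ha : a ∈ D) (hb : b ∈ D)
    (h : Odd (orderOf (a * b))) : ∃ g : G, b = g * a * g⁻¹ := by
  obtain ⟨m, hm⟩ := h
  refine ⟨(a * b) ^ m, ?_⟩
  have hinv : a * ((a * b) ^ m)⁻¹ = (a * b) ^ m * a := by
    have h1 : a * (a * b)⁻¹ * a⁻¹ = a * b := by
      rw [mul_inv_rev, inv_eq hD ha, inv_eq hD hb, mul_assoc a (b * a), mul_assoc b a,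
        mul_self hD ha, mul_one]
    rw [← inv_pow, ← mul_inv_eq_iff_eq_mul, ← conj_pow, h1]
  have h0 : (a * b) ^ (2 * m + 1) = 1 := by rw [← hm, pow_orderOf_eq_one]
  rw [pow_succ, mul_eq_one_iff_eq_inv] at h0
  rw [mul_assoc, hinv, ← mul_assoc, ← pow_add, ← two_mul, h0, mul_inv_rev, inv_eq hD ha,
    inv_eq hD hb, mul_assoc, mul_self hD ha, mul_one]

/-- A central factor of order two doubles an odd order, which is impossible for a pair in `D`. -/
theorem eq_one_of_twist (hD : Cfsg.IsRootInvolutionSet D) {u v α w : G} (hu : u ∈ D) (hv : v ∈ D)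
    (hα : α ∈ D) (hc : Commute α w) (hodd : Odd (orderOf w)) (he : u * v = α * w) : w = 1 := by
  have hcop : (orderOf α).Coprime (orderOf w) := by
    rw [hD.orderOf_eq α hα]; exact Nat.coprime_two_left.2 hodd
  have hord : orderOf (u * v) = 2 * orderOf w := by
    rw [he, hc.orderOf_mul_eq_mul_orderOf_of_coprime hcop, hD.orderOf_eq α hα]
  obtain ⟨m, hm⟩ := hodd
  rcases hD.pair u hu v hv with h | h | ⟨h, -⟩
  · have h2 : (u * v) ^ 2 = 1 := by
      rw [(show Commute u v from h).mul_pow, pow_two, pow_two, mul_self hD hu, mul_self hD hv, one_mul]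
    have h3 := Nat.le_of_dvd (by norm_num) (orderOf_dvd_of_pow_eq_one h2)
    rw [← orderOf_eq_one_iff]
    omega
  · rw [hord] at h
    exact absurd (even_two_mul _) (Nat.not_even_iff_odd.2 h)
  · omega

/-- **The triple lemma.** -/
theorem triple (hD : Cfsg.IsRootInvolutionSet D) {α β r : G} (hα : α ∈ D) (hβ : β ∈ D)
    (hγ : α * β ∈ D) (hc : α * β = β * α) (hr : r ∈ D) (hne : α * β ≠ r)
    (hodd : Odd (orderOf (α * β * r))) :
    (α ≠ r ∧ Odd (orderOf (α * r))) ∨ (β ≠ r ∧ Odd (orderOf (β * r))) := by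
  have sa : α * α = 1 := mul_self hD hα
  have sb : β * β = 1 := mul_self hD hβ
  have sr : r * r = 1 := mul_self hD hr
  have hw : α * β * r ≠ 1 := fun e => hne (by rw [← inv_eq hD hr]; exact eq_inv_of_mul_eq_one_left e)
  have hβeq : β = α * (α * β) := by rw [← mul_assoc, sa, one_mul]
  have hαeq : α = β * (α * β) := by rw [hc, ← mul_assoc, sb, one_mul]
  have na : α * r ≠ r * α := fun h => hw (eq_one_of_twist hD hβ hr hα
    (Commute.mul_right (Commute.mul_right (Commute.refl α) hc) h) hodd
    (by rw [← mul_assoc α, ← hβeq]))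
  have nb : β * r ≠ r * β := fun h => hw (eq_one_of_twist hD hα hr hβ
    (Commute.mul_right (Commute.mul_right hc.symm (Commute.refl β)) h) hodd
    (by rw [← mul_assoc β, ← hαeq]))
  by_contra hcon
  rw [not_or, not_and, not_and] at hcon
  have four : ∀ x ∈ D, x * r ≠ r * x → (x ≠ r → ¬ Odd (orderOf (x * r))) →
      orderOf (x * r) = 4 ∧ (x * r) ^ 2 ∈ D := by
    intro x hx hxr hno
    rcases hD.pair x hx r hr with h | h | h
    · exact absurd h hxr
    · exact absurd h (hno fun e => hxr (by rw [e]))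
    · exact h
  obtain ⟨oa, fa⟩ := four α hα na hcon.1
  obtain ⟨ob, -⟩ := four β hβ nb hcon.2
  have sq_comm : ∀ x : G, x * x = 1 → orderOf (x * r) = 4 → Commute x (r * x * r) := by
    intro x sx hx
    have h4 : (x * r) ^ 4 = 1 := by rw [← hx, pow_orderOf_eq_one]
    have h1 : x * (r * x * r) * (x * (r * x * r)) = 1 := by
      rw [← h4]; simp only [pow_succ, pow_zero, one_mul, mul_assoc]
    have h2 : (x * (r * x * r))⁻¹ = r * x * r * x := by
      rw [mul_inv_rev, mul_inv_rev, mul_inv_rev, inv_eq_of_mul_eq_one_right sx,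
        inv_eq_of_mul_eq_one_right sr]
      simp only [mul_assoc]
    show x * (r * x * r) = r * x * r * x
    rw [← h2]
    exact eq_inv_of_mul_eq_one_left h1
  have ca := sq_comm α sa oa
  have cb := sq_comm β sb ob
  set a := r * α * r with hadef
  set b := r * β * r with hbdef
  have hab : α * b * (α * b) * (α * b) * (α * b) = 1 := by
    have hbD : b ∈ D := by
      have := hD.conj_mem β hβ r; rwa [inv_eq hD hr] at this
    have h4 : (α * b) ^ 4 = 1 := by
      rcases hD.pair α hα b hbD with h | h | ⟨h, -⟩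
      · rw [show 4 = 2 * 2 from rfl, pow_mul, (show Commute α b from h).mul_pow, pow_two α, pow_two b,
          sa, mul_self hD hbD, one_mul, one_pow]
      · have hfa : α * a ∈ D := by
          rw [show α * a = (α * r) ^ 2 by rw [pow_two, hadef]; simp only [mul_assoc]]
          exact fa
        have hba : orderOf (β * a) = orderOf (α * b) := by
          rw [show β * a = r * (α * b)⁻¹ * r⁻¹ by
            rw [hadef, hbdef, mul_inv_rev, mul_inv_rev, mul_inv_rev, inv_eq hD hα, inv_eq hD hβ,
              inv_eq hD hr]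
            simp only [mul_assoc, ← mul_assoc r r, sr, one_mul]]
          rw [show r * (α * b)⁻¹ * r⁻¹ = MulAut.conj r (α * b)⁻¹ from rfl, MulEquiv.orderOf_eq,
            orderOf_inv]
        have h1 := eq_one_of_twist hD hβ hfa hα
          (Commute.mul_right hc ca) (by rw [hba]; exact h) (by
            rw [← mul_assoc β α a, ← hc, mul_assoc])
        rw [← orderOf_eq_one_iff, hba, orderOf_eq_one_iff] at h1
        rw [h1, one_pow]
      · rw [← h, pow_orderOf_eq_one]
    simpa [pow_succ] using h4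
  have hba4 : (β * a) ^ 4 = 1 := by
    have e : β * a = r * (α * b)⁻¹ * r⁻¹ := by
      rw [hadef, hbdef, mul_inv_rev, mul_inv_rev, mul_inv_rev, inv_eq hD hα, inv_eq hD hβ,
        inv_eq hD hr]
      simp only [mul_assoc, ← mul_assoc r r, sr, one_mul]
    rw [e, conj_pow, inv_pow, show (α * b) ^ 4 = 1 by simpa [pow_succ] using hab, inv_one, mul_one,
      mul_inv_cancel]
  have hcomm : Commute (β * a) (α * b) := by
    have hba' : Commute b a := by
      show r * β * r * (r * α * r) = r * α * r * (r * β * r)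
      simp only [mul_assoc, ← mul_assoc r r, sr, one_mul]
      rw [← mul_assoc β, ← hc, mul_assoc]
    exact Commute.mul_left (Commute.mul_right hc.symm cb) (Commute.mul_right ca.symm hba'.symm)
  have hsq : (α * β * r) ^ 2 = β * a * (α * b) := by
    rw [pow_two, mul_assoc β a, ← mul_assoc a α, ← ca.eq, mul_assoc α a, ← mul_assoc β α, ← hc, hadef,
      hbdef]
    simp only [mul_assoc, ← mul_assoc r r, sr, one_mul]
  have h8 : (α * β * r) ^ 8 = 1 := by
    rw [show 8 = 2 * 4 from rfl, pow_mul, hsq, hcomm.mul_pow, hba4,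
      show (α * b) ^ 4 = 1 by simpa [pow_succ] using hab, one_mul]
  apply hw
  rw [← orderOf_eq_one_iff]
  have hd := orderOf_dvd_of_pow_eq_one h8
  have hcop : Nat.Coprime (orderOf (α * β * r)) (2 ^ 3) :=
    (Nat.coprime_two_right.2 hodd).pow_right 3
  exact Nat.eq_one_of_dvd_coprimes hcop dvd_rfl hd

end CfsgLib.RootInvol
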